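import Cfsg.Agent.Omega.IId.SymWrD.Ht.AlphaA

/-!
# II.d, `SwCv`, T-T: `O₂(C_G(σ_i d)) ≤ S0`, `m = 2`, II (bb OMEGA #22419, helper666)

* `o2_le_S0` : **`O₂(C_G(σ_i d)) ≤ S0`**, `m = 2`.
-/

set_option autoImplicit false
set_option linter.unusedSectionVars false

namespace Cfsg.Agent.Omega.IId.SymWrD.AlphaA

open Subgroup Pointwise Cfsg Cfsg.Agent.Omega.MinPar Cfsg.Agent.Omega.FFThm
open Cfsg.Agent.ZN (o2 zc)
open Cfsg.Agent.Omega.IId.SwB (S0 mem_S0 S0_le S0_fst S0_comm Q_le_S0 syl_S0 exists_in)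
open Cfsg.Agent.Omega.IId.SymWrD.Ht (DD mem_DD)
open Cfsg.Agent.Omega.Half.SymA (Pt E Mv pm Amb0)
open Cfsg.Agent.MinSimple.VModule (mem_zc zc_le le_normalizer_o2 o2_isPGroup o2_le)
open Triangle (KK KK_conj KK_le_o2 mem_cent mem_KK mem_zpowers_iff_of_sq cent_conj o2_cent_conj)
open Big (cz qz conj_mem norm_of conj_of_comm comm_of_conj le_o2_of norm_o2)

universe u

variable {G : Type u} [Group G] {P V : Subgroup G} {k m : ℕ} {S : Sylow 2 G} {M : SymK (S : Subgroup G) P V ⊥ k m}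

section tools

variable (h : Sit S P V M)
include h

/-- `V ∩ DD M = 1` -/
theorem eq_one_of_DD {v : G} (hv : v ∈ V) (hd : v ∈ DD M) : v = 1 := by
  classical
  refine eq_one_of_const M h.hm1 hv fun p q hpq _ => ?_
  obtain ⟨g, hg, hgp⟩ := Ht.RD.exists_swapP h hpq
  have h1 := (mem_DD.1 hd).2 g hg fun r => by rw [hgp]; exact swap_fst' h hpq r
  have h2 := (h.comm_iff hg hv).1 h1 p
  rw [hgp, Equiv.swap_apply_left] at h2
  exact h2.symm

/-- `DD M` is normalised by `S` -/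
theorem DD_conj {s d : G} (hs : s ∈ P) (hd : d ∈ DD M) : s * d * s⁻¹ ∈ DD M := by
  refine mem_DD.2 ⟨Sit.zz_conj hs (mem_DD.1 hd).1, fun g hg hg1 => ?_⟩
  have h1 := (mem_DD.1 hd).2 (s⁻¹ * g * s) (mul_mem (mul_mem (inv_mem hs) hg) hs) fun r => by
    rw [h.mul (mul_mem (inv_mem hs) hg) hs, h.mul (inv_mem hs) hg, h.inv hs]
    have h2 : (pp M g (pp M s r)).1 = (pp M s r).1 := hg1 _
    have h3 : ((pp M s)⁻¹ (pp M g (pp M s r))).1 = ((pp M s)⁻¹ (pp M s r)).1 := by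
      rw [← h.inv hs]
      exact h.fst (inv_mem hs) h2
    rw [Equiv.Perm.mul_apply, Equiv.Perm.mul_apply, h3]
    rw [show (pp M s)⁻¹ (pp M s r) = r from (pp M s).symm_apply_apply r]
  calc g * (s * d * s⁻¹) = s * (s⁻¹ * g * s * d) * s⁻¹ := by group
    _ = s * d * s⁻¹ * g := by rw [h1]; group

/-- the action on the `σ` -/
theorem conj_sg {s : G} (hs : s ∈ (S : Subgroup G)) (p : Pt k m) :
    s * (sg h p.1).val * s⁻¹ = (sg h (pp M s p).1).val := by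
  have hsP := h.SP hs
  refine Half.SymA.inj M (h.amb.conj_mem hsP (sg_mem h _)) (sg_mem h _) fun r => ?_
  rw [E_conj' hsP (sg_mem h _), E_sg, E_sg]
  obtain ⟨r', hr'⟩ : ∃ r', r' = (pp M s)⁻¹ r := ⟨_, rfl⟩
  have h1 : pp M s r' = r := by rw [hr']; exact (pp M s).apply_symm_apply r
  rw [← hr', ← h1]
  have h2 : r'.1 = p.1 ↔ (pp M s r').1 = (pp M s p).1 := by
    refine ⟨fun e => h.fst hsP e, fun e => ?_⟩
    have h3 := h.fst (inv_mem hsP) e
    rw [h.inv hsP] at h3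
    rwa [show (pp M s)⁻¹ (pp M s r') = r' from (pp M s).symm_apply_apply r',
      show (pp M s)⁻¹ (pp M s p) = p from (pp M s).symm_apply_apply p] at h3
  have h3 : r'.2 = 0 ↔ (pp M s r').2 = 0 := (h.snd hs).symm
  simp only [h2, h3]

end tools

section main

variable [Finite G] (h : SD S P V M) (zv : zc (o2 P) ≤ V ⊔ DD M) {μ ν : Equiv.Perm (Pt k m)} (F : Fours M μ ν)
  (hm2 : m = 2) {x : Pt k m} (hx : x.2 ≠ 0) {d : G} (hd : d ∈ DD M)
  {w : G} (hwO : w ∈ qz ((sg h.toSit x.1).val * d)) (hw1 : ∀ s ∈ S0 h.toSit, w * s * w⁻¹ ∈ S0 h.toSit)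
  (hw2 : ∀ s ∈ S0 h.toSit, w⁻¹ * s * w ∈ S0 h.toSit)
  (hwσ : w * (sg h.toSit x.1).val ≠ (sg h.toSit x.1).val * w)

include h

/-- an element fixed by `S0` and supported in a summand is `1` or `σ` -/
theorem fixed_one {t : G} (ht : t ∈ V) (h1 : ∀ p : Pt k m, p.1 ≠ x.1 → E M t p = 0)
    (h2 : ∀ s ∈ S0 h.toSit, s * t = t * s) : t = 1 ∨ t = (sg h.toSit x.1).val := by
  have h3 : ∀ a b : Pt k m, a.1 = x.1 → b.1 = x.1 → a.2 ≠ 0 → b.2 ≠ 0 → E M t a = E M t b := by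
    intro a b ha hb ha0 hb0
    obtain ⟨s, hs, h4, -⟩ := exists_in h.toSit (ha.trans hb.symm) ha0 hb0
    rw [← h4]
    exact ((h.comm_iff (h.SP (S0_le h.toSit hs)) ht).1 (h2 s hs) a).symm
  obtain ⟨y₀, hy₀⟩ := SwB.exists_ne_zero h.hm1
  have h4 : E M t (x.1, 0) = 0 := Half.SymA.even0 M h.hm1 ht (i := x.1) (c := E M t (x.1, y₀))
    fun y hy => h3 _ _ rfl rfl hy hy₀
  rcases Half.SymA.zmod2 (E M t (x.1, y₀)) with h5 | h5
  · left
    refine Half.SymA.eq_one M ht fun p => ?_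
    by_cases hp : p.1 = x.1
    · by_cases hp0 : p.2 = 0
      · rw [show p = (x.1, 0) from Prod.ext hp hp0]; exact h4
      · rw [h3 p (x.1, y₀) hp rfl hp0 hy₀]; exact h5
    · exact h1 p hp
  · right
    refine Half.SymA.inj M ht (sg_mem h.toSit x.1) fun p => ?_
    rw [E_sg]
    by_cases hp : p.1 = x.1
    · rw [if_pos hp]
      by_cases hp0 : p.2 = 0
      · rw [if_pos hp0, show p = (x.1, 0) from Prod.ext hp hp0]; exact h4
      · rw [if_neg hp0, h3 p (x.1, y₀) hp rfl hp0 hy₀]; exact h5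
    · rw [if_neg hp]; exact h1 p hp

include hw2 in
/-- `τ = w σ w⁻¹` is centralised by `S0` -/
theorem tau_S0 {s : G} (hs : s ∈ S0 h.toSit) :
    s * (w * (sg h.toSit x.1).val * w⁻¹) = w * (sg h.toSit x.1).val * w⁻¹ * s := by
  have h1 := S0_comm h.toSit (hw2 s hs) x.1
  calc s * (w * (sg h.toSit x.1).val * w⁻¹) = w * (w⁻¹ * s * w * (sg h.toSit x.1).val) * w⁻¹ := by group
    _ = w * (sg h.toSit x.1).val * w⁻¹ * s := by rw [h1]; group

theorem tau_sq : w * (sg h.toSit x.1).val * w⁻¹ * (w * (sg h.toSit x.1).val * w⁻¹) = 1 := by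
  calc w * (sg h.toSit x.1).val * w⁻¹ * (w * (sg h.toSit x.1).val * w⁻¹) =
      w * ((sg h.toSit x.1).val * (sg h.toSit x.1).val) * w⁻¹ := by group
    _ = 1 := by rw [h.Vsq (sg_mem h.toSit x.1)]; group

theorem tau_ne_one (hx : x.2 ≠ 0) : w * (sg h.toSit x.1).val * w⁻¹ ≠ 1 := by
  intro e
  have h1 : (sg h.toSit x.1).val = 1 := by
    calc (sg h.toSit x.1).val = w⁻¹ * (w * (sg h.toSit x.1).val * w⁻¹) * w := by group
      _ = 1 := by rw [e]; group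
  have h2 := E_sg h.toSit x.1 x
  rw [h1, Half.SymA.E_one, if_pos rfl, if_neg hx] at h2
  exact zero_ne_one h2

include hwσ in
theorem tau_ne : w * (sg h.toSit x.1).val * w⁻¹ ≠ (sg h.toSit x.1).val := fun e => hwσ (mul_inv_eq_iff_eq_mul.1 e)

include F hm2 hx hw2 in
/-- the conjugates of `y' = w n w⁻¹` under `S0` -/
theorem y_S0 {s : G} (hs : s ∈ S0 h.toSit) :
    s * (w * pr M x (μ x) * w⁻¹) * s⁻¹ = w * pr M x (μ x) * w⁻¹ ∨
      s * (w * pr M x (μ x) * w⁻¹) * s⁻¹ = w * (sg h.toSit x.1).val * w⁻¹ * (w * pr M x (μ x) * w⁻¹) := by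
  have hs' := hw2 s hs
  have hs'S := S0_le h.toSit hs'
  have h1 := h.conj_pr (h.SP hs'S) (F.mfst x).symm
  rw [F.meqv _ hs'S] at h1
  have h2 : s * (w * pr M x (μ x) * w⁻¹) * s⁻¹ =
      w * (w⁻¹ * s * w * pr M x (μ x) * (w⁻¹ * s * w)⁻¹) * w⁻¹ := by group
  rw [h2, h1]
  have hl : (pp M (w⁻¹ * s * w) x).1 = x.1 := S0_fst h.toSit hs' x
  have hl0 : (pp M (w⁻¹ * s * w) x).2 ≠ 0 := fun e => hx ((h.snd hs'S).1 e)
  have hb : pr M (ν x) (μ (ν x)) = (sg h.toSit x.1).val * pr M x (μ x) := by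
    rw [sg_eq h.toSit F hm2 hx, h.Vcomm (pr_mem M x (μ x)) (pr_mem M (ν x) (μ (ν x))), mul_assoc, h.pr_sq, mul_one]
  have hb2 : w * pr M (ν x) (μ (ν x)) * w⁻¹ =
      w * (sg h.toSit x.1).val * w⁻¹ * (w * pr M x (μ x) * w⁻¹) := by rw [hb]; group
  rcases letters F hm2 hx hl hl0 with e | e | e | e
  · left; rw [e]
  · left; rw [e, F.msq, pr_comm M (F.mfst x)]
  · right; rw [e, hb2]
  · right; rw [e, F.msq, pr_comm M (F.mfst (ν x)), hb2]

theorem n_mem_S0 : pr M x (μ x) ∈ S0 h.toSit := Q_le_S0 h.toSit (h.V_le_Q (pr_mem M _ _))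

include F hm2 hx hd hwO hw1 hw2 in
/-- `y' ∈ O₂(P)` -/
theorem y_mem_Q : w * pr M x (μ x) * w⁻¹ ∈ o2 P := by
  classical
  have hn0 := n_mem_S0 (x := x) (μ := μ) h
  have hy0 := hw1 _ hn0
  rw [h.mem_Q_iff (S0_le h.toSit hy0)]
  -- `o' = y' n⁻¹`
  have ho : w * pr M x (μ x) * w⁻¹ * (pr M x (μ x))⁻¹ ∈ qz ((sg h.toSit x.1).val * d) := by
    have h1 := conj_mem (le_normalizer_o2 _) (S0_le_K h hd hn0) (inv_mem hwO)
    have e : w * pr M x (μ x) * w⁻¹ * (pr M x (μ x))⁻¹ = w * (pr M x (μ x) * w⁻¹ * (pr M x (μ x))⁻¹) := by group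
    rw [e]
    exact mul_mem hwO h1
  have ho0 : w * pr M x (μ x) * w⁻¹ * (pr M x (μ x))⁻¹ ∈ S0 h.toSit := mul_mem hy0 (inv_mem hn0)
  have hpn : pp M (pr M x (μ x)) = 1 := (h.mem_Q_iff (S0_le h.toSit hn0)).1 (h.V_le_Q (pr_mem M _ _))
  have hpo : pp M (w * pr M x (μ x) * w⁻¹ * (pr M x (μ x))⁻¹) = pp M (w * pr M x (μ x) * w⁻¹) := by
    rw [h.mul (h.SP (S0_le h.toSit hy0)) (inv_mem (h.SP (S0_le h.toSit hn0))), h.inv (h.SP (S0_le h.toSit hn0)), hpn,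
      inv_one, mul_one]
  by_contra hne
  obtain ⟨b, hb⟩ : ∃ b, b = pp M (w * pr M x (μ x) * w⁻¹) x := ⟨_, rfl⟩
  have hbx : b ≠ x := fun e => hne (by
    rw [← hpo]
    exact act_one' h hd ho ho0 rfl hx (by rw [hpo, ← hb, e]))
  have hb1 : b.1 = x.1 := by rw [hb]; exact S0_fst h.toSit hy0 x
  have hb0 : b.2 ≠ 0 := fun e => hx ((h.snd (S0_le h.toSit hy0)).1 (by rw [← hb]; exact e))
  -- `v = (0 x)`
  have hvV : pr M (x.1, 0) x ∈ V := pr_mem M _ _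
  have hyP := h.SP (S0_le h.toSit hy0)
  have h1 : w * pr M x (μ x) * w⁻¹ * pr M (x.1, 0) x * (w * pr M x (μ x) * w⁻¹)⁻¹ = pr M (x.1, 0) b := by
    rw [h.conj_pr hyP (p := (x.1, 0)) (q := x) rfl, ← hb]
    congr 1
    exact Ht.RD.S0_zero h.toSit hy0 _
  have h2 : pr M (x.1, 0) x * (w * pr M x (μ x) * w⁻¹) * (pr M (x.1, 0) x)⁻¹ =
      pr M x b * (w * pr M x (μ x) * w⁻¹) := by
    have hvi : (pr M (x.1, 0) x)⁻¹ = pr M (x.1, 0) x := inv_eq_of_mul_eq_one_left (h.pr_sq _ _)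
    rw [hvi, mul_assoc]
    have h3 : w * pr M x (μ x) * w⁻¹ * pr M (x.1, 0) x = pr M (x.1, 0) b * (w * pr M x (μ x) * w⁻¹) :=
      mul_inv_eq_iff_eq_mul.1 h1
    rw [h3, ← mul_assoc, pr_comm M (p := (x.1, 0)) (q := x) rfl,
      pr_mul M (p := x) (q := (x.1, 0)) (r := b) rfl hb1.symm]
  have hxb : pr M x b ≠ 1 := pr_ne_one M hb1.symm hbx.symm
  have h4 : w * (sg h.toSit x.1).val * w⁻¹ = pr M x b := by
    rcases y_S0 h F hm2 hx hw2 (Q_le_S0 h.toSit (h.V_le_Q hvV)) with h5 | h5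
    · rw [h2] at h5
      exact absurd (mul_eq_right.1 h5) hxb
    · rw [h2] at h5
      exact (mul_right_cancel h5).symm
  -- a third letter
  obtain ⟨r, hr, hr'⟩ := exists_pt4 h.hm x.1 {(x.1, 0), x, b} (Finset.card_le_three.trans (by norm_num))
  simp only [Finset.mem_insert, Finset.mem_singleton, not_or] at hr'
  have hr0 : r.2 ≠ 0 := fun e => hr'.1 (Prod.ext hr e)
  obtain ⟨s, hs, h6, -⟩ := exists_in h.toSit hr.symm hx hr0
  have h7 := tau_S0 h (x := x) hw2 hs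
  rw [h4] at h7
  have h8 := (h.comm_iff (h.SP (S0_le h.toSit hs)) (pr_mem M x b)).1 h7 x
  rw [h6, E_pr_left M hb1.symm hbx.symm, E_pr_of_ne M hb1.symm hr'.2.1 hr'.2.2] at h8
  exact zero_ne_one h8

include zv F hm2 hx hd hwO hw1 hw2 hwσ in
/-- some `q ∈ O₂(P)` moves `y'` -/
theorem exists_q : ∃ q ∈ o2 P, q * (w * pr M x (μ x) * w⁻¹) * q⁻¹ =
    w * (sg h.toSit x.1).val * w⁻¹ * (w * pr M x (μ x) * w⁻¹) := by
  by_contra hcon
  push Not at hcon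
  have hyQ : ∀ q ∈ o2 P, q * (w * pr M x (μ x) * w⁻¹) = w * pr M x (μ x) * w⁻¹ * q := fun q hq =>
    comm_of_conj ((y_S0 h F hm2 hx hw2 (Q_le_S0 h.toSit hq)).resolve_right (hcon q hq))
  have hyy : w * pr M x (μ x) * w⁻¹ * (w * pr M x (μ x) * w⁻¹) = 1 := by
    calc w * pr M x (μ x) * w⁻¹ * (w * pr M x (μ x) * w⁻¹) = w * (pr M x (μ x) * pr M x (μ x)) * w⁻¹ := by group
      _ = 1 := by rw [h.pr_sq]; group
  obtain ⟨v, hv, δ, hδ, hyv⟩ := Ht.RD.zz_dec' h.toSit (zv (mem_zc_of h.toSit hyy hyQ))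
  obtain ⟨o, ho, ho0, hon⟩ := exists_o h zv F hm2 hx hd hwO hw2 hwσ
  obtain ⟨o₂, ho₂⟩ : ∃ o₂, o₂ = w * o * w⁻¹ := ⟨_, rfl⟩
  have hoO : o₂ ∈ qz ((sg h.toSit x.1).val * d) := by rw [ho₂]; exact mul_mem (mul_mem hwO ho) (inv_mem hwO)
  have ho₂0 : o₂ ∈ S0 h.toSit := by rw [ho₂]; exact hw1 o ho0
  have ho₂P := h.SP (S0_le h.toSit ho₂0)
  have h1 : o₂ * (w * pr M x (μ x) * w⁻¹) * o₂⁻¹ =
      w * (sg h.toSit x.1).val * w⁻¹ * (w * pr M x (μ x) * w⁻¹) := by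
    calc o₂ * (w * pr M x (μ x) * w⁻¹) * o₂⁻¹ = w * (o * pr M x (μ x) * o⁻¹) * w⁻¹ := by rw [ho₂]; group
      _ = w * (sg h.toSit x.1).val * w⁻¹ * (w * pr M x (μ x) * w⁻¹) := by rw [hon]; group
  have hδc := Ht.RD.S0_DD h.toSit ho₂0 hδ
  have h2 : w * (sg h.toSit x.1).val * w⁻¹ = o₂ * v * o₂⁻¹ * v⁻¹ := by
    rw [hyv] at h1
    have h3 : o₂ * (v * δ) * o₂⁻¹ = o₂ * v * o₂⁻¹ * δ := by
      calc o₂ * (v * δ) * o₂⁻¹ = o₂ * v * o₂⁻¹ * (o₂ * δ * o₂⁻¹) := by group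
        _ = o₂ * v * o₂⁻¹ * δ := by rw [conj_of_comm hδc]
    rw [h3, ← mul_assoc] at h1
    have h4 := mul_right_cancel h1
    rw [h4]; group
  have hcV : o₂ * v * o₂⁻¹ ∈ V := h.amb.conj_mem ho₂P hv
  have htV : w * (sg h.toSit x.1).val * w⁻¹ ∈ V := by rw [h2]; exact mul_mem hcV (inv_mem hv)
  have h3 : ∀ p : Pt k m, p.1 ≠ x.1 → E M (w * (sg h.toSit x.1).val * w⁻¹) p = 0 := by
    intro p hp
    rw [h2, Half.SymA.E_mul M hcV (inv_mem hv), E_conj' ho₂P hv, Half.SymA.E_inv M hv]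
    have h4 : (pp M o₂)⁻¹ p = p := by
      rw [Equiv.Perm.inv_eq_iff_eq]
      exact (act_out' h hd hoO ho₂0 hp).symm
    rw [h4]
    exact CharTwo.add_self_eq_zero _
  rcases fixed_one h htV h3 (fun s hs => tau_S0 h hw2 hs) with h5 | h5
  · exact tau_ne_one h hx h5
  · exact tau_ne h hwσ h5

include zv F hm2 hx hd hwO hw1 hw2 hwσ in
/-- `τ ∈ DD M`, `2 ≤ k` -/
theorem tau_DD {l : Fin k} (hl : l ≠ x.1) : w * (sg h.toSit x.1).val * w⁻¹ ∈ DD M := by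
  classical
  have htc : ∀ q ∈ o2 P, q * (w * (sg h.toSit x.1).val * w⁻¹) = w * (sg h.toSit x.1).val * w⁻¹ * q := fun q hq =>
    tau_S0 h hw2 (Q_le_S0 h.toSit hq)
  obtain ⟨v, hv, δ, hδ, hτ⟩ := Ht.RD.zz_dec' h.toSit (zv (mem_zc_of h.toSit (tau_sq h) htc))
  have hyQ := y_mem_Q h F hm2 hx hd hwO hw1 hw2
  have hex := exists_q h zv F hm2 hx hd hwO hw1 hw2 hwσ
  have hQ : ∀ q ∈ o2 P, q * (w * pr M x (μ x) * w⁻¹) * q⁻¹ = w * pr M x (μ x) * w⁻¹ ∨
      q * (w * pr M x (μ x) * w⁻¹) * q⁻¹ = w * (sg h.toSit x.1).val * w⁻¹ * (w * pr M x (μ x) * w⁻¹) :=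
    fun q hq => y_S0 h F hm2 hx hw2 (Q_le_S0 h.toSit hq)
  -- `y' ∈ O₂(C_G(p_c))`
  have hyc : ∀ {c : Pt k m}, c.2 ≠ 0 → c.1 ≠ x.1 → w * pr M x (μ x) * w⁻¹ ∈ qz (pr M c (μ c)) := by
    intro c hc hcx
    have h1 : pr M x (μ x) ∈ zc (qz (pr M c (μ c))) := by
      refine h.perp (F.mfst c).symm (F.mne c hc).symm (pr_mem M _ _) ?_
      rw [E_pr_of_ne M (F.mfst x).symm (fun e => hcx (by rw [e])) (fun e => hcx (by rw [e, F.mfst])),
        E_pr_of_ne M (F.mfst x).symm (fun e => hcx (by rw [← F.mfst c, e])) (fun e => hcx (by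
          rw [← F.mfst c, e, F.mfst]))]
    exact zc_le _ (zc_conj' (duad h zv F hd hwO hw2 hc hcx) h1)
  -- the pairs
  have key : ∀ {p q c : Pt k m}, p.1 = q.1 → p ≠ q → c.2 ≠ 0 → c.1 ≠ x.1 →
      E M (pr M c (μ c)) p = E M (pr M c (μ c)) q → E M v p = E M v q := by
    intro p q c hpq hne hc hcx hE
    obtain ⟨g, hg, hgp⟩ := h.par p q hpq hne
    have hgP := h.QP p q hpq hne (h.KK_le hpq hne hg)
    have h1 := c2 h hpq hne (h.perp hpq hne (pr_mem M c (μ c)) hE) (hyc hc hcx) hyQ (tau_sq h) hQ hex g hg hgp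
    have h2 : g * δ = δ * g := (mem_DD.1 hδ).2 g hgP fun r => by rw [hgp]; exact swap_fst' h.toSit hpq r
    rw [hτ] at h1
    have h3 : g * v = v * g := by
      have h4 : g * v * δ = v * g * δ := by
        calc g * v * δ = g * (v * δ) := by group
          _ = v * (δ * g) := by rw [h1]; group
          _ = v * g * δ := by rw [← h2]; group
      exact mul_right_cancel h4
    exact (h.act_iff hgP hpq hne hgp hv).1 h3
  have hv1 : v = 1 := by
    refine eq_one_of_const M h.hm1 hv fun p q hpq _ => ?_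
    obtain ⟨y₀, hy₀⟩ := SwB.exists_ne_zero h.hm1
    have key2 : ∀ p : Pt k m, E M v p = E M v (p.1, 0) := by
      intro p
      by_cases hp0 : p.2 = 0
      · rw [show ((p.1, 0) : Pt k m) = p from Prod.ext rfl hp0.symm]
      · have hne : p ≠ (p.1, 0) := fun e => hp0 (by rw [e])
        have hc₀ : ((l, y₀) : Pt k m).2 ≠ 0 := hy₀
        have hν₀ : (ν (l, y₀)).2 ≠ 0 := fun e => hc₀ (F.nnz.1 e)
        have h0 : ∀ {c : Pt k m}, c.2 ≠ 0 → p ≠ c → p ≠ μ c → E M (pr M c (μ c)) p = E M (pr M c (μ c)) (p.1, 0) := by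
          intro c hc h1 h2
          rw [E_pr_of_ne M (F.mfst c).symm h1 h2, E_pr_of_ne M (F.mfst c).symm (fun e => hc (by rw [← e]))
            (fun e => hc (F.mnz.1 (by rw [← e])))]
        by_cases h1 : p = (l, y₀) ∨ p = μ (l, y₀)
        · refine key rfl hne hν₀ (by rw [F.nfst]; exact hl) (h0 hν₀ ?_ ?_)
          · rcases h1 with e | e
            · rw [e]; exact (F.nne _ hc₀).symm
            · rw [e]; exact (F.nmu _ hc₀).symm
          · rcases h1 with e | e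
            · rw [e]
              intro e1
              have e2 := congrArg μ e1
              rw [F.msq] at e2
              exact F.nmu _ hc₀ e2.symm
            · rw [e]; exact fun e1 => F.nne _ hc₀ (μ.injective e1).symm
        · push Not at h1
          exact key rfl hne hc₀ hl (h0 hc₀ h1.1 h1.2)
    rw [key2 p, key2 q, hpq]
  rw [hτ, hv1, one_mul]
  exact hδ

include zv F hm2 hx hd hwO hw1 hw2 hwσ in
/-- `w` centralises the `(0 c)` outside of the summand `x.1` -/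
theorem zero_duad {c : Pt k m} (hc : c.2 ≠ 0) (hcx : c.1 ≠ x.1) : w * pr M (c.1, 0) c = pr M (c.1, 0) c * w := by
  classical
  have hτ := tau_DD h zv F hm2 hx hd hwO hw1 hw2 hwσ hcx
  have hμ0 : (μ c).2 ≠ 0 := fun e => hc (F.mnz.1 e)
  -- the transposition `(μ c, 0)`
  have hfst : (μ c).1 = ((c.1, 0) : Pt k m).1 := F.mfst c
  obtain ⟨g, hg, hgp⟩ := Ht.RD.exists_swapP h.toSit hfst
  have hgf : ∀ p, (pp M g p).1 = p.1 := fun p => by rw [hgp]; exact swap_fst' h.toSit hfst p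
  have hgσ : g * (sg h.toSit x.1).val = (sg h.toSit x.1).val * g := by
    refine comm_swap h.toSit hg hgp (sg_mem h.toSit x.1) ?_
    rw [E_sg, E_sg, if_neg (by rw [F.mfst]; exact hcx), if_neg hcx]
  have hgK := Ht.RD.mem_K h.toSit hd hg hgf hgσ
  have hgτ := (mem_DD.1 hτ).2 g hg hgf
  obtain ⟨κ, hκ⟩ : ∃ κ, κ = w⁻¹ * (g⁻¹ * w * g) := ⟨_, rfl⟩
  have hκO : κ ∈ qz ((sg h.toSit x.1).val * d) := by
    rw [hκ]
    have h1 := conj_mem (le_normalizer_o2 _) (inv_mem hgK) hwO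
    rw [inv_inv] at h1
    exact mul_mem (inv_mem hwO) h1
  have hκσ : κ * (sg h.toSit x.1).val = (sg h.toSit x.1).val * κ := by
    have h1 : g⁻¹ * (w * (sg h.toSit x.1).val * w⁻¹) * g = w * (sg h.toSit x.1).val * w⁻¹ := by
      rw [mul_assoc, ← hgτ]; group
    have h2 : g⁻¹ * w * g * (sg h.toSit x.1).val * (g⁻¹ * w * g)⁻¹ = w * (sg h.toSit x.1).val * w⁻¹ := by
      calc g⁻¹ * w * g * (sg h.toSit x.1).val * (g⁻¹ * w * g)⁻¹ =
          g⁻¹ * w * (g * (sg h.toSit x.1).val * g⁻¹) * w⁻¹ * g := by group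
        _ = g⁻¹ * (w * (sg h.toSit x.1).val * w⁻¹) * g := by rw [conj_of_comm hgσ]; group
        _ = w * (sg h.toSit x.1).val * w⁻¹ := h1
    apply comm_of_conj
    calc κ * (sg h.toSit x.1).val * κ⁻¹ = w⁻¹ * (g⁻¹ * w * g * (sg h.toSit x.1).val * (g⁻¹ * w * g)⁻¹) * w := by
          rw [hκ]; group
      _ = (sg h.toSit x.1).val := by rw [h2]; group
  have hκ0 : κ ∈ S0 h.toSit := hOC h zv hd ⟨hκO, mem_centralizer_singleton_iff.2 hκσ⟩
  have hκP := h.SP (S0_le h.toSit hκ0)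
  have h3 : κ * pr M c (μ c) = pr M c (μ c) * κ :=
    h.comm_pr hκP (F.mfst c).symm (Or.inl ⟨act_out' h hd hκO hκ0 hcx,
      act_out' h hd hκO hκ0 (by rw [F.mfst]; exact hcx)⟩)
  have h4 := duad h zv F hd hwO hw2 hc hcx
  have h5 : g⁻¹ * w * g * pr M c (μ c) = pr M c (μ c) * (g⁻¹ * w * g) := by
    have e : g⁻¹ * w * g = w * κ := by rw [hκ]; group
    rw [e]
    calc w * κ * pr M c (μ c) = w * (κ * pr M c (μ c)) := by group
      _ = w * pr M c (μ c) * κ := by rw [h3]; group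
      _ = pr M c (μ c) * (w * κ) := by rw [h4]; group
  have h6 : g * pr M c (μ c) * g⁻¹ = pr M (c.1, 0) c := by
    rw [h.conj_pr hg (F.mfst c).symm, hgp, Equiv.swap_apply_left,
      Equiv.swap_apply_of_ne_of_ne (F.mne c hc).symm (fun e => hc (by rw [e])),
      pr_comm M (p := c) (q := (c.1, 0)) rfl]
  rw [← h6]
  calc w * (g * pr M c (μ c) * g⁻¹) = g * (g⁻¹ * w * g * pr M c (μ c)) * g⁻¹ := by group
    _ = g * pr M c (μ c) * g⁻¹ * w := by rw [h5]; group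

include F hx hd in
/-- the elements of `S` fixing the summand `x.1` commute with `σ d` -/
theorem S1_comm (hdT : ∀ s ∈ (S : Subgroup G), s * pr M x (μ x) = pr M x (μ x) * s → s * d = d * s) {s : G}
    (hs : s ∈ (S : Subgroup G)) (hsx : (pp M s x).1 = x.1) :
    s * d = d * s ∧ s * ((sg h.toSit x.1).val * d) = (sg h.toSit x.1).val * d * s := by
  have hsx0 : (pp M s x).2 ≠ 0 := fun e => hx ((h.snd hs).1 e)
  obtain ⟨t, ht, h1, -⟩ := exists_in h.toSit hsx hsx0 hx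
  have htS := S0_le h.toSit ht
  have h2 : pp M (t * s) x = x := by
    rw [h.mul (h.SP htS) (h.SP hs), Equiv.Perm.mul_apply, h1]
  have htsS : t * s ∈ (S : Subgroup G) := mul_mem htS hs
  have h3 : t * s * pr M x (μ x) = pr M x (μ x) * (t * s) := by
    apply comm_of_conj
    rw [h.conj_pr (h.SP htsS) (F.mfst x).symm, F.meqv _ htsS, h2]
  have h4 := hdT _ htsS h3
  have h5 := Ht.RD.S0_DD h.toSit ht hd
  have h6 : s * d = d * s := by
    calc s * d = t⁻¹ * (t * s * d) := by group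
      _ = t⁻¹ * (d * t) * s := by rw [h4]; group
      _ = d * s := by rw [← h5]; group
  have h7 := conj_sg h.toSit hs x
  rw [hsx] at h7
  refine ⟨h6, ?_⟩
  calc s * ((sg h.toSit x.1).val * d) = s * (sg h.toSit x.1).val * s⁻¹ * (s * d) := by group
    _ = (sg h.toSit x.1).val * d * s := by rw [h7, h6]; group

include zv F hm2 hx hd hwO hw1 hw2 hwσ in
/-- `w` commutes with the conjugates of `d` -/
theorem comm_ds (hsig : ∀ g : G, g * pr M x (μ x) = pr M x (μ x) * g →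
      g * pr M x (x.1, 0) = pr M x (x.1, 0) * g →
      ((sg h.toSit x.1).val * pr M x (μ x) * d)⁻¹ * (g * ((sg h.toSit x.1).val * pr M x (μ x) * d) * g⁻¹) = 1 ∨
      ((sg h.toSit x.1).val * pr M x (μ x) * d)⁻¹ * (g * ((sg h.toSit x.1).val * pr M x (μ x) * d) * g⁻¹) =
        pr M x (μ x))
    {s : G} (hs : s ∈ (S : Subgroup G)) (hsx : (pp M s x).1 ≠ x.1) :
    w * (s * d * s⁻¹) = s * d * s⁻¹ * w ∧
      w * (s * ((sg h.toSit x.1).val * d) * s⁻¹) = s * ((sg h.toSit x.1).val * d) * s⁻¹ * w := by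
  classical
  obtain ⟨c, hc⟩ : ∃ c, c = pp M s x := ⟨_, rfl⟩
  have hcx : c.1 ≠ x.1 := by rw [hc]; exact hsx
  have hc0 : c.2 ≠ 0 := fun e => hx ((h.snd hs).1 (by rw [← hc]; exact e))
  have hν0 : (ν c).2 ≠ 0 := fun e => hc0 (F.nnz.1 e)
  have hsP := h.SP hs
  have hsn : s * pr M x (μ x) * s⁻¹ = pr M c (μ c) := by
    rw [h.conj_pr hsP (F.mfst x).symm, F.meqv _ hs, ← hc]
  have hse : s * pr M x (x.1, 0) * s⁻¹ = pr M (c.1, 0) c := by
    rw [h.conj_pr hsP (p := x) (q := (x.1, 0)) rfl, pr_comm M (h.fst hsP (p := x) (q := (x.1, 0)) rfl)]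
    have e : pp M s (x.1, 0) = (c.1, 0) := by
      refine Prod.ext ?_ ((h.snd hs).2 rfl)
      rw [hc]
      exact h.fst hsP rfl
    rw [e, ← hc]
  have hsσ : s * (sg h.toSit x.1).val * s⁻¹ = (sg h.toSit c.1).val := by rw [conj_sg h.toSit hs x, ← hc]
  have w1 := duad h zv F hd hwO hw2 hc0 hcx
  have w2 := duad h zv F hd hwO hw2 hν0 (by rw [F.nfst]; exact hcx)
  have w3 := zero_duad h zv F hm2 hx hd hwO hw1 hw2 hwσ hc0 hcx
  have w4 : w * (sg h.toSit c.1).val = (sg h.toSit c.1).val * w := by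
    rw [sg_eq h.toSit F hm2 hc0]
    calc w * (pr M c (μ c) * pr M (ν c) (μ (ν c))) = w * pr M c (μ c) * pr M (ν c) (μ (ν c)) := by group
      _ = pr M c (μ c) * (w * pr M (ν c) (μ (ν c))) := by rw [w1]; group
      _ = pr M c (μ c) * pr M (ν c) (μ (ν c)) * w := by rw [w2]; group
  obtain ⟨D, hD⟩ : ∃ D, D = s * d * s⁻¹ := ⟨_, rfl⟩
  have hDD : D ∈ DD M := by rw [hD]; exact DD_conj h.toSit hsP hd
  obtain ⟨C, hC⟩ : ∃ C, C = (sg h.toSit c.1).val * pr M c (μ c) * D := ⟨_, rfl⟩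
  have hsC : s * ((sg h.toSit x.1).val * pr M x (μ x) * d) * s⁻¹ = C := by
    rw [hC, ← hsσ, ← hsn, hD]; group
  have h1 := hsig (s⁻¹ * w * s) (by
    have e : pr M x (μ x) = s⁻¹ * pr M c (μ c) * s := by rw [← hsn]; group
    rw [e]
    calc s⁻¹ * w * s * (s⁻¹ * pr M c (μ c) * s) = s⁻¹ * (w * pr M c (μ c)) * s := by group
      _ = s⁻¹ * pr M c (μ c) * s * (s⁻¹ * w * s) := by rw [w1]; group) (by
    have e : pr M x (x.1, 0) = s⁻¹ * pr M (c.1, 0) c * s := by rw [← hse]; group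
    rw [e]
    calc s⁻¹ * w * s * (s⁻¹ * pr M (c.1, 0) c * s) = s⁻¹ * (w * pr M (c.1, 0) c) * s := by group
      _ = s⁻¹ * pr M (c.1, 0) c * s * (s⁻¹ * w * s) := by rw [w3]; group)
  obtain ⟨c₀, hc₀⟩ : ∃ c₀, c₀ = (sg h.toSit x.1).val * pr M x (μ x) * d := ⟨_, rfl⟩
  rw [← hc₀] at h1 hsC
  have h2 : s * (c₀⁻¹ * (s⁻¹ * w * s * c₀ * (s⁻¹ * w * s)⁻¹)) * s⁻¹ = C⁻¹ * (w * C * w⁻¹) := by
    rw [← hsC]; group
  have h3 : C⁻¹ * (w * C * w⁻¹) = D⁻¹ * (w * D * w⁻¹) := by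
    have e1 : w * C * w⁻¹ = (sg h.toSit c.1).val * pr M c (μ c) * (w * D * w⁻¹) := by
      calc w * C * w⁻¹ = w * (sg h.toSit c.1).val * pr M c (μ c) * D * w⁻¹ := by rw [hC]; group
        _ = (sg h.toSit c.1).val * (w * pr M c (μ c)) * D * w⁻¹ := by rw [w4]; group
        _ = (sg h.toSit c.1).val * pr M c (μ c) * (w * D * w⁻¹) := by rw [w1]; group
    rw [e1, hC]; group
  have h4 : D⁻¹ * (w * D * w⁻¹) = 1 ∨ D⁻¹ * (w * D * w⁻¹) = pr M c (μ c) := by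
    rw [← h3, ← h2]
    rcases h1 with e | e
    · left; rw [e]; group
    · right; rw [e, hsn]
  -- `D⁻¹ D^w` is centralised by `S0`
  have h5 : ∀ t ∈ S0 h.toSit, t * (D⁻¹ * (w * D * w⁻¹)) = D⁻¹ * (w * D * w⁻¹) * t := by
    intro t ht
    have f1 := Ht.RD.S0_DD h.toSit ht (inv_mem hDD)
    have f2 := Ht.RD.S0_DD h.toSit (hw2 t ht) hDD
    calc t * (D⁻¹ * (w * D * w⁻¹)) = t * D⁻¹ * (w * D * w⁻¹) := by group
      _ = D⁻¹ * (w * (w⁻¹ * t * w * D) * w⁻¹) := by rw [f1]; group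
      _ = D⁻¹ * (w * D * w⁻¹) * t := by rw [f2]; group
  have h6 : w * D = D * w := by
    rcases h4 with e | e
    · exact mul_inv_eq_iff_eq_mul.1 (inv_mul_eq_one.1 e).symm
    · exfalso
      obtain ⟨t, ht, g1, -⟩ := exists_in h.toSit (F.nfst c).symm hc0 hν0
      have g2 := h5 t ht
      rw [e] at g2
      have g3 := (h.comm_iff (h.SP (S0_le h.toSit ht)) (pr_mem M c (μ c))).1 g2 c
      rw [g1, E_pr_left M (F.mfst c).symm (F.mne c hc0).symm,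
        E_pr_of_ne M (F.mfst c).symm (F.nne c hc0) (F.nmu c hc0)] at g3
      exact zero_ne_one g3
  rw [← hD]
  refine ⟨h6, ?_⟩
  have e : s * ((sg h.toSit x.1).val * d) * s⁻¹ = (sg h.toSit c.1).val * D := by rw [← hsσ, hD]; group
  rw [e]
  calc w * ((sg h.toSit c.1).val * D) = w * (sg h.toSit c.1).val * D := by group
    _ = (sg h.toSit c.1).val * (w * D) := by rw [w4]; group
    _ = (sg h.toSit c.1).val * D * w := by rw [h6]; group

/-- a 2-subgroup normal in a subgroup normalised by `S` lies in `S` -/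
theorem le_S_of {Y C : Subgroup G} (hY : IsPGroup 2 Y) (hYC : Y ≤ C) (hn : C ≤ normalizer (Y : Set G))
    (hS : (S : Subgroup G) ≤ normalizer (C : Set G)) : Y ≤ (S : Subgroup G) := by
  have hp : Fact (Nat.Prime 2) := ⟨Nat.prime_two⟩
  have h1 : Y ≤ o2 C := MinSimple.VModule.le_o2 hYC hY hn
  have h3 : IsPGroup 2 ((S : Subgroup G) ⊔ o2 C : Subgroup G) :=
    IsPGroup.to_sup_of_normal_right' S.isPGroup' (o2_isPGroup C) (hS.trans (norm_o2 le_rfl))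
  rw [← S.is_maximal' h3 le_sup_left]
  exact h1.trans le_sup_right

end main

section final

variable [Finite G] (h : SD S P V M) (zv : zc (o2 P) ≤ V ⊔ DD M) {μ ν : Equiv.Perm (Pt k m)} (F : Fours M μ ν)
  (hm2 : m = 2) {x : Pt k m} (hx : x.2 ≠ 0) {d : G} (hd : d ∈ DD M)
  (hdT : ∀ s ∈ (S : Subgroup G), s * pr M x (μ x) = pr M x (μ x) * s → s * d = d * s)
  (hsig : ∀ g : G, g * pr M x (μ x) = pr M x (μ x) * g → g * pr M x (x.1, 0) = pr M x (x.1, 0) * g →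
      ((sg h.toSit x.1).val * pr M x (μ x) * d)⁻¹ * (g * ((sg h.toSit x.1).val * pr M x (μ x) * d) * g⁻¹) = 1 ∨
      ((sg h.toSit x.1).val * pr M x (μ x) * d)⁻¹ * (g * ((sg h.toSit x.1).val * pr M x (μ x) * d) * g⁻¹) =
        pr M x (μ x))

include zv F hm2 hx hd hdT hsig

/-- **`O₂(C_G(σ_i d)) ≤ S0`**, `m = 2` -/
theorem o2_le_S0 : qz ((sg h.toSit x.1).val * d) ≤ S0 h.toSit := by
  classical
  by_contra hO
  obtain ⟨w, hwO, hw0, hw1, hw2⟩ := exists_w h hd hO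
  have hwσ : w * (sg h.toSit x.1).val ≠ (sg h.toSit x.1).val * w := fun e =>
    hw0 (hOC h zv hd ⟨hwO, mem_centralizer_singleton_iff.2 e⟩)
  -- the conjugates of `y`
  have hwy : w * ((sg h.toSit x.1).val * d) = (sg h.toSit x.1).val * d * w :=
    mem_centralizer_singleton_iff.1 (o2_le _ hwO)
  have hws : ∀ s ∈ (S : Subgroup G),
      w * (s * ((sg h.toSit x.1).val * d) * s⁻¹) = s * ((sg h.toSit x.1).val * d) * s⁻¹ * w := by
    intro s hs
    by_cases hsx : (pp M s x).1 = x.1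
    · have h1 := (S1_comm h F hx hd hdT hs hsx).2
      rw [conj_of_comm h1]
      exact hwy
    · exact (comm_ds h zv F hm2 hx hd hwO hw1 hw2 hwσ hsig hs hsx).2
  obtain ⟨C, hC⟩ : ∃ C : Subgroup G, C = centralizer {z : G | ∃ s ∈ (S : Subgroup G),
      z = s * ((sg h.toSit x.1).val * d) * s⁻¹} := ⟨_, rfl⟩
  have hwC : w ∈ C := by
    rw [hC, mem_centralizer_iff]
    rintro z ⟨s, hs, rfl⟩
    exact (hws s hs).symm
  have hCle : C ≤ cz ((sg h.toSit x.1).val * d) := by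
    intro g hg
    rw [hC, mem_centralizer_iff] at hg
    exact mem_cent.2 (hg _ ⟨1, one_mem _, by group⟩).symm
  have hSC : (S : Subgroup G) ≤ normalizer (C : Set G) := by
    rw [hC]
    apply norm_of
    intro t ht c hc
    rw [mem_centralizer_iff] at hc ⊢
    rintro z ⟨s, hs, rfl⟩
    have h1 := hc _ ⟨t⁻¹ * s, mul_mem (inv_mem ht) hs, rfl⟩
    calc s * ((sg h.toSit x.1).val * d) * s⁻¹ * (t * c * t⁻¹) =
        t * (t⁻¹ * s * ((sg h.toSit x.1).val * d) * (t⁻¹ * s)⁻¹ * c) * t⁻¹ := by group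
      _ = t * c * t⁻¹ * (s * ((sg h.toSit x.1).val * d) * s⁻¹) := by rw [h1]; group
  have hwS : w ∈ (S : Subgroup G) := by
    refine le_S_of (Y := qz ((sg h.toSit x.1).val * d) ⊓ C) (C := C) h ((o2_isPGroup _).to_le inf_le_left)
      inf_le_right ?_ hSC ⟨hwO, hwC⟩
    apply norm_of
    rintro c hc z ⟨hz1, hz2⟩
    exact ⟨conj_mem (le_normalizer_o2 _) (hCle hc) hz1, C.mul_mem (C.mul_mem hc hz2) (C.inv_mem hc)⟩
  by_cases hk : ∃ l : Fin k, l ≠ x.1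
  · obtain ⟨l, hl⟩ := hk
    have h1 := tau_DD h zv F hm2 hx hd hwO hw1 hw2 hwσ hl
    have h2 : w * (sg h.toSit x.1).val * w⁻¹ ∈ V := h.amb.conj_mem (h.SP hwS) (sg_mem h.toSit x.1)
    exact tau_ne_one h hx (eq_one_of_DD h.toSit h2 h1)
  · push Not at hk
    exact hw0 ((mem_S0 h.toSit).2 ⟨hwS, fun p => by rw [hk (pp M w p).1, hk p.1]⟩)

end final

end Cfsg.Agent.Omega.IId.SymWrD.AlphaA
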