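import Cfsg.Agent.Omega.IId.SymWrD.Ht.Alpha

/-!
# II.d, `SwCv`, T-T: `⟨V ^ C_G(σ_i d)⟩` is abelian if `O₂(C_G(σ_i d)) ≤ S⁰`, `DD M ≠ 1` (bb OMEGA #22373 (A2), #22664)

`SymWrD.Sit S P V M`, `Ω₁Z(O₂(P)) ≤ V ⊔ DD M`, `K = C_G(σ_i d)` (in the section: a subgroup `K` with the same properties).
* `pr_mem_o2` : the duads of nonzero points of the summand `i` are in `O₂(K)` if `O₂(K)` acts nontrivially;
* `pp_cen` : an element of `Z(O₂(K))` centralises `V`; `V_le_o2` : `V ≤ O₂(K)`;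
* `same_act`, `comm_of_le` : `V` commutes with `V ^ g`, `g ∈ K`;
* `esigD_two` : the result for `K = C_G(σ_i d)`, all `m ≥ 2`, from `O₂(K) ≤ S0 h` and `e ∈ DD M`, `e ≠ 1`.
-/

set_option autoImplicit false
set_option linter.unusedSectionVars false

namespace Cfsg.Agent.Omega.IId.SymWrD.Ht.RB

open Subgroup Pointwise Cfsg Cfsg.Agent.Omega.MinPar Cfsg.Agent.Omega.FFThm
open Cfsg.Agent.ZN (o2 zc)
open Cfsg.Agent.Omega.IId.SymWrD
open Cfsg.Agent.Omega.IId.SymWrD.Ht.RD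
open Cfsg.Agent.Omega.IId.SwB (S0 mem_S0 S0_le S0_fst S0_comm Q_le_S0)
open Cfsg.Agent.Omega.Half.SymA (Pt E Mv pm Amb0)
open Cfsg.Agent.MinSimple.VModule (mem_zc zc_le le_normalizer_o2 o2_isPGroup o2_le le_o2)

universe u

variable {G : Type u} [Group G] {P V : Subgroup G} {k m : ℕ} {S : Sylow 2 G} {M : SymK (S : Subgroup G) P V ⊥ k m}

theorem mem_norm_of {A : Subgroup G} {B : Subgroup G} (h : ∀ g ∈ B, ∀ a ∈ A, g * a * g⁻¹ ∈ A) :
    B ≤ normalizer (A : Set G) := by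
  intro g hg
  rw [mem_normalizer_iff]
  refine fun a => ⟨h g hg a, fun ha => ?_⟩
  have h1 := h g⁻¹ (inv_mem hg) _ ha
  have e : g⁻¹ * (g * a * g⁻¹) * g⁻¹⁻¹ = a := by group
  rwa [e] at h1

section K

variable [Finite G] (h : Sit S P V M) {σ : G} {i : Fin k}
  (hE : ∀ p : Pt k m, E M σ p = if p.1 = i then (if p.2 = 0 then 0 else 1) else 0) (hσ : σ ∈ V)
  {K : Subgroup G} (hVK : V ≤ K)
  (hK : ∀ g ∈ P, (∀ p, (pp M g p).1 = p.1) → g * σ = σ * g → g ∈ K)
  (hc : K ⊓ centralizer (o2 K : Set G) ≤ o2 K) (hle : o2 K ≤ S0 h)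

include h

theorem conj_mem {g x : G} (hg : g ∈ K) (hx : x ∈ o2 K) : g * x * g⁻¹ ∈ o2 K :=
  (mem_normalizer_iff.1 (le_normalizer_o2 K hg) x).1 hx

theorem conj_mem' {g x : G} (hg : g ∈ K) (hx : x ∈ o2 K) : g⁻¹ * x * g ∈ o2 K := by
  have := conj_mem h (inv_mem hg) hx
  rwa [inv_inv] at this

omit [Finite G] in
/-- the elements with three points -/
theorem exists_third (i : Fin k) (s : Finset (Pt k m)) (hs : s.card ≤ 3) : ∃ p : Pt k m, p.1 = i ∧ p ∉ s := by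
  classical
  by_contra h0
  push Not at h0
  have h1 : (Finset.univ.image fun y : Fin (2 ^ m + 1) => ((i, y) : Pt k m)) ⊆ s := by
    intro p hp
    obtain ⟨y, -, rfl⟩ := Finset.mem_image.1 hp
    exact h0 _ rfl
  have h2 := Finset.card_le_card h1
  rw [Finset.card_image_of_injective _ (fun a b hab => (Prod.ext_iff.1 hab).2), Finset.card_univ,
    Fintype.card_fin] at h2
  have h3 : 2 ^ 2 ≤ 2 ^ m := Nat.pow_le_pow_right (by norm_num) h.hm
  omega

include hVK hc hle in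
/-- the case `[O, V] = 1` -/
theorem comm_of_triv (ht : ∀ u ∈ o2 K, pp M u = 1) {g : G} (hg : g ∈ K) {v w : G} (hv : v ∈ V) (hw : w ∈ V) :
    v * (g * w * g⁻¹) = g * w * g⁻¹ * v := by
  have h1 : ∀ v ∈ V, ∀ u ∈ o2 K, u * v = v * u := fun v hv u hu =>
    ((mem_centralizer_iff.1 ((h.eq_one_iff (h.SP (S0_le h (hle hu)))).1 (ht u hu)) v hv)).symm
  have h2 : w ∈ o2 K := hc ⟨hVK hw, mem_centralizer_iff.2 fun u hu => h1 w hw u hu⟩
  exact (h1 v hv _ (conj_mem h hg h2)).symm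

include hle in
/-- the commutator `[v, u]`, `v = {0, a}` -/
theorem comm_pr {u : G} (hu : u ∈ o2 K) (a : Pt k m) (ha : a.1 = i) :
    pr M (i, 0) a * (u * pr M (i, 0) a * u⁻¹) = pr M a (pp M u a) := by
  have hu0 := hle hu
  have h1 : ((i, 0) : Pt k m).1 = a.1 := ha.symm
  rw [h.conj_pr (h.SP (S0_le h hu0)) h1, S0_zero h hu0, pr_comm M h1, pr_mul M h1.symm]
  exact (h1.trans (S0_fst h hu0 a).symm)

omit [Finite G] in
/-- `u` does not commute with `{a, b}` if `u a ≠ a, b` -/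
theorem ne_of_pr {u : G} (hu : u ∈ P) {a b : Pt k m} (hab : a.1 = b.1) (hne : a ≠ b)
    (hc : u * pr M a b = pr M a b * u) : pp M u a = a ∨ pp M u a = b := by
  by_contra h0
  push Not at h0
  have h1 := (h.comm_iff hu (pr_mem M _ _)).1 hc a
  rw [E_pr_left M hab hne, E_pr_of_ne M hab h0.1 h0.2] at h1
  exact zero_ne_one h1

include hE hσ hVK hK hle

omit hVK hle in
theorem hnorm : ∀ g ∈ P, (∀ p, (pp M g p).1 = p.1) → g * σ = σ * g → g ∈ normalizer (o2 K : Set G) :=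
  fun g hg h1 h2 => le_normalizer_o2 K (hK g hg h1 h2)

omit hVK in
/-- no fixed points -/
theorem no_fix {u : G} (hu : u ∈ o2 K) (hu1 : pp M u ≠ 1) {a : Pt k m} (ha : a.1 = i) (ha0 : a.2 ≠ 0) :
    pp M u a ≠ a := fun e =>
  hu1 (act_one h hE (o2_isPGroup K) hσ (hnorm h hE hσ hK) hu (hle hu) ha ha0 e)

/-- the duads of nonzero points of the summand `i` -/
theorem pr_mem_o2 {u : G} (hu : u ∈ o2 K) (hu1 : pp M u ≠ 1) {a b : Pt k m} (ha : a.1 = i) (hb : b.1 = i)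
    (ha0 : a.2 ≠ 0) (hb0 : b.2 ≠ 0) : pr M a b ∈ o2 K := by
  classical
  by_cases hab : a = b
  · rw [hab]
    have h1 : pr M b b = 1 := by
      refine Half.SymA.inj M (pr_mem M _ _) (one_mem V) fun p => ?_
      rw [E_pr M (show b.1 = b.1 from rfl), Half.SymA.E_one]
      exact CharTwo.add_self_eq_zero _
    rw [h1]; exact one_mem _
  have h1 : pr M a (pp M u a) ∈ o2 K := by
    rw [← comm_pr h hle hu a ha]
    set v := pr M (i, 0) a with hv
    have hvV : v ∈ V := pr_mem M _ _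
    have hvv : v⁻¹ = v := inv_eq_of_mul_eq_one_left (h.Vsq hvV)
    have h2 := (o2 K).mul_mem (conj_mem h (hVK hvV) hu) (inv_mem hu)
    rw [hvv] at h2
    have e : v * (u * v * u⁻¹) = v * u * v * u⁻¹ := by group
    rw [e]
    exact h2
  have hfix := no_fix h hE hσ hK hle hu hu1 ha ha0
  have huab : (pp M u a).1 = b.1 := (S0_fst h (hle hu) a).trans (ha.trans hb.symm)
  have hua0 : (pp M u a).2 ≠ 0 := fun e => ha0 ((h.snd (S0_le h (hle hu))).1 e)
  obtain ⟨g, hg, hgp⟩ := exists_swapP h huab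
  have hfst : ∀ r, (pp M g r).1 = r.1 := by
    intro r
    rw [hgp]
    rcases eq_or_ne r (pp M u a) with rfl | hr
    · rw [Equiv.swap_apply_left, huab]
    · rcases eq_or_ne r b with rfl | hr'
      · rw [Equiv.swap_apply_right, huab]
      · rw [Equiv.swap_apply_of_ne_of_ne hr hr']
  have hgσ : g * σ = σ * g := by
    refine (h.comm_iff hg hσ).2 fun r => ?_
    rw [hgp]
    rcases eq_or_ne r (pp M u a) with rfl | hr
    · rw [Equiv.swap_apply_left]
      exact (E_eq h hE huab (by simp only [hua0, hb0])).symm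
    · rcases eq_or_ne r b with rfl | hr'
      · rw [Equiv.swap_apply_right]
        exact E_eq h hE huab (by simp only [hua0, hb0])
      · rw [Equiv.swap_apply_of_ne_of_ne hr hr']
  have h2 := conj_mem h (hK g hg hfst hgσ) h1
  rw [h.conj_pr hg (S0_fst h (hle hu) a).symm, hgp, Equiv.swap_apply_left,
    Equiv.swap_apply_of_ne_of_ne (Ne.symm hfix) hab] at h2
  exact h2

/-- an element commuting with `O₂(K)` centralises `V` -/
theorem pp_cen {u : G} (hu : u ∈ o2 K) (hu1 : pp M u ≠ 1) {z : G} (hz : z ∈ o2 K)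
    (hzc : ∀ x ∈ o2 K, z * x = x * z) : pp M z = 1 := by
  classical
  by_contra hz1
  have hfix : ∀ b : Pt k m, b.1 = i → b.2 ≠ 0 → pp M z b ≠ b := fun b hb hb0 =>
    no_fix h hE hσ hK hle hz hz1 hb hb0
  obtain ⟨a, ha, ha'⟩ := exists_third h i {(i, 0)} (by simp)
  have ha0 : a.2 ≠ 0 := fun e => ha' (Finset.mem_singleton.2 (Prod.ext ha e))
  obtain ⟨c, hc, hc'⟩ := exists_third h i {(i, 0), a, pp M z a} Finset.card_le_three
  simp only [Finset.mem_insert, Finset.mem_singleton, not_or] at hc'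
  have hc0 : c.2 ≠ 0 := fun e => hc'.1 (Prod.ext hc e)
  have h2 := pr_mem_o2 h hE hσ hVK hK hle hu hu1 ha hc ha0 hc0
  rcases ne_of_pr h (h.SP (S0_le h (hle hz))) (ha.trans hc.symm) (Ne.symm hc'.2.1) (hzc _ h2) with e | e
  · exact hfix a ha ha0 e
  · exact hc'.2.2 e.symm

include hc in
/-- **`V ≤ O₂(K)`** -/
theorem V_le_o2 (hDK : DD M ≤ K) {e : G} (he : e ∈ DD M) (hf : V ≤ o2 (centralizer ({e} : Set G)))
    {u : G} (hu : u ∈ o2 K) (hu1 : pp M u ≠ 1) : V ≤ o2 K := by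
  have heO : ∀ x ∈ o2 K, e * x = x * e := fun x hx => (S0_DD h (hle hx) he).symm
  have heK : e ∈ o2 K := hc ⟨hDK he, mem_centralizer_iff.2 fun x hx => (heO x hx).symm⟩
  -- `e` commutes with `V ^ g`
  have h1 : ∀ g ∈ K, ∀ v ∈ V, g * v * g⁻¹ ∈ centralizer ({e} : Set G) := by
    intro g hg v hv
    have h2 : ∀ x ∈ o2 K, g⁻¹ * e * g * x = x * (g⁻¹ * e * g) := by
      intro x hx
      have h3 := heO _ (conj_mem h hg hx)
      calc g⁻¹ * e * g * x = g⁻¹ * (e * (g * x * g⁻¹)) * g := by group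
        _ = g⁻¹ * (g * x * g⁻¹ * e) * g := by rw [h3]
        _ = x * (g⁻¹ * e * g) := by group
    have h3 := conj_mem' h hg heK
    have h4 := pp_cen h hE hσ hVK hK hle hu hu1 h3 h2
    have h5 := mem_centralizer_iff.1 ((h.eq_one_iff (h.SP (S0_le h (hle h3)))).1 h4) v hv
    rw [mem_centralizer_singleton_iff]
    calc g * v * g⁻¹ * e = g * (v * (g⁻¹ * e * g)) * g⁻¹ := by group
      _ = g * (g⁻¹ * e * g * v) * g⁻¹ := by rw [h5]
      _ = e * (g * v * g⁻¹) := by group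
  -- `Y = ⟨V ^ K⟩`
  set Y : Subgroup G := Subgroup.closure {x | ∃ g ∈ K, ∃ v ∈ V, g * v * g⁻¹ = x} with hY
  have hVY : V ≤ Y := fun v hv => subset_closure ⟨1, one_mem _, v, hv, by group⟩
  have hYK : Y ≤ K := by
    rw [hY, closure_le]
    rintro _ ⟨g, hg, v, hv, rfl⟩
    exact mul_mem (mul_mem hg (hVK hv)) (inv_mem hg)
  have hYC : Y ≤ centralizer ({e} : Set G) := by
    rw [hY, closure_le]
    rintro _ ⟨g, hg, v, hv, rfl⟩
    exact h1 g hg v hv
  have hKY : K ≤ normalizer (Y : Set G) := mem_norm_of fun c hc y hy => by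
    induction hy using closure_induction with
    | mem x hx =>
      obtain ⟨g, hg, v, hv, rfl⟩ := hx
      exact subset_closure ⟨c * g, mul_mem hc hg, v, hv, by group⟩
    | one => rw [mul_one, mul_inv_cancel]; exact one_mem _
    | mul x y _ _ hx hy =>
      have e : c * (x * y) * c⁻¹ = (c * x * c⁻¹) * (c * y * c⁻¹) := by group
      rw [e]
      exact mul_mem hx hy
    | inv x _ hx =>
      have e : c * x⁻¹ * c⁻¹ = (c * x * c⁻¹)⁻¹ := by group
      rw [e]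
      exact inv_mem hx
  have h2 : o2 (centralizer ({e} : Set G)) ⊓ Y ≤ o2 Y := by
    refine le_o2 inf_le_right ((o2_isPGroup _).to_le inf_le_left) (mem_norm_of fun y hy x hx => ⟨?_, ?_⟩)
    · exact (mem_normalizer_iff.1 (le_normalizer_o2 _ (hYC hy)) x).1 hx.1
    · exact Y.mul_mem (Y.mul_mem hy hx.2) (Y.inv_mem hy)
  have h3 : o2 Y ≤ o2 K := by
    refine le_o2 ((o2_le Y).trans hYK) (o2_isPGroup Y) ?_
    refine mem_norm_of fun g hg x hx => ?_
    have h3 : (o2 Y).map (MulAut.conj g).toMonoidHom ≤ o2 Y := by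
      refine le_o2 ?_ ((o2_isPGroup Y).map _) ?_
      · rintro _ ⟨y, hy, rfl⟩
        exact (mem_normalizer_iff.1 (hKY hg) y).1 (o2_le Y hy)
      · refine mem_norm_of fun y hy x hx => ?_
        obtain ⟨w, hw, rfl⟩ := hx
        have h4 : g⁻¹ * y * g ∈ Y := by
          have := (mem_normalizer_iff.1 (hKY (inv_mem hg)) y).1 hy
          rwa [inv_inv] at this
        refine ⟨(g⁻¹ * y * g) * w * (g⁻¹ * y * g)⁻¹,
          (mem_normalizer_iff.1 (le_normalizer_o2 _ h4) w).1 hw, ?_⟩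
        change g * ((g⁻¹ * y * g) * w * (g⁻¹ * y * g)⁻¹) * g⁻¹ = y * (g * w * g⁻¹) * y⁻¹
        group
    exact h3 ⟨x, hx, rfl⟩
  exact fun v hv => h3 (h2 ⟨hf hv, hVY hv⟩)

/-- two elements of `V ^ g` act in the same way if they act nontrivially -/
theorem same_act (hVO : V ≤ o2 K) {g : G} (hg : g ∈ K) {u u' : G} (hu : g⁻¹ * u * g ∈ V) (hu' : g⁻¹ * u' * g ∈ V)
    (h1 : pp M u ≠ 1) (h2 : pp M u' ≠ 1) : pp M u = pp M u' := by
  have hn := hnorm h hE hσ hK
  have key : ∀ x, g⁻¹ * x * g ∈ V → x ∈ o2 K := fun x hx => by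
    have := conj_mem h hg (hVO hx)
    have e : g * (g⁻¹ * x * g) * g⁻¹ = x := by group
    rwa [e] at this
  have hu1 := key u hu
  have hu1' := key u' hu'
  ext1 p
  by_cases hp : p.1 = i
  · by_cases h0 : p.2 = 0
    · have e : p = (p.1, 0) := Prod.ext rfl h0
      rw [e, S0_zero h (hle hu1), S0_zero h (hle hu1')]
    · have h3 : pp M u p ≠ p := no_fix h hE hσ hK hle hu1 h1 hp h0
      have h4 : pp M u' p ≠ p := no_fix h hE hσ hK hle hu1' h2 hp h0
      have h5 := comm_pr h hle hu1 p hp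
      set v := pr M (i, 0) p with hv
      have hvV : v ∈ V := pr_mem M _ _
      have hvv : v⁻¹ = v := inv_eq_of_mul_eq_one_left (h.Vsq hvV)
      -- the commutator lies in `V ^ g`
      have h6 : g⁻¹ * pr M p (pp M u p) * g ∈ V := by
        have h7 : g⁻¹ * v * g ∈ P := h.SP (S0_le h (hle (conj_mem' h hg (hVO hvV))))
        have h8 := h.amb.conj_mem h7 hu
        have h9 : (g⁻¹ * v * g) * (g⁻¹ * u * g) * (g⁻¹ * v * g)⁻¹ * (g⁻¹ * u * g)⁻¹ ∈ V :=
          mul_mem h8 (inv_mem hu)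
        have e : (g⁻¹ * v * g) * (g⁻¹ * u * g) * (g⁻¹ * v * g)⁻¹ * (g⁻¹ * u * g)⁻¹ =
            g⁻¹ * (v * (u * v⁻¹ * u⁻¹)) * g := by group
        rw [e, hvv, h5] at h9
        exact h9
      have h7 : u' * pr M p (pp M u p) = pr M p (pp M u p) * u' := by
        have h8 := h.Vcomm hu' h6
        have e1 : u' * pr M p (pp M u p) = g * (g⁻¹ * u' * g * (g⁻¹ * pr M p (pp M u p) * g)) * g⁻¹ := by group
        rw [e1, h8]
        group
      exact ((ne_of_pr h (h.SP (S0_le h (hle hu1'))) (S0_fst h (hle hu1) p).symm (Ne.symm h3) h7).resolve_left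
        h4).symm
  · rw [act_out h hE (o2_isPGroup K) hσ hn hu1 (hle hu1) hp, act_out h hE (o2_isPGroup K) hσ hn hu1' (hle hu1') hp]

/-- the case `V ≤ O` -/
theorem comm_of_le (hVO : V ≤ o2 K) {g : G} (hg : g ∈ K) {v w : G} (hv : v ∈ V) (hw : w ∈ V) :
    v * (g * w * g⁻¹) = g * w * g⁻¹ * v := by
  classical
  by_contra hne
  set u := g * w * g⁻¹ with hu
  have huO : u ∈ o2 K := conj_mem h hg (hVO hw)
  have huP : u ∈ P := h.SP (S0_le h (hle huO))
  have hu1 : pp M u ≠ 1 := fun e =>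
    hne (mem_centralizer_iff.1 ((h.eq_one_iff huP).1 e) v hv)
  have hfix : ∀ b : Pt k m, b.1 = i → b.2 ≠ 0 → pp M u b ≠ b := fun b hb hb0 =>
    no_fix h hE hσ hK hle huO hu1 hb hb0
  have hnz : ∀ b : Pt k m, b.2 ≠ 0 → pp M u b ≠ (i, 0) := fun b hb e => hb
    ((h.snd (S0_le h (hle huO))).1 (by rw [e]))
  obtain ⟨a, ha, ha'⟩ := exists_third h i {(i, 0)} (by simp)
  have ha0 : a.2 ≠ 0 := fun e => ha' (Finset.mem_singleton.2 (Prod.ext ha e))
  obtain ⟨c, hc, hc'⟩ := exists_third h i {(i, 0), a, pp M u a} Finset.card_le_three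
  simp only [Finset.mem_insert, Finset.mem_singleton, not_or] at hc'
  have hc0 : c.2 ≠ 0 := fun e => hc'.1 (Prod.ext hc e)
  have hia : ((i, 0) : Pt k m).1 = a.1 := ha.symm
  have hac : a.1 = c.1 := ha.trans hc.symm
  have hia' : ((i, 0) : Pt k m) ≠ a := fun e => ha0 (by rw [← e])
  have hic' : ((i, 0) : Pt k m) ≠ c := fun e => hc0 (by rw [← e])
  -- `{0, a}`, `{a, c}`, `{0, c}` do not commute with `u`
  have n1 : u * pr M (i, 0) a ≠ pr M (i, 0) a * u := fun e => by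
    rw [pr_comm M hia] at e
    rcases ne_of_pr h huP hia.symm hia'.symm e with e1 | e1
    · exact hfix a ha ha0 e1
    · exact hnz a ha0 e1
  have n2 : u * pr M a c ≠ pr M a c * u := fun e => by
    rcases ne_of_pr h huP hac (Ne.symm hc'.2.1) e with e1 | e1
    · exact hfix a ha ha0 e1
    · exact hc'.2.2 e1.symm
  have n3 : u * pr M (i, 0) c ≠ pr M (i, 0) c * u := fun e => by
    rw [pr_comm M (hia.trans hac)] at e
    rcases ne_of_pr h huP (hia.trans hac).symm hic'.symm e with e1 | e1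
    · exact hfix c hc hc0 e1
    · exact hnz c hc0 e1
  have hgi : g⁻¹ ∈ K := inv_mem hg
  have cnt : ∀ x ∈ V, u * x ≠ x * u → pp M (g⁻¹ * x * g) ≠ 1 := by
    intro x hx hn e
    have hxP : g⁻¹ * x * g ∈ P := h.SP (S0_le h (hle (conj_mem' h hg (hVO hx))))
    have h1 := mem_centralizer_iff.1 ((h.eq_one_iff hxP).1 e) w hw
    apply hn
    have e1 : u * x = g * (w * (g⁻¹ * x * g)) * g⁻¹ := by rw [hu]; group
    rw [e1, h1, hu]
    group
  have h1 := same_act h hE hσ hVK hK hle hVO hgi (u := g⁻¹ * pr M (i, 0) a * g) (u' := g⁻¹ * pr M a c * g)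
    (by
      have e : g⁻¹⁻¹ * (g⁻¹ * pr M (i, 0) a * g) * g⁻¹ = pr M (i, 0) a := by group
      rw [e]; exact pr_mem M _ _)
    (by
      have e : g⁻¹⁻¹ * (g⁻¹ * pr M a c * g) * g⁻¹ = pr M a c := by group
      rw [e]; exact pr_mem M _ _)
    (cnt _ (pr_mem M _ _) n1) (cnt _ (pr_mem M _ _) n2)
  have p1 : g⁻¹ * pr M (i, 0) a * g ∈ P :=
    h.SP (S0_le h (hle (conj_mem' h hg (hVO (pr_mem M _ _)))))
  have p2 : g⁻¹ * pr M a c * g ∈ P :=
    h.SP (S0_le h (hle (conj_mem' h hg (hVO (pr_mem M _ _)))))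
  have h2 : pp M (g⁻¹ * pr M (i, 0) c * g) = 1 := by
    have e : g⁻¹ * pr M (i, 0) c * g = (g⁻¹ * pr M (i, 0) a * g) * (g⁻¹ * pr M a c * g) := by
      rw [← pr_mul M hia hac]
      group
    rw [e, h.mul p1 p2, h1, ← h.mul p2 p2]
    have e2 : (g⁻¹ * pr M a c * g) * (g⁻¹ * pr M a c * g) = 1 := by
      have e3 : (g⁻¹ * pr M a c * g) * (g⁻¹ * pr M a c * g) = g⁻¹ * (pr M a c * pr M a c) * g := by group
      rw [e3, h.Vsq (pr_mem M _ _)]
      group
    rw [e2, h.one]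
  exact cnt _ (pr_mem M _ _) n3 h2

include hc in
/-- **`⟨V ^ K⟩` is abelian** -/
theorem commK (hDK : DD M ≤ K) {e : G} (he : e ∈ DD M) (hf : V ≤ o2 (centralizer ({e} : Set G)))
    {g : G} (hg : g ∈ K) {v w : G} (hv : v ∈ V) (hw : w ∈ V) : v * (g * w * g⁻¹) = g * w * g⁻¹ * v := by
  by_cases ht : ∀ u ∈ o2 K, pp M u = 1
  · exact comm_of_triv h hVK hc hle ht hg hv hw
  · push Not at ht
    obtain ⟨u, hu, hu1⟩ := ht
    exact comm_of_le h hE hσ hVK hK hle (V_le_o2 h hE hσ hVK hK hc hle hDK he hf hu hu1) hg hv hw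

end K

/-- **`⟨V ^ C_G(σ_i d)⟩` is abelian** if `O₂(C_G(σ_i d)) ≤ S0 h` and `DD M ≠ 1`, all `m ≥ 2` -/
theorem esigD_two [Finite G] (h : Sit S P V M) (hG : IsCharacteristicTwoType G) (zv : zc (o2 P) ≤ V ⊔ DD M)
    (i : Fin k) {d : G} (hd : d ∈ DD M) (hne : (sg h i).val * d ≠ 1)
    (hO : o2 (centralizer ({(sg h i).val * d} : Set G)) ≤ S0 h) {e : G} (he : e ∈ DD M) (he1 : e ≠ 1) {g : G}
    (hg : g * ((sg h i).val * d) = (sg h i).val * d * g) {v w : G} (hv : v ∈ V) (hw : w ∈ V) :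
    v * (g * w * g⁻¹) = g * w * g⁻¹ * v := by
  have hy : (sg h i).val * d ∈ zc (o2 P) := mul_mem (h.VZ (sg_mem h i)) (mem_DD.1 hd).1
  have hZK : zc (o2 P) ≤ centralizer ({(sg h i).val * d} : Set G) := fun z hz =>
    mem_centralizer_singleton_iff.2 (ZN.zc_comm hy (zc_le _ hz))
  refine commK h (E_sg h i) (sg_mem h i) (K := centralizer ({(sg h i).val * d} : Set G))
    (fun x hx => hZK (h.VZ hx)) (fun g hg h1 h2 => mem_K h hd hg h1 h2)
    (char2_cent hG (sgd_sq h hd) hne) hO (fun x hx => hZK (mem_DD.1 hx).1) he ?_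
    (mem_centralizer_singleton_iff.2 hg) hv hw
  exact fun v hv => zc_le _ ((HF_cent hG h zv he he1).2 (h.VZ hv))

end Cfsg.Agent.Omega.IId.SymWrD.Ht.RB
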