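import Cfsg.Agent.Omega.IId.SymWrD.Ht.LemRD

/-!
# II.d, `SwCv`, T-T, `D` arbitrary: `O₂(C_G(σ_i d)) ≤ O₂(P)`, `3 ≤ m` (bb OMEGA #21846 (g), #21945)

`SymWrD.Sit S P V M`, `Ω₁Z(O₂(P)) ≤ V ⊔ DD M`, `K` a subgroup normalising the 2-group `O` and containing the
elements of `P` inside the summands which commute with `σ`.

* `tri`, `tri'` : an element of `O ∩ P` does not map a duad commuting with `σ` to a duad meeting it in one point;
* `act_out`, `act_one`, `act_three` : the action of `O ∩ S0`;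
* `o2_le_Q` : `O₂(C_G(σ_i d)) ≤ O₂(P)`, `Ω₁Z(O₂(P)) ≤ Ω₁Z(O₂(C_G(σ_i d)))`, `d ∈ DD M`, `3 ≤ m`;
* `esigD` : `⟨Ω₁Z(O₂(P)) ^ C_G(σ_i d)⟩` is abelian.
-/

set_option autoImplicit false
set_option linter.unusedSectionVars false

namespace Cfsg.Agent.Omega.IId.SymWrD.Ht.RD

open Subgroup Pointwise Cfsg Cfsg.Agent.Omega.MinPar Cfsg.Agent.Omega.FFThm
open Cfsg.Agent.ZN (o2 zc)
open Cfsg.Agent.Omega.IId.SymWrD
open Cfsg.Agent.Omega.IId.SwB (S0 mem_S0 S0_le S0_fst S0_comm Q_le_S0)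
open Cfsg.Agent.Omega.Half.SymA (Pt E Mv pm Amb0)
open Cfsg.Agent.MinSimple.VModule (mem_zc zc_le le_normalizer_o2 o2_isPGroup o2_le)

universe u

variable {G : Type u} [Group G] {P V : Subgroup G} {k m : ℕ} {S : Sylow 2 G} {M : SymK (S : Subgroup G) P V ⊥ k m}

/-- a permutation of 2-power order has no 3-cycle -/
theorem fix_of_cyc {α : Type*} {π : Equiv.Perm α} {n : ℕ} (h2 : π ^ 2 ^ n = 1) {a b c : α} (h1 : π a = b)
    (h3 : π b = c) (h4 : π c = a) : b = a := by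
  have e1 : Function.IsPeriodicPt π 3 a := by
    change π (π (π a)) = a
    rw [h1, h3, h4]
  have e2 : Function.IsPeriodicPt π (2 ^ n) a := by
    have h5 : (π ^ 2 ^ n) a = a := by rw [h2]; rfl
    rw [Function.IsPeriodicPt, Function.IsFixedPt]
    rwa [← Equiv.Perm.iterate_eq_pow] at h5
  have e3 := e1.gcd e2
  have e4 : Nat.gcd 3 (2 ^ n) = 1 := by
    apply Nat.Coprime.pow_right
    decide
  rw [e4] at e3
  have e5 : π a = a := e3
  rw [← h1, e5]

section

variable (h : Sit S P V M)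

theorem S0_zero {s : G} (hs : s ∈ S0 h) (l : Fin k) : pp M s (l, 0) = (l, 0) := by
  have h1 := ((mem_S0 h).1 hs).2 (l, 0)
  have h2 : (pp M s (l, 0)).2 = 0 := (h.snd ((mem_S0 h).1 hs).1).2 rfl
  exact Prod.ext h1 h2

include h

open scoped Classical in
/-- an element of `P` inducing a transposition -/
theorem exists_swapP {a b : Pt k m} (hab : a.1 = b.1) : ∃ g ∈ P, pp M g = Equiv.swap a b :=
  h.exists_pp fun r => by
    rcases eq_or_ne r a with rfl | hr
    · rw [Equiv.swap_apply_left, hab]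
    · rcases eq_or_ne r b with rfl | hr'
      · rw [Equiv.swap_apply_right, hab]
      · rw [Equiv.swap_apply_of_ne_of_ne hr hr']

/-- the powers -/
theorem pp_pow {g : G} (hg : g ∈ P) (n : ℕ) : pp M (g ^ n) = pp M g ^ n := by
  induction n with
  | zero => rw [pow_zero, pow_zero, h.one]
  | succ n ih => rw [pow_succ, pow_succ, h.mul (pow_mem hg n) hg, ih]

open scoped Classical in
/-- the commutator with a transposition -/
theorem pp_comm_swap {a b : Pt k m} {u g : G} (hu : u ∈ P) (hg : g ∈ P) (hgp : pp M g = Equiv.swap a b) :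
    pp M (u * g * u⁻¹ * g⁻¹) = Equiv.swap (pp M u a) (pp M u b) * Equiv.swap a b := by
  rw [h.mul (mul_mem (mul_mem hu hg) (inv_mem hu)) (inv_mem hg), h.conj hu hg, h.inv hg, hgp, Equiv.swap_inv,
    ← Equiv.swap_apply_apply]

open scoped Classical in
theorem pow_comm_swap {X : Subgroup G} (hX : IsPGroup 2 X) {a b : Pt k m} {u g : G} (hu : u ∈ P)
    (hg : g ∈ P) (hgp : pp M g = Equiv.swap a b) (hc : u * g * u⁻¹ * g⁻¹ ∈ X) :
    ∃ n : ℕ, (Equiv.swap (pp M u a) (pp M u b) * Equiv.swap a b) ^ 2 ^ n = 1 := by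
  obtain ⟨n, hn⟩ := hX ⟨_, hc⟩
  refine ⟨n, ?_⟩
  have hcP : u * g * u⁻¹ * g⁻¹ ∈ P := mul_mem (mul_mem (mul_mem hu hg) (inv_mem hu)) (inv_mem hg)
  have hn' : (u * g * u⁻¹ * g⁻¹) ^ 2 ^ n = 1 := congrArg Subtype.val hn
  rw [← pp_comm_swap h hu hg hgp, ← pp_pow h hcP, hn', h.one]

open scoped Classical in
/-- an element of the 2-group `X ≥ [X, swap]` -/
theorem tri_aux {X : Subgroup G} (hX : IsPGroup 2 X) {a b : Pt k m} (hne : a ≠ b) {u g : G} (hu : u ∈ P)
    (hg : g ∈ P) (hgp : pp M g = Equiv.swap a b) (hc : u * g * u⁻¹ * g⁻¹ ∈ X) (h1 : pp M u a = a) :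
    pp M u b = b := by
  by_contra h2
  obtain ⟨n, hn⟩ := pow_comm_swap h hX hu hg hgp hc
  have hub : pp M u b ≠ a := fun e => hne ((pp M u).injective (h1.trans e.symm))
  rw [h1] at hn
  have e1 : (Equiv.swap a (pp M u b) * Equiv.swap a b) b = pp M u b := by
    rw [Equiv.Perm.mul_apply, Equiv.swap_apply_right, Equiv.swap_apply_left]
  have e2 : (Equiv.swap a (pp M u b) * Equiv.swap a b) (pp M u b) = a := by
    rw [Equiv.Perm.mul_apply, Equiv.swap_apply_of_ne_of_ne hub h2, Equiv.swap_apply_right]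
  have e3 : (Equiv.swap a (pp M u b) * Equiv.swap a b) a = b := by
    rw [Equiv.Perm.mul_apply, Equiv.swap_apply_left, Equiv.swap_apply_of_ne_of_ne hne.symm (Ne.symm h2)]
  exact h2 (fix_of_cyc hn e1 e2 e3)

/-! ### A 2-group `O` normalised by the elements of `P` in the summands which commute with `σ` -/

variable {σ : G} {i : Fin k} (hE : ∀ p : Pt k m, E M σ p = if p.1 = i then (if p.2 = 0 then 0 else 1) else 0)

include hE

theorem E_eq {a b : Pt k m} (hab : a.1 = b.1) (h0 : a.2 = 0 ↔ b.2 = 0) : E M σ a = E M σ b := by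
  rw [hE, hE, hab]
  simp only [h0]

theorem E_eq' {a b : Pt k m} (hab : a.1 = b.1) (hi : a.1 ≠ i) : E M σ a = E M σ b := by
  rw [hE, hE, ← hab, if_neg hi, if_neg hi]

variable {O : Subgroup G} (hO : IsPGroup 2 O) (hσ : σ ∈ V)
  (hn : ∀ g ∈ P, (∀ p, (pp M g p).1 = p.1) → g * σ = σ * g → g ∈ normalizer (O : Set G))

omit hE in
include hσ hn in
open scoped Classical in
/-- the commutators with the transpositions commuting with `σ_i` -/
theorem comm_mem {u g : G} (hu : u ∈ O) {a b : Pt k m} (hab' : a.1 = b.1) (hg : g ∈ P)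
    (hgp : pp M g = Equiv.swap a b) (hab : E M σ a = E M σ b) : u * g * u⁻¹ * g⁻¹ ∈ O := by
  have hgK : g ∈ normalizer (O : Set G) := by
    refine hn g hg (fun r => ?_) ((h.comm_iff hg hσ).2 fun r => ?_)
    · rw [hgp]
      rcases eq_or_ne r a with rfl | hr
      · rw [Equiv.swap_apply_left, hab']
      · rcases eq_or_ne r b with rfl | hr'
        · rw [Equiv.swap_apply_right, hab']
        · rw [Equiv.swap_apply_of_ne_of_ne hr hr']
    · rw [hgp]
      rcases eq_or_ne r a with rfl | hr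
      · rw [Equiv.swap_apply_left, hab]
      · rcases eq_or_ne r b with rfl | hr'
        · rw [Equiv.swap_apply_right, hab]
        · rw [Equiv.swap_apply_of_ne_of_ne hr hr']
  have h1 := (mem_normalizer_iff.1 hgK u⁻¹).1 (inv_mem hu)
  have e : u * g * u⁻¹ * g⁻¹ = u * (g * u⁻¹ * g⁻¹) := by group
  rw [e]
  exact mul_mem hu h1

omit hE in
include hO hσ hn in
theorem tri {u : G} (hu : u ∈ O) (huP : u ∈ P) {a b : Pt k m} (hab : a.1 = b.1)
    (hne : a ≠ b) (hEab : E M σ a = E M σ b) (h1 : pp M u a = a) : pp M u b = b := by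
  classical
  obtain ⟨g, hg, hgp⟩ := exists_swapP h hab
  exact tri_aux h hO hne huP hg hgp (comm_mem h hσ hn hu hab hg hgp hEab) h1

include hO hσ hn in
/-- trivial outside of the summand `i` -/
theorem act_out {u : G} (hu : u ∈ O) (hu0 : u ∈ S0 h) {p : Pt k m} (hp : p.1 ≠ i) : pp M u p = p := by
  by_cases h0 : p.2 = 0
  · have e : p = (p.1, 0) := Prod.ext rfl h0
    rw [e]
    exact S0_zero h hu0 _
  · refine tri h hO hσ hn hu (h.SP ((mem_S0 h).1 hu0).1) (a := (p.1, 0)) rfl (fun e => h0 ?_) ?_ (S0_zero h hu0 _)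
    · rw [← e]
    · exact E_eq' h hE rfl hp

include hO hσ hn in
/-- trivial or without fixed points -/
theorem act_one {u : G} (hu : u ∈ O) (hu0 : u ∈ S0 h) {a : Pt k m} (ha : a.1 = i)
    (ha0 : a.2 ≠ 0) (h1 : pp M u a = a) : pp M u = 1 := by
  ext1 p
  change pp M u p = p
  by_cases hp : p.1 = i
  · by_cases h0 : p.2 = 0
    · have e : p = (p.1, 0) := Prod.ext rfl h0
      rw [e]
      exact S0_zero h hu0 _
    · by_cases hap : a = p
      · rw [← hap, h1]
      · exact tri h hO hσ hn hu (h.SP ((mem_S0 h).1 hu0).1) (ha.trans hp.symm) hap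
          (E_eq h hE (ha.trans hp.symm) (by simp only [ha0, h0])) h1
  · exact act_out h hE hO hσ hn hu hu0 hp

include hO hσ hn in
/-- `3 ≤ m` : trivial -/
theorem act_three (hm : 3 ≤ m) {u : G} (hu : u ∈ O) (hu0 : u ∈ S0 h) : pp M u = 1 := by
  classical
  have huP := h.SP ((mem_S0 h).1 hu0).1
  obtain ⟨a, ha, ha'⟩ := exists_pt hm i {(i, 0)} (by simp)
  have ha0 : a.2 ≠ 0 := fun e => ha' (Finset.mem_singleton.2 (Prod.ext ha e))
  by_contra h1
  have h2 : ∀ b : Pt k m, b.1 = i → b.2 ≠ 0 → pp M u b ≠ b := fun b hb hb0 e =>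
    h1 (act_one h hE hO hσ hn hu hu0 hb hb0 e)
  obtain ⟨c, hc, hc'⟩ := exists_pt hm i {(i, 0), a, pp M u a} ((Finset.card_le_three).trans (by norm_num))
  simp only [Finset.mem_insert, Finset.mem_singleton, not_or] at hc'
  have hc0 : c.2 ≠ 0 := fun e => hc'.1 (Prod.ext hc e)
  obtain ⟨e, he, he'⟩ := exists_pt hm i {(i, 0), a, c, pp M u a, pp M u c}
    ((Finset.card_le_five).trans (by norm_num))
  simp only [Finset.mem_insert, Finset.mem_singleton, not_or] at he'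
  have he0 : e.2 ≠ 0 := fun e1 => he'.1 (Prod.ext he e1)
  obtain ⟨g, hg, hgp⟩ := exists_swapP h (ha.trans hc.symm)
  have hEac : E M σ a = E M σ c := E_eq h hE (ha.trans hc.symm) (by simp only [ha0, hc0])
  have hEae : E M σ e = E M σ a := E_eq h hE (he.trans ha.symm) (by simp only [ha0, he0])
  have h3 := comm_mem h hσ hn hu (ha.trans hc.symm) hg hgp hEac
  have h4 := pp_comm_swap h huP hg hgp
  have hcP : u * g * u⁻¹ * g⁻¹ ∈ P := mul_mem (mul_mem (mul_mem huP hg) (inv_mem huP)) (inv_mem hg)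
  have h5 : pp M (u * g * u⁻¹ * g⁻¹) e = e := by
    rw [h4, Equiv.Perm.mul_apply, Equiv.swap_apply_of_ne_of_ne he'.2.1 he'.2.2.1,
      Equiv.swap_apply_of_ne_of_ne he'.2.2.2.1 he'.2.2.2.2]
  have h6 := tri h hO hσ hn h3 hcP (he.trans ha.symm) he'.2.1 hEae h5
  have h7 : pp M (u * g * u⁻¹ * g⁻¹) a = c := by
    rw [h4, Equiv.Perm.mul_apply, Equiv.swap_apply_left,
      Equiv.swap_apply_of_ne_of_ne hc'.2.2 (Ne.symm (h2 c hc hc0))]
  exact hc'.2.1 (h7.symm.trans h6)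

end

section sgd

variable [Finite G] (h : Sit S P V M) {i : Fin k} {d : G} (hd : d ∈ DD M)
include hd

theorem sgd_sq : (sg h i).val * d * ((sg h i).val * d) = 1 := by
  have h1 := ZN.zc_comm (h.VZ (sg_mem h i)) (zc_le _ (mem_DD.1 hd).1)
  calc (sg h i).val * d * ((sg h i).val * d) = (sg h i).val * (d * (sg h i).val) * d := by group
    _ = (sg h i).val * (sg h i).val * (d * d) := by rw [h1]; group
    _ = 1 := by rw [h.Vsq (sg_mem h i), DD_sq hd, mul_one]

/-- the elements of `P` in the summands commuting with `σ_i` commute with `σ_i d` -/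
theorem mem_K {g : G} (hg : g ∈ P) (hg1 : ∀ p, (pp M g p).1 = p.1) (hgσ : g * (sg h i).val = (sg h i).val * g) :
    g ∈ centralizer ({(sg h i).val * d} : Set G) := by
  rw [mem_centralizer_singleton_iff]
  calc g * ((sg h i).val * d) = g * (sg h i).val * d := by group
    _ = (sg h i).val * (g * d) := by rw [hgσ]; group
    _ = (sg h i).val * d * g := by rw [(mem_DD.1 hd).2 g hg hg1]; group

end sgd

/-- **`O₂(C_G(σ_i d)) ≤ O₂(P)`**, `3 ≤ m` -/
theorem o2_sgd_le [Finite G] (h : Sit S P V M) (zv : zc (o2 P) ≤ V ⊔ DD M) (h3 : 3 ≤ m) (i : Fin k) {d : G}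
    (hd : d ∈ DD M) : o2 (centralizer ({(sg h i).val * d} : Set G)) ≤ o2 P := by
  have hn : ∀ g ∈ P, (∀ p, (pp M g p).1 = p.1) → g * (sg h i).val = (sg h i).val * g →
      g ∈ normalizer (o2 (centralizer ({(sg h i).val * d} : Set G)) : Set G) := fun g hg hg1 hg2 =>
    le_normalizer_o2 _ (mem_K h hd hg hg1 hg2)
  have h1 : ∀ y ∈ o2 (centralizer ({(sg h i).val * d} : Set G)), y ∈ S0 h → y ∈ o2 P := fun y hy hy0 => by
    rw [h.mem_Q_iff (S0_le h hy0)]
    exact act_three h (E_sg h i) (o2_isPGroup _) (sg_mem h i) hn h3 hy hy0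
  have h2 := lemR_a h zv (o2_isPGroup _) (fun s hs => hn s (h.SP (S0_le h hs)) (S0_fst h hs) (S0_comm h hs i)) h1
  exact fun y hy => h1 y hy (h2 hy)

/-- **`Ω₁Z(O₂(P)) ≤ Ω₁Z(O₂(C_G(σ_i d)))`**, `3 ≤ m` -/
theorem zc_le_sgd [Finite G] (h : Sit S P V M) (hG : IsCharacteristicTwoType G) (zv : zc (o2 P) ≤ V ⊔ DD M)
    (h3 : 3 ≤ m) (i : Fin k) {d : G} (hd : d ∈ DD M) (hne : (sg h i).val * d ≠ 1) :
    zc (o2 P) ≤ zc (o2 (centralizer ({(sg h i).val * d} : Set G))) := by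
  have h1 := o2_sgd_le h zv h3 i hd
  have h2 : ∀ v ∈ zc (o2 P), ∀ g ∈ o2 (centralizer ({(sg h i).val * d} : Set G)), g * v = v * g :=
    fun v hv g hg => (mem_zc.1 hv).2.1 g (h1 hg)
  have hy : (sg h i).val * d ∈ zc (o2 P) := mul_mem (h.VZ (sg_mem h i)) (mem_DD.1 hd).1
  exact fun v hv => mem_zc.2 ⟨char2_cent hG (sgd_sq h hd) hne ⟨mem_centralizer_singleton_iff.2
    (ZN.zc_comm hy (zc_le _ hv)), mem_centralizer_iff.2 (h2 v hv)⟩, h2 v hv, (mem_zc.1 hv).2.2⟩

/-- **`⟨Ω₁Z(O₂(P)) ^ C_G(σ_i d)⟩` is abelian**, `3 ≤ m` -/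
theorem esigD [Finite G] (h : Sit S P V M) (hG : IsCharacteristicTwoType G) (zv : zc (o2 P) ≤ V ⊔ DD M)
    (h3 : 3 ≤ m) (i : Fin k) {d : G} (hd : d ∈ DD M) (hne : (sg h i).val * d ≠ 1) {g : G}
    (hg : g * ((sg h i).val * d) = (sg h i).val * d * g) {v w : G} (hv : v ∈ zc (o2 P)) (hw : w ∈ zc (o2 P)) :
    v * (g * w * g⁻¹) = g * w * g⁻¹ * v := by
  have h1 := zc_le_sgd h hG zv h3 i hd hne
  have h2 : g * w * g⁻¹ ∈ o2 (centralizer ({(sg h i).val * d} : Set G)) :=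
    (mem_normalizer_iff.1 (le_normalizer_o2 _ (mem_centralizer_singleton_iff.2 hg)) w).1 (zc_le _ (h1 hw))
  exact ((mem_zc.1 (h1 hv)).2.1 _ h2).symm

end Cfsg.Agent.Omega.IId.SymWrD.Ht.RD
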