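import Cfsg.Agent.Omega.IId.SymWrD.Ht.Odd
import Cfsg.Agent.Omega.FFMutual

/-!
# II.d, `SwCv`, T-T, `D` arbitrary: LEMMA C (THEOREM SYL^, helper916)

`ZZ = Ω₁Z(O₂(P))`, `R` a 2-group, `T = C_S(n) ≤ R ≤ N_G(ZZ)`.

* `Fr.trv` : the elements of `S` acting as transvections on `V` (resp. on `ZZ`) have centre `pr M c (μ c)`;
* `Fr.lemC_cen` : the same for `R`;
* `Fr.lemC_le` : `R ≤ C_G(n)` implies `R ≤ T`.
-/

set_option autoImplicit false
set_option linter.unusedSectionVars false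

namespace Cfsg.Agent.Omega.IId.SymWrD.Ht

open Subgroup Cfsg Cfsg.Agent.Omega.MinPar Cfsg.Agent.Omega.FFThm
open Cfsg.Agent.ZN (o2 zc)
open Cfsg.Agent.ZN.ChoiceBase (cj mem_cj)
open Cfsg.Agent.Omega.Half (Amb amb_of_loc)
open Cfsg.Agent.Omega.Half.SymA (Pt E Mv pm)
open Cfsg.Agent.MinSimple.VModule (le_normalizer_o2 o2_isPGroup o2_le mem_zc zc_le normalizer_le_normalizer_zc)

universe u

variable {G : Type u} [Group G] {k m : ℕ}

namespace Fr

variable {S : Sylow 2 G} {P V D : Subgroup G} {M : SymK (S : Subgroup G) P V ⊥ k m} (h : Fr S P V D M)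
  {μ ν : Equiv.Perm (Pt k m)} (F : Fours M μ ν)
include h

theorem pp_zero {s : G} (hs : s ∈ (S : Subgroup G)) (c : Pt k m) : pp M s (c.1, 0) = ((pp M s c).1, 0) :=
  Prod.ext (h.fst (h.SP hs) rfl) ((h.snd hs).2 rfl)

theorem conj_zz {s : G} (hs : s ∈ (S : Subgroup G)) (c : Pt k m) :
    s * pr M (c.1, 0) c * s⁻¹ = pr M ((pp M s c).1, 0) (pp M s c) := by
  rw [h.conj_pr (h.SP hs) (p := (c.1, 0)) (q := c) rfl, h.pp_zero hs]

omit h in
open scoped Classical in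
theorem E_zz (M : SymK (S : Subgroup G) P V ⊥ k m) {c q : Pt k m} (hq : q.2 ≠ 0) :
    E M (pr M (c.1, 0) c) q = if q = c then 1 else 0 := by
  rw [E_pr M (p := (c.1, 0)) (q := c) rfl, if_neg (fun h0 : q = (c.1, 0) => hq (by rw [h0])), zero_add]

omit h in
theorem exists_pt4 (hm : 2 ≤ m) (l : Fin k) (s : Finset (Pt k m)) (hs : s.card ≤ 4) :
    ∃ p : Pt k m, p.1 = l ∧ p ∉ s := by
  classical
  by_contra hcon
  push Not at hcon
  have h1 : (Finset.univ : Finset (Fin (2 ^ m + 1))).image (fun x => ((l, x) : Pt k m)) ⊆ s := by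
    intro p hp
    obtain ⟨x, -, rfl⟩ := Finset.mem_image.1 hp
    exact hcon _ rfl
  have h2 := Finset.card_le_card h1
  rw [Finset.card_image_of_injective _ (fun x y hxy => (Prod.mk.inj hxy).2), Finset.card_univ, Fintype.card_fin] at h2
  have h3 : 2 ^ 2 ≤ 2 ^ m := Nat.pow_le_pow_right (by norm_num) hm
  omega

include F in
/-- **The centres of the elements of `S` acting as transvections on `V`.** -/
theorem trv {s r : G} (hs : s ∈ (S : Subgroup G)) (h1 : ∀ v ∈ V, s * v * s⁻¹ = v ∨ s * v * s⁻¹ = v * r)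
    (h2 : ∃ c : Pt k m, c.2 ≠ 0 ∧ pp M s c ≠ c) :
    ∃ c : Pt k m, c.2 ≠ 0 ∧ r = pr M c (μ c) ∧ pp M s c = μ c := by
  classical
  -- the moved points
  have hr : ∀ c : Pt k m, c.2 ≠ 0 → pp M s c ≠ c →
      r = pr M (c.1, 0) c * pr M ((pp M s c).1, 0) (pp M s c) := by
    intro c hc hmv
    have h3 : s * pr M (c.1, 0) c * s⁻¹ = pr M (c.1, 0) c * r := by
      refine (h1 _ (pr_mem M _ _)).resolve_left fun h0 => ?_
      rw [h.conj_zz hs] at h0
      have h4 := congrArg (fun v => E M v c) h0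
      simp only [E_zz M hc] at h4
      rw [if_neg hmv.symm] at h4
      exact zero_ne_one h4
    rw [h.conj_zz hs] at h3
    rw [h3, ← mul_assoc, h.Vsq (pr_mem M _ _), one_mul]
  have hEr : ∀ c : Pt k m, c.2 ≠ 0 → pp M s c ≠ c → ∀ q : Pt k m, q.2 ≠ 0 →
      E M r q = (if q = c then 1 else 0) + (if q = pp M s c then 1 else 0) := by
    intro c hc hmv q hq
    rw [hr c hc hmv, Half.SymA.E_mul M (pr_mem M _ _) (pr_mem M _ _), E_zz M hq, E_zz M hq]
  obtain ⟨c, hc, hmv⟩ := h2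
  have hEc : E M r c = 1 := by
    rw [hEr c hc hmv c hc, if_neg hmv.symm, if_pos rfl, add_zero]
  -- step 1
  have hblk : (pp M s c).1 = c.1 := by
    by_contra hne
    obtain ⟨c₂, hc₂, hc₂s⟩ := exists_pt4 h.hm c.1 ({(c.1, 0), c} : Finset (Pt k m))
      (Finset.card_le_two.trans (by norm_num))
    rw [Finset.mem_insert, Finset.mem_singleton, not_or] at hc₂s
    obtain ⟨h3, h4⟩ := hc₂s
    have h6 : c₂.2 ≠ 0 := fun h0 => h3 (Prod.ext hc₂ h0)
    have h7 : (pp M s c₂).1 = (pp M s c).1 := h.fst (h.SP hs) hc₂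
    have h8 : pp M s c₂ ≠ c₂ := fun h0 => hne (by rw [← h7, h0, hc₂])
    have h9 := hEr c₂ h6 h8 c hc
    rw [if_neg (fun h0 : c = pp M s c₂ => hne (by rw [← h7, ← h0])), if_neg (fun h0 : c = c₂ => h4 h0.symm), hEc,
      add_zero] at h9
    exact one_ne_zero h9
  -- step 2
  have hμc : (μ c).2 ≠ 0 := fun h0 => hc (F.mnz.1 h0)
  have hμm : pp M s (μ c) ≠ μ c := fun h0 => hmv (μ.injective (by rw [← F.meqv s hs, h0]))
  have h3 := hEr (μ c) hμc hμm c hc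
  rw [hEc, if_neg (F.mne c hc).symm, zero_add, F.meqv s hs] at h3
  have h4 : c = μ (pp M s c) := by
    by_contra h0
    rw [if_neg h0] at h3
    exact one_ne_zero h3
  have h5 : pp M s c = μ c := by rw [h4, F.msq, ← h4]
  refine ⟨c, hc, ?_, h5⟩
  rw [hr c hc hmv, h5, F.mfst, pr_comm M (p := (c.1, 0)) (q := c) rfl,
    pr_mul M (p := c) (q := (c.1, 0)) (r := μ c) rfl (F.mfst c).symm]

/-- an element of `S` fixing all letters `≠ 0` centralises `ZZ` -/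
theorem comm_zz_of_fix {s : G} (hs : s ∈ (S : Subgroup G)) (h1 : ∀ c : Pt k m, c.2 ≠ 0 → pp M s c = c) {z : G}
    (hz : z ∈ zc (o2 P)) : s * z = z * s := by
  have h2 : pp M s = 1 := by
    ext1 q
    by_cases hq : q.2 = 0
    · obtain ⟨c, hc, hcs⟩ := exists_pt4 h.hm q.1 ({(q.1, 0)} : Finset (Pt k m)) (by simp)
      rw [Finset.mem_singleton] at hcs
      have hc0 : c.2 ≠ 0 := fun h0 => hcs (Prod.ext hc h0)
      have h4 := h.pp_zero hs c
      rw [h1 c hc0, hc] at h4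
      have h5 : q = (q.1, 0) := Prod.ext rfl hq
      rw [h5, h4]
      rfl
    · exact h1 q hq
  have h3 := (h.mem_Q_iff hs).2 h2
  exact (mem_zc.1 hz).2.1 s h3

theorem P_le_NZZ : P ≤ normalizer (zc (o2 P) : Set G) :=
  (le_normalizer_o2 P).trans (normalizer_le_normalizer_zc _)

section fin

variable [Finite G] (zv : zc (o2 P) ≤ V ⊔ DD M)

omit F h in
theorem swap_fst_eq {p q : Pt k m} (hpq : p.1 = q.1) (r : Pt k m) : (Equiv.swap p q r).1 = r.1 := by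
  by_cases h1 : r = p
  · rw [h1, Equiv.swap_apply_left, hpq]
  by_cases h2 : r = q
  · rw [h2, Equiv.swap_apply_right, hpq]
  · rw [Equiv.swap_apply_of_ne_of_ne h1 h2]

include zv in
/-- the action on `ZZ` of an element inducing `(p q)` -/
theorem swap_zz {g : G} (hgP : g ∈ P) {p q : Pt k m} (hpq : p.1 = q.1) (hg : pp M g = Equiv.swap p q) {z : G}
    (hz : z ∈ zc (o2 P)) : g * z * g⁻¹ = z ∨ g * z * g⁻¹ = z * pr M p q := by
  obtain ⟨v, hv, d, hd, rfl⟩ := h.zz_dec zv hz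
  have hgd : g * d * g⁻¹ = d := by
    rw [(mem_DD.1 hd).2 g hgP fun r => ?_, mul_inv_cancel_right]
    rw [hg]; exact swap_fst_eq hpq r
  have e : g * (v * d) * g⁻¹ = g * v * g⁻¹ * d := by
    calc g * (v * d) * g⁻¹ = g * v * g⁻¹ * (g * d * g⁻¹) := by group
      _ = g * v * g⁻¹ * d := by rw [hgd]
  rw [e]
  by_cases hE : E M v p = E M v q
  · left
    rw [h.comm_perp_of (p := p) (q := q) hgP (Or.inr hg) hv hE, mul_inv_cancel_right]
  · right
    rw [h.conj_swap hgP hpq hg hv hE, mul_assoc, mul_assoc,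
      Sit.zz_comm (h.VZ (pr_mem M p q)) (mem_DD.1 hd).1]

variable {x : Pt k m} (hx : x.2 ≠ 0)
include F hx zv

/-- the group `R` -/
theorem lemC_exists {R : Subgroup G} (hR : IsPGroup 2 R) (hTR : tn S M μ x ≤ R)
    (hRN : R ≤ normalizer (zc (o2 P) : Set G)) : ∃ g ∈ normalizer (zc (o2 P) : Set G),
      (∀ y ∈ R, g * y * g⁻¹ ∈ (S : Subgroup G)) ∧
      ∀ c : Pt k m, c.2 ≠ 0 → ∃ c' : Pt k m, c'.2 ≠ 0 ∧ g * pr M c (μ c) * g⁻¹ = pr M c' (μ c') := by
  obtain ⟨g, hg, hgR⟩ := FFThm.exists_conj_le S (h.SP.trans h.P_le_NZZ) hR hRN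
  have hgR' : ∀ y ∈ R, g * y * g⁻¹ ∈ (S : Subgroup G) := fun y hy =>
    hgR (by rw [mem_cj]; convert hy using 1; group)
  refine ⟨g, hg, hgR', fun c hc => ?_⟩
  obtain ⟨τ, hτ, hτp⟩ := h.exists_swap F hx hc
  have hτP := h.SP hτ.1
  have hcc : c.1 = (μ c).1 := (F.mfst c).symm
  have hs := hgR' τ (hTR hτ)
  have hgi : ∀ z ∈ zc (o2 P), g⁻¹ * z * g ∈ zc (o2 P) := fun z hz => by
    have := (mem_normalizer_iff.1 (inv_mem hg) z).1 hz
    rwa [inv_inv] at this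
  have key : ∀ z ∈ zc (o2 P), g * τ * g⁻¹ * z * (g * τ * g⁻¹)⁻¹ = z ∨
      g * τ * g⁻¹ * z * (g * τ * g⁻¹)⁻¹ = z * (g * pr M c (μ c) * g⁻¹) := by
    intro z hz
    have e : g * τ * g⁻¹ * z * (g * τ * g⁻¹)⁻¹ = g * (τ * (g⁻¹ * z * g) * τ⁻¹) * g⁻¹ := by group
    rw [e]
    rcases h.swap_zz zv hτP hcc hτp (hgi z hz) with h1 | h1
    · left; rw [h1]; group
    · right; rw [h1]; group
  have hmv : ∃ c : Pt k m, c.2 ≠ 0 ∧ pp M (g * τ * g⁻¹) c ≠ c := by
    by_contra hcon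
    push Not at hcon
    -- `τ` centralises `ZZ`
    have h1 : ∀ z ∈ zc (o2 P), τ * z = z * τ := by
      intro z hz
      have h2 := h.comm_zz_of_fix hs hcon ((mem_normalizer_iff.1 hg z).1 hz)
      calc τ * z = g⁻¹ * (g * τ * g⁻¹ * (g * z * g⁻¹)) * g := by group
        _ = z * τ := by rw [h2]; group
    have hE : E M (pr M (c.1, 0) c) c ≠ E M (pr M (c.1, 0) c) (μ c) := by
      classical
      rw [E_zz M hc, E_zz M (fun h0 => hc (F.mnz.1 h0)), if_pos rfl, if_neg (F.mne c hc)]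
      exact one_ne_zero
    have h2 := h.conj_swap hτP hcc hτp (pr_mem M (c.1, 0) c) hE
    rw [h1 _ (h.VZ (pr_mem M (c.1, 0) c)), mul_inv_cancel_right] at h2
    exact h.pr_ne hcc (F.mne c hc).symm (mul_left_cancel ((mul_one _).trans h2)).symm
  obtain ⟨c', hc', h1, -⟩ := h.trv F hs (fun v hv => key v (h.VZ hv)) hmv
  exact ⟨c', hc', h1⟩

/-- **LEMMA C, the centres** -/
theorem lemC_cen {R : Subgroup G} (hR : IsPGroup 2 R) (hTR : tn S M μ x ≤ R)
    (hRN : R ≤ normalizer (zc (o2 P) : Set G)) {y p : G} (hy : y ∈ R)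
    (h1 : ∀ z ∈ zc (o2 P), y * z * y⁻¹ = z ∨ y * z * y⁻¹ = z * p) (h2 : ∃ z ∈ zc (o2 P), y * z ≠ z * y) :
    ∃ c : Pt k m, c.2 ≠ 0 ∧ p = pr M c (μ c) := by
  obtain ⟨g, hg, hgR, hgc⟩ := h.lemC_exists F zv hx hR hTR hRN
  have hgi : ∀ z ∈ zc (o2 P), g⁻¹ * z * g ∈ zc (o2 P) := fun z hz => by
    have := (mem_normalizer_iff.1 (inv_mem hg) z).1 hz
    rwa [inv_inv] at this
  -- `g p g⁻¹` is a duad
  obtain ⟨c, hc, hgp, -⟩ := h.trv F (s := g * y * g⁻¹) (r := g * p * g⁻¹) (hgR y hy) (fun v hv => by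
    have e : g * y * g⁻¹ * v * (g * y * g⁻¹)⁻¹ = g * (y * (g⁻¹ * v * g) * y⁻¹) * g⁻¹ := by group
    rw [e]
    rcases h1 _ (hgi v (h.VZ hv)) with h3 | h3
    · left; rw [h3]; group
    · right; rw [h3]; group) (by
    by_contra hcon
    push Not at hcon
    obtain ⟨z, hz, h3⟩ := h2
    apply h3
    have h4 := h.comm_zz_of_fix (hgR y hy) hcon ((mem_normalizer_iff.1 hg z).1 hz)
    calc y * z = g⁻¹ * (g * y * g⁻¹ * (g * z * g⁻¹)) * g := by group
      _ = z * y := by rw [h4]; group)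
  -- `c ↦ g c g⁻¹` is surjective on the duads
  let X : Type _ := {v : G // ∃ c : Pt k m, c.2 ≠ 0 ∧ v = pr M c (μ c)}
  let f : X → X := fun v => ⟨g * v.1 * g⁻¹, by
    obtain ⟨c, hc, e⟩ := v.2
    obtain ⟨c', hc', e'⟩ := hgc c hc
    exact ⟨c', hc', by rw [e, e']⟩⟩
  have hf : Function.Injective f := by
    intro a b hab
    have h3 : g * a.1 * g⁻¹ = g * b.1 * g⁻¹ := congrArg Subtype.val hab
    exact Subtype.ext (mul_left_cancel (mul_right_cancel h3))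
  obtain ⟨⟨v, hv⟩, hv2⟩ := Finite.surjective_of_injective hf ⟨pr M c (μ c), c, hc, rfl⟩
  have h3 : g * v * g⁻¹ = pr M c (μ c) := congrArg Subtype.val hv2
  obtain ⟨c', hc', rfl⟩ := hv
  refine ⟨c', hc', ?_⟩
  rw [← hgp] at h3
  exact (mul_left_cancel (mul_right_cancel h3)).symm

/-- **LEMMA C, the order** -/
theorem lemC_le {R : Subgroup G} (hR : IsPGroup 2 R) (hTR : tn S M μ x ≤ R)
    (hRN : R ≤ normalizer (zc (o2 P) : Set G)) (hRn : R ≤ centralizer ({pr M x (μ x)} : Set G)) :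
    R ≤ tn S M μ x := by
  obtain ⟨g, hg, hgR, hgc⟩ := h.lemC_exists F zv hx hR hTR hRN
  obtain ⟨c, hc, hcn⟩ := hgc x hx
  obtain ⟨s, hs, hsc⟩ := h.trans hx hc
  have hpq : x.1 = (μ x).1 := (F.mfst x).symm
  have hsn : s * pr M x (μ x) * s⁻¹ = pr M c (μ c) := by
    rw [h.conj_pr (h.SP hs) hpq, F.meqv s hs, hsc]
  have h1 : R.map (MulAut.conj (s⁻¹ * g)).toMonoidHom ≤ tn S M μ x := by
    rintro _ ⟨y, hy, rfl⟩
    have hyS := hgR y hy
    have hyn : y * pr M x (μ x) = pr M x (μ x) * y := mem_centralizer_singleton_iff.1 (hRn hy)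
    show s⁻¹ * g * y * (s⁻¹ * g)⁻¹ ∈ _
    have e : s⁻¹ * g * y * (s⁻¹ * g)⁻¹ = s⁻¹ * (g * y * g⁻¹) * s := by group
    rw [e]
    refine mem_inf.2 ⟨mul_mem (mul_mem (inv_mem hs) hyS) hs, mem_centralizer_singleton_iff.2 ?_⟩
    have h2 : g * y * g⁻¹ * pr M c (μ c) = pr M c (μ c) * (g * y * g⁻¹) := by
      rw [← hcn]
      calc g * y * g⁻¹ * (g * pr M x (μ x) * g⁻¹) = g * (y * pr M x (μ x)) * g⁻¹ := by group
        _ = g * pr M x (μ x) * g⁻¹ * (g * y * g⁻¹) := by rw [hyn]; group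
    rw [← hsn] at h2
    calc s⁻¹ * (g * y * g⁻¹) * s * pr M x (μ x) = s⁻¹ * (g * y * g⁻¹ * (s * pr M x (μ x) * s⁻¹)) * s := by group
      _ = pr M x (μ x) * (s⁻¹ * (g * y * g⁻¹) * s) := by rw [h2]; group
  have h2 : Nat.card R ≤ Nat.card (tn S M μ x) := by
    have e : Nat.card (R.map (MulAut.conj (s⁻¹ * g)).toMonoidHom) = Nat.card R :=
      card_map_of_injective (MulAut.conj (s⁻¹ * g)).injective
    rw [← e]
    exact card_le_of_le h1
  exact (eq_of_le_of_card_ge hTR h2).ge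

end fin

end Fr

end Cfsg.Agent.Omega.IId.SymWrD.Ht
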