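import Cfsg.Agent.Omega.IId.SymWrD.FOneAll
import Cfsg.Agent.Omega.IId.Triangle
import Cfsg.Agent.MinSimple.Geo

/-!
# II.d, `SwBig` and `SwCv`, T-T, `D = C_V(O²(P))` arbitrary: the frame for "II.0h1 over `T = C_S(n)`"

Copy of `SymWr/Ht/Fr.lean` (helper916) for 573's `SitD S P V D M` (`V_P = V × D`; `D = ⊥` : `SwBig`).

`Fr S P V D M` : `SitD` + characteristic 2 type + (H1) `O₂(C_G(n)) ≤ P` acts inside `⟨(p q)⟩` for all duads
`n = pr M p q` + a T-T partner (`Fr.of_sitD` : from `SitD` + characteristic 2 type + the partner).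
* `DD S M` : `{d ∈ Ω₁Z(O₂(P)) : d` commutes with the elements of `P` preserving the summands`}`;
* `Fr.V_le` : `V ≤ O₂(C_G(n))`; `Fr.comm_mem` : `[O₂(C_G(n)), V] ≤ ⟨n⟩`; `Fr.V_le_KK` : `V ≤ K_n`
  (`K_n = Triangle.KK n = {g ∈ C_G(n) : [O₂(C_G(n)), g] ≤ ⟨n⟩}`);
* `Fr.perp` : the elements of `V` commuting with `(p q)` lie in `Ω₁Z(O₂(C_G(n)))`;
* `Fr.exists_h` : the partner for EVERY duad; `Fr.exists_w` : `w ∈ K_n`, `w² = 1`, acting as `(p q)`.
-/

set_option autoImplicit false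
set_option linter.unusedSectionVars false

namespace Cfsg.Agent.Omega.IId.SymWrD.Ht

open Subgroup Cfsg Cfsg.Agent.Omega.MinPar Cfsg.Agent.Omega.FFThm
open Cfsg.Agent.ZN (o2 zc)
open Cfsg.Agent.Omega.Half (Amb amb_of_loc)
open Cfsg.Agent.Omega.Half.SymA (Pt E Mv pm)
open Cfsg.Agent.Omega.IId.Triangle (KK mem_KK KK_conj KK_le_o2)
open Cfsg.Agent.MinSimple.VModule (le_normalizer_o2 o2_isPGroup o2_le mem_zc)
open Cfsg.Agent.MinSimple.Geo (mem_o2_of_stab)

universe u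

variable {G : Type u} [Group G] {k m : ℕ}

/-- the elements of `Ω₁Z(O₂(P))` commuting with all elements of `P` which preserve the summands -/
def DD {T : Subgroup G} {P V : Subgroup G} (M : SymK T P V ⊥ k m) : Subgroup G :=
  zc (o2 P) ⊓ centralizer {g : G | g ∈ P ∧ ∀ r, (pp M g r).1 = r.1}

theorem mem_DD {T : Subgroup G} {P V : Subgroup G} {M : SymK T P V ⊥ k m} {d : G} :
    d ∈ DD M ↔ d ∈ zc (o2 P) ∧ ∀ g ∈ P, (∀ r, (pp M g r).1 = r.1) → g * d = d * g := by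
  rw [DD, mem_inf, mem_centralizer_iff]
  exact and_congr_right fun _ => ⟨fun h g hg h1 => h g ⟨hg, h1⟩, fun h g hg => h g hg.1 hg.2⟩

/-- The frame. -/
structure Fr (S : Sylow 2 G) (P V D : Subgroup G) (M : SymK (S : Subgroup G) P V ⊥ k m) : Prop
    extends SitD S P V D M where
  char2 : IsCharacteristicTwoType G
  Qle : ∀ {p q : Pt k m}, p.1 = q.1 → p ≠ q → o2 (centralizer ({pr M p q} : Set G)) ≤ P
  Qpp : ∀ {p q : Pt k m}, p.1 = q.1 → p ≠ q → ∀ {g : G}, g ∈ o2 (centralizer ({pr M p q} : Set G)) →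
    pp M g = 1 ∨ pp M g = Equiv.swap p q
  par : ∃ p q : Pt k m, p.1 = q.1 ∧ p ≠ q ∧ ∃ t ∈ centralizer ({pr M p q} : Set G), ∃ v ∈ V, ∃ w ∈ V,
    v * (t * w * t⁻¹) ≠ (t * w * t⁻¹) * v

namespace Fr

variable {S : Sylow 2 G} {P V D : Subgroup G} {M : SymK (S : Subgroup G) P V ⊥ k m} (h : Fr S P V D M)
  {p q : Pt k m}
include h

theorem pr_sq : pr M p q * pr M p q = 1 := h.Vsq (pr_mem M p q)

theorem pr_ne (hpq : p.1 = q.1) (hne : p ≠ q) : pr M p q ≠ 1 := fun e => by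
  have h1 := E_pr_left M hpq hne
  rw [e, Half.SymA.E_one M] at h1
  exact zero_ne_one h1

/-- an element acting trivially or as `(p q)` commutes with the perp of the duad -/
theorem comm_perp_of {g : G} (hgP : g ∈ P) (hg : pp M g = 1 ∨ pp M g = Equiv.swap p q) {v : G} (hv : v ∈ V)
    (hE : E M v p = E M v q) : g * v = v * g := by
  rw [h.comm_iff hgP hv]
  intro r
  rcases hg with e | e
  · rw [e]; rfl
  · rw [e]
    by_cases e1 : r = p
    · rw [e1, Equiv.swap_apply_left, hE]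
    by_cases e2 : r = q
    · rw [e2, Equiv.swap_apply_right, hE]
    · rw [Equiv.swap_apply_of_ne_of_ne e1 e2]

theorem perp_comm (hpq : p.1 = q.1) (hne : p ≠ q) {g : G} (hg : g ∈ o2 (centralizer ({pr M p q} : Set G))) {v : G}
    (hv : v ∈ V) (hE : E M v p = E M v q) : g * v = v * g :=
  h.comm_perp_of (h.Qle hpq hne hg) (h.Qpp hpq hne hg) hv hE

/-- the action of an element inducing `(p q)` -/
theorem conj_swap {g : G} (hgP : g ∈ P) (hpq : p.1 = q.1) (hg : pp M g = Equiv.swap p q) {v : G} (hv : v ∈ V)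
    (hE : E M v p ≠ E M v q) : g * v * g⁻¹ = v * pr M p q := by
  refine Half.SymA.inj M (h.amb.conj_mem hgP hv) (mul_mem hv (pr_mem M _ _)) fun r => ?_
  have hne : p ≠ q := fun e => hE (by rw [e])
  rw [E_conj' hgP hv, Half.SymA.E_mul M hv (pr_mem M _ _), E_pr M hpq, hg, Equiv.swap_inv]
  have key : ∀ x y : ZMod 2, x ≠ y → y = x + 1 := by decide
  by_cases e1 : r = p
  · rw [e1, Equiv.swap_apply_left, if_pos rfl, if_neg hne, add_zero]
    exact key _ _ hE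
  by_cases e2 : r = q
  · rw [e2, Equiv.swap_apply_right, if_pos rfl, if_neg hne.symm, zero_add]
    exact key _ _ hE.symm
  · rw [Equiv.swap_apply_of_ne_of_ne e1 e2, if_neg e1, if_neg e2, add_zero, add_zero]

/-- `[O₂(C_G(n)), V] ≤ ⟨n⟩` -/
theorem comm_mem (hpq : p.1 = q.1) (hne : p ≠ q) {g : G} (hg : g ∈ o2 (centralizer ({pr M p q} : Set G))) {v : G}
    (hv : v ∈ V) : g * v * g⁻¹ = v ∨ g * v * g⁻¹ = v * pr M p q := by
  by_cases hE : E M v p = E M v q
  · left; rw [h.perp_comm hpq hne hg hv hE]; group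
  · rcases h.Qpp hpq hne hg with e | e
    · left
      rw [h.comm_perp_of (p := p) (q := p) (h.Qle hpq hne hg) (Or.inl e) hv rfl]; group
    · right; exact h.conj_swap (h.Qle hpq hne hg) hpq e hv hE

/-- `V ≤ K_n` -/
theorem V_le_KK (hpq : p.1 = q.1) (hne : p ≠ q) : V ≤ KK (pr M p q) := by
  intro v hv
  refine mem_KK.2 ⟨h.Vcomm hv (pr_mem M p q), fun g hg => ?_⟩
  have hvi : ∀ {x : G}, x ∈ V → x⁻¹ = x := fun hx => inv_eq_of_mul_eq_one_left (h.Vsq hx)
  have e : v * g * v⁻¹ * g⁻¹ = v * (g * v * g⁻¹)⁻¹ := by group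
  rw [e]
  rcases h.comm_mem hpq hne hg hv with e1 | e1
  · rw [e1, mul_inv_cancel]; exact one_mem _
  · have e2 : v * (v * pr M p q)⁻¹ = (pr M p q)⁻¹ := by
      rw [h.Vcomm hv (pr_mem M p q)]; group
    rw [e1, e2]; exact inv_mem (mem_zpowers _)

section fin

variable [Finite G]

theorem KK_le (hpq : p.1 = q.1) (hne : p ≠ q) : KK (pr M p q) ≤ o2 (centralizer ({pr M p q} : Set G)) := by
  intro g hg
  have h1 := mem_KK.1 hg
  exact mem_o2_of_stab h.char2 h.pr_sq (h.pr_ne hpq hne) (mem_centralizer_singleton_iff.2 h1.1) h1.2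

/-- `V ≤ O₂(C_G(n))` -/
theorem V_le (hpq : p.1 = q.1) (hne : p ≠ q) : V ≤ o2 (centralizer ({pr M p q} : Set G)) :=
  (h.V_le_KK hpq hne).trans (h.KK_le hpq hne)

/-- the elements of `V` commuting with `(p q)` lie in `Ω₁Z(O₂(C_G(n)))` -/
theorem perp (hpq : p.1 = q.1) (hne : p ≠ q) {v : G} (hv : v ∈ V) (hE : E M v p = E M v q) :
    v ∈ zc (o2 (centralizer ({pr M p q} : Set G))) :=
  mem_zc.2 ⟨h.V_le hpq hne hv, fun g hg => h.perp_comm hpq hne hg hv hE, by rw [pow_two]; exact h.Vsq hv⟩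

/-- the partner for every duad: `t ∈ C_G(n)`, and `t v t⁻¹`, `t⁻¹ v t` act as `(p q)` for `v ∈ V` outside the perp -/
theorem exists_h (hpq : p.1 = q.1) (hne : p ≠ q) : ∃ t ∈ centralizer ({pr M p q} : Set G),
    ∀ v ∈ V, E M v p ≠ E M v q →
      (t * v * t⁻¹ ∈ KK (pr M p q) ∧ pp M (t * v * t⁻¹) = Equiv.swap p q) ∧
      (t⁻¹ * v * t ∈ KK (pr M p q) ∧ pp M (t⁻¹ * v * t) = Equiv.swap p q) := by
  obtain ⟨p', q', hpq', hne', t', ht', v', hv', w', hw', hcc⟩ := h.par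
  obtain ⟨g, hg, hgp⟩ := exists_conj_pr h.toSit hpq' hne' hpq hne
  have hcV : ∀ {x : G}, x ∈ V → g * x * g⁻¹ ∈ V := fun hx => h.amb.conj_mem hg hx
  obtain ⟨t, ht⟩ : ∃ t, t = g * t' * g⁻¹ := ⟨_, rfl⟩
  have htn : t * pr M p q = pr M p q * t := by
    have h1 := mem_centralizer_singleton_iff.1 ht'
    rw [ht, ← hgp]
    calc g * t' * g⁻¹ * (g * pr M p' q' * g⁻¹) = g * (t' * pr M p' q') * g⁻¹ := by group
      _ = g * pr M p' q' * g⁻¹ * (g * t' * g⁻¹) := by rw [h1]; group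
  -- noncommuting elements
  obtain ⟨v, hv, w, hw, hvw⟩ : ∃ v ∈ V, ∃ w ∈ V, v * (t * w * t⁻¹) ≠ (t * w * t⁻¹) * v := by
    refine ⟨g * v' * g⁻¹, hcV hv', g * w' * g⁻¹, hcV hw', fun e => hcc ?_⟩
    rw [ht] at e
    have e1 : g * v' * g⁻¹ * (g * t' * g⁻¹ * (g * w' * g⁻¹) * (g * t' * g⁻¹)⁻¹) =
        g * (v' * (t' * w' * t'⁻¹)) * g⁻¹ := by group
    have e2 : g * t' * g⁻¹ * (g * w' * g⁻¹) * (g * t' * g⁻¹)⁻¹ * (g * v' * g⁻¹) =
        g * (t' * w' * t'⁻¹ * v') * g⁻¹ := by group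
    rw [e1, e2] at e
    exact mul_left_cancel (mul_right_cancel e)
  have hKK : ∀ {s : G}, s * pr M p q = pr M p q * s → ∀ x ∈ V, s * x * s⁻¹ ∈ KK (pr M p q) := by
    intro s hs x hx
    have h1 := KK_conj (h := s) (h.V_le_KK hpq hne hx)
    rwa [show s * pr M p q * s⁻¹ = pr M p q by rw [hs]; group] at h1
  -- the key: `s` with noncommuting elements
  have key : ∀ {s : G}, s * pr M p q = pr M p q * s → ∀ {a b : G}, a ∈ V → b ∈ V →
      a * (s * b * s⁻¹) ≠ (s * b * s⁻¹) * a → ∀ x ∈ V, E M x p ≠ E M x q → pp M (s * x * s⁻¹) = Equiv.swap p q := by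
    intro s hs a b ha hb hab x hx hxE
    have hQ := fun y (hy : y ∈ V) => h.KK_le hpq hne (hKK hs y hy)
    -- the perp of `n` is normalised
    have hperp : ∀ y ∈ V, E M y p = E M y q → pp M (s * y * s⁻¹) = 1 := by
      intro y hy hyE
      rw [h.eq_one_iff (h.Qle hpq hne (hQ y hy)), mem_centralizer_iff]
      intro c hc
      have h2 : s⁻¹ * c * s ∈ o2 (centralizer ({pr M p q} : Set G)) := by
        have h3 : s⁻¹ ∈ centralizer ({pr M p q} : Set G) :=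
          inv_mem (mem_centralizer_singleton_iff.2 hs)
        have := (mem_normalizer_iff.1 (le_normalizer_o2 _ h3) c).1 (h.V_le hpq hne hc)
        rwa [inv_inv] at this
      have h3 := h.perp_comm hpq hne h2 hy hyE
      calc c * (s * y * s⁻¹) = s * (s⁻¹ * c * s * y) * s⁻¹ := by group
        _ = s * (y * (s⁻¹ * c * s)) * s⁻¹ := by rw [h3]
        _ = s * y * s⁻¹ * c := by group
    have hbE : E M b p ≠ E M b q := fun e => by
      have h1 := hperp b hb e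
      rw [h.eq_one_iff (h.Qle hpq hne (hQ b hb)), mem_centralizer_iff] at h1
      exact hab (h1 a ha)
    -- `b x` is in the perp
    have hbx : E M (b * x) p = E M (b * x) q := by
      rw [Half.SymA.E_mul M hb hx, Half.SymA.E_mul M hb hx]
      have k2 : ∀ x y z w : ZMod 2, x ≠ y → z ≠ w → x + z = y + w := by decide
      exact k2 _ _ _ _ hbE hxE
    have h2 := hperp _ (mul_mem hb hx) hbx
    have hb2 : pp M (s * b * s⁻¹) = Equiv.swap p q := by
      refine (h.Qpp hpq hne (hQ b hb)).resolve_left fun e => hab ?_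
      rw [h.eq_one_iff (h.Qle hpq hne (hQ b hb)), mem_centralizer_iff] at e
      exact e a ha
    have e : s * x * s⁻¹ = (s * b * s⁻¹)⁻¹ * (s * (b * x) * s⁻¹) := by group
    rw [e, h.mul (inv_mem (h.Qle hpq hne (hQ b hb))) (h.Qle hpq hne (hQ _ (mul_mem hb hx))),
      h.inv (h.Qle hpq hne (hQ b hb)), h2, hb2, mul_one, Equiv.swap_inv]
  have htn' : t⁻¹ * pr M p q = pr M p q * t⁻¹ := by
    calc t⁻¹ * pr M p q = t⁻¹ * (pr M p q * t) * t⁻¹ := by group
      _ = t⁻¹ * (t * pr M p q) * t⁻¹ := by rw [htn]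
      _ = pr M p q * t⁻¹ := by group
  refine ⟨t, mem_centralizer_singleton_iff.2 htn, fun x hx hxE => ⟨⟨hKK htn x hx, ?_⟩, ?_, ?_⟩⟩
  · exact key htn hv hw hvw x hx hxE
  · have := hKK htn' x hx
    rwa [inv_inv] at this
  · have := key htn' hw hv (fun e => hvw ?_) x hx hxE
    · rwa [inv_inv] at this
    · rw [inv_inv] at e
      calc v * (t * w * t⁻¹) = t * (t⁻¹ * v * t * w) * t⁻¹ := by group
        _ = t * (w * (t⁻¹ * v * t)) * t⁻¹ := by rw [e]
        _ = t * w * t⁻¹ * v := by group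

/-- `w ∈ K_n` of order 2 acting as `(p q)` -/
theorem exists_w (hpq : p.1 = q.1) (hne : p ≠ q) : ∃ w ∈ KK (pr M p q), w * w = 1 ∧ pp M w = Equiv.swap p q := by
  obtain ⟨t, ht, h1⟩ := h.exists_h hpq hne
  obtain ⟨c, hc1, hc2⟩ := Half.SymA.exists_third h.hm1 p.2 q.2
  have hpc : p.1 = ((p.1, c) : Pt k m).1 := rfl
  have hqc : q ≠ (p.1, c) := fun e => hc2 (by rw [e])
  have hpc' : p ≠ (p.1, c) := fun e => hc1 (congrArg Prod.snd e).symm
  have hE : E M (pr M p (p.1, c)) p ≠ E M (pr M p (p.1, c)) q := by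
    rw [E_pr_left M hpc hpc', E_pr_of_ne M hpc hne.symm hqc]
    exact one_ne_zero
  obtain ⟨⟨h2, h3⟩, -⟩ := h1 _ (pr_mem M p (p.1, c)) hE
  refine ⟨_, h2, ?_, h3⟩
  have e : t * pr M p (p.1, c) * t⁻¹ * (t * pr M p (p.1, c) * t⁻¹) =
      t * (pr M p (p.1, c) * pr M p (p.1, c)) * t⁻¹ := by group
  rw [e, h.pr_sq]; group

end fin

end Fr

/-! ### The frame from `SitD` -/

section of

variable [Finite G] {S : Sylow 2 G} {P V D : Subgroup G} {M : SymK (S : Subgroup G) P V ⊥ k m}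

/-- The frame from `SitD`, characteristic 2 type and a partner. -/
theorem Fr.of_sitD (h : SitD S P V D M) (hG : IsCharacteristicTwoType G)
    (par : ∃ p q : Pt k m, p.1 = q.1 ∧ p ≠ q ∧ ∃ t ∈ centralizer ({pr M p q} : Set G), ∃ v ∈ V, ∃ w ∈ V,
      v * (t * w * t⁻¹) ≠ (t * w * t⁻¹) * v) : Fr S P V D M where
  toSitD := h
  char2 := hG
  Qle := fun h1 h2 _ hg => (L_dat h h1 h2 _ hg).1
  Qpp := fun h1 h2 _ hg => (L_dat h h1 h2 _ hg).2
  par := par

end of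

end Cfsg.Agent.Omega.IId.SymWrD.Ht
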