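import Cfsg.Agent.Omega.IId.SymWrD.Ht.LE
import Cfsg.Agent.Omega.IId.SymWrD.Ht.LemC
import Cfsg.Agent.Omega.IId.SymWrD.Ht.HatJ
import Cfsg.Agent.Omega.IId.SymWrD.Ht.Alpha
import Cfsg.Agent.Omega.IId.SymWrD.Ht.TwoA
import Cfsg.Agent.Omega.IId.SymWrD.SylN.OfFr

/-!
# II.d, `SwCv`, `T`-`T`, `D` arbitrary: LEMMA E over a 2-group `T̂ ≥ T = C_S(n)` (bb OMEGA #22373 (B), helper971)

`T̂` is a 2-subgroup of `C_G(n)` of odd index which contains `T = tn S M μ x` and normalises the line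
`{1, n, r₂, r₃}` (THEOREM SYL^, #21666). `le_hat` : `ThmA.LE` for the line.

* `act` : a 2-group `O` normalised by the elements of `P` in the summands commuting with `n`: `O ∩ T` acts on `V` inside
  `⟨(x μx)⟩`;
* `swp` : `w ∈ O₂(C(n d))` normalises `T`, `w² ∈ T`, `w ∉ T` `⟹` `w n w⁻¹ = w⁻¹ n w ∈ DD M`;
* `caseB` : `O₂(C(n d)) ≤ T`;
* `le_hat`.
-/

set_option autoImplicit false
set_option linter.unusedSectionVars false

namespace Cfsg.Agent.Omega.IId.SymWrD.Ht.LEHat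

open Subgroup Pointwise Cfsg Cfsg.Agent.Omega.MinPar Cfsg.Agent.Omega.FFThm
open Cfsg.Agent.ZN (o2 zc)
open Cfsg.Agent.Omega.Half.SymA (Pt E)
open Cfsg.Agent.Omega.BTwo Cfsg.Agent.Omega.HTwo Cfsg.Agent.Omega.HTwo.Par
open Cfsg.Agent.Omega.HT.LemEA (GoodA)
open Cfsg.Agent.Omega.HT.LineOf (Ln ln pts dd)
open Cfsg.Agent.Omega.IId.SymWr.Ht.LE (exists_sep exists_third)
open Cfsg.Agent.Omega.IId.SymWrD.Ht.LE (bip goodA_of pr_mem_of exists_sw kill)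
open Cfsg.Agent.Omega.IId.Triangle (KK mem_KK)
open Cfsg.Agent.Omega.IId.Big (cz qz)
open Cfsg.Agent.MinSimple.VModule (le_normalizer_o2 o2_isPGroup o2_le mem_zc zc_le normalizer_le_normalizer_zc)

universe u

variable {G : Type u} [Group G] {P V : Subgroup G} {k m : ℕ}

section frame

variable {S : Sylow 2 G} {M : SymK (S : Subgroup G) P V ⊥ k m} {D : Subgroup G} (h : Fr S P V D M)
  {μ ν : Equiv.Perm (Pt k m)} (F : Fours M μ ν) {x : Pt k m} (hx : x.2 ≠ 0)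

include h F hx

theorem En {p : Pt k m} (h1 : p ≠ x) (h2 : p ≠ μ x) : E M (pr M x (μ x)) p = 0 :=
  E_pr_of_ne M (F.mfst x).symm h1 h2

/-- the action of `O ∩ T` on `V` -/
theorem act {O : Subgroup G} (hO : IsPGroup 2 O)
    (hn : ∀ g ∈ P, (∀ p, (pp M g p).1 = p.1) → g * pr M x (μ x) = pr M x (μ x) * g → g ∈ normalizer (O : Set G))
    {u : G} (hu : u ∈ O) (hut : u ∈ tn S M μ x) : pp M u = 1 ∨ pp M u = Equiv.swap x (μ x) := by
  classical
  have t := h.tri F hx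
  have huS : u ∈ (S : Subgroup G) := hut.1
  have huP : u ∈ P := h.SP huS
  have hz : ∀ {p : Pt k m}, p.2 = 0 → p ≠ x ∧ p ≠ μ x := by
    intro p hp
    exact ⟨fun e => hx (by rw [← e]; exact hp), fun e => hx (F.mnz.1 (by rw [← e]; exact hp))⟩
  have hb : ∀ {l : Fin k} {p : Pt k m}, l ≠ x.1 → p.1 = l → p ≠ x ∧ p ≠ μ x := by
    intro l p hl hp
    exact ⟨fun e => hl (by rw [← hp, e]), fun e => hl (by rw [← hp, e, F.mfst])⟩
  have hfix : ∀ p : Pt k m, p ≠ x → p ≠ μ x → pp M u p = p := by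
    intro p hp1 hp2
    have hblk : pp M u (p.1, 0) = (p.1, 0) := by
      by_contra hne
      by_cases hpb : p.1 = x.1
      · apply hne
        rw [hpb]; exact h.tn_zero F hx hut
      have h0 : (pp M u (p.1, 0)).2 = 0 := (h.snd huS).2 rfl
      have h1 : (pp M u (p.1, 0)).1 ≠ p.1 := fun e => hne (Prod.ext e h0)
      obtain ⟨a, ha, -⟩ := exists_pt4 h.hm p.1 (∅ : Finset (Pt k m)) (by simp)
      obtain ⟨b, hb1, hb2⟩ := exists_pt4 h.hm p.1 ({a} : Finset (Pt k m)) (by simp)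
      obtain ⟨c, hc1, hc2⟩ := exists_pt4 h.hm p.1 ({a, b} : Finset (Pt k m)) (Finset.card_le_two.trans (by norm_num))
      rw [Finset.mem_singleton] at hb2
      rw [Finset.mem_insert, Finset.mem_singleton, not_or] at hc2
      obtain ⟨g, hg, hgp⟩ := RD.exists_swapP h.toSit (ha.trans hb1.symm)
      have hE : E M (pr M x (μ x)) a = E M (pr M x (μ x)) b := by
        rw [En h F hx (hb hpb ha).1 (hb hpb ha).2, En h F hx (hb hpb hb1).1 (hb hpb hb1).2]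
      have h3 := RD.comm_mem h.toSit (pr_mem M x (μ x)) hn hu (ha.trans hb1.symm) hg hgp hE
      have h4 := RD.pp_comm_swap h.toSit huP hg hgp
      have hcP : u * g * u⁻¹ * g⁻¹ ∈ P := mul_mem (mul_mem (mul_mem huP hg) (inv_mem huP)) (inv_mem hg)
      have hblk' : ∀ {q r : Pt k m}, q.1 = p.1 → r.1 = p.1 → pp M u q ≠ r := by
        intro q r hq hr e
        apply h1
        rw [show (pp M u (p.1, 0)).1 = (pp M u q).1 from h.fst huP hq.symm, e, hr]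
      have h5 : pp M (u * g * u⁻¹ * g⁻¹) c = c := by
        rw [h4, Equiv.Perm.mul_apply, Equiv.swap_apply_of_ne_of_ne hc2.1 hc2.2,
          Equiv.swap_apply_of_ne_of_ne (hblk' ha hc1).symm (hblk' hb1 hc1).symm]
      have h6 := RD.tri h.toSit hO (pr_mem M x (μ x)) hn h3 hcP (hc1.trans ha.symm) hc2.1
        (by rw [En h F hx (hb hpb hc1).1 (hb hpb hc1).2, En h F hx (hb hpb ha).1 (hb hpb ha).2]) h5
      have h7 : pp M (u * g * u⁻¹ * g⁻¹) a = b := by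
        rw [h4, Equiv.Perm.mul_apply, Equiv.swap_apply_left,
          Equiv.swap_apply_of_ne_of_ne (hblk' ha hb1).symm (hblk' hb1 hb1).symm]
      exact hb2 (h7.symm.trans h6)
    by_cases hp0 : p.2 = 0
    · have e : p = (p.1, 0) := Prod.ext rfl hp0
      rw [e]; exact hblk
    · have hz0 := hz (p := (p.1, 0)) rfl
      refine RD.tri h.toSit hO (pr_mem M x (μ x)) hn hu huP (a := (p.1, 0)) rfl (fun e => hp0 ?_) ?_ hblk
      · rw [← e]
      · rw [En h F hx hz0.1 hz0.2, En h F hx hp1 hp2]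
  rcases h.tn_pp F hx hut with ⟨e1, e2⟩ | ⟨e1, e2⟩
  · left
    ext1 p
    by_cases hp1 : p = x
    · rw [hp1, e1]; rfl
    by_cases hp2 : p = μ x
    · rw [hp2, e2]; rfl
    · rw [hfix p hp1 hp2]; rfl
  · right
    ext1 p
    by_cases hp1 : p = x
    · rw [hp1, e1, Equiv.swap_apply_left]
    by_cases hp2 : p = μ x
    · rw [hp2, e2, Equiv.swap_apply_right]
    · rw [hfix p hp1 hp2, Equiv.swap_apply_of_ne_of_ne hp1 hp2]

end frame

/-! ### `w ∈ O₂(C(n d))` normalising `T` -/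

section conf

variable [Finite G] {S : Sylow 2 G} {M : SymK (S : Subgroup G) P V ⊥ k m} {D : Subgroup G} (h : Fr S P V D M)
  {μ ν : Equiv.Perm (Pt k m)} (F : Fours M μ ν) {x : Pt k m} (hx : x.2 ≠ 0)

/-- `w ∈ O₂(C(n d))` normalises `T`, `w ∉ T`, `w² ∈ T` -/
structure Out (S : Sylow 2 G) {P V : Subgroup G} (M : SymK (S : Subgroup G) P V ⊥ k m) (μ : Equiv.Perm (Pt k m))
    (x : Pt k m) (d w : G) : Prop where
  mO : w ∈ o2 (centralizer ({pr M x (μ x) * d} : Set G))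
  nT : w ∈ normalizer (tn S M μ x : Set G)
  sq : w * w ∈ tn S M μ x
  nm : w ∉ tn S M μ x

omit [Finite G] in
theorem Out.inv {d w : G} (hw : Out S M μ x d w) : Out S M μ x d w⁻¹ where
  mO := inv_mem hw.mO
  nT := inv_mem hw.nT
  sq := by
    have h1 : w⁻¹ * w⁻¹ = (w * w)⁻¹ := by group
    rw [h1]
    exact inv_mem hw.sq
  nm := fun h1 => hw.nm (by rw [← inv_inv w]; exact inv_mem h1)

include h F hx

/-- the elements of `P` in the summands commuting with `n` normalise `O₂(C(n d))` -/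
theorem nO {d : G} (hd : d ∈ DD M) {g : G} (hg : g ∈ P) (hg1 : ∀ p, (pp M g p).1 = p.1)
    (hgn : g * pr M x (μ x) = pr M x (μ x) * g) :
    g ∈ normalizer (o2 (centralizer ({pr M x (μ x) * d} : Set G)) : Set G) := by
  refine le_normalizer_o2 _ (mem_centralizer_singleton_iff.2 ?_)
  rw [← mul_assoc, hgn, mul_assoc, (mem_DD.1 hd).2 g hg hg1, mul_assoc]

theorem actO {d : G} (hd : d ∈ DD M) {u : G} (hu : u ∈ o2 (centralizer ({pr M x (μ x) * d} : Set G)))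
    (hut : u ∈ tn S M μ x) : pp M u = 1 ∨ pp M u = Equiv.swap x (μ x) :=
  act h F hx (o2_isPGroup _) (fun _ hg hg1 hgn => nO h F hx hd hg hg1 hgn) hu hut

theorem perpO {d : G} (hd : d ∈ DD M) {u : G} (hu : u ∈ o2 (centralizer ({pr M x (μ x) * d} : Set G)))
    (hut : u ∈ tn S M μ x) {v : G} (hv : v ∈ V) (hE : E M v x = E M v (μ x)) : u * v = v * u :=
  h.comm_perp_of (p := x) (q := μ x) (h.SP hut.1) (actO h F hx hd hu hut) hv hE

omit [Finite G] h F hx in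
theorem cm {d : G} (hdT : ∀ s ∈ tn S M μ x, s * d = d * s) {w : G} (hw : Out S M μ x d w) {t : G}
    (ht : t ∈ tn S M μ x) : w * t * w⁻¹ * t⁻¹ ∈ o2 (centralizer ({pr M x (μ x) * d} : Set G)) ∧
      w * t * w⁻¹ * t⁻¹ ∈ tn S M μ x := by
  refine ⟨?_, mul_mem ((mem_normalizer_iff.1 hw.nT t).1 ht) (inv_mem ht)⟩
  have h1 : t ∈ centralizer ({pr M x (μ x) * d} : Set G) := by
    rw [mem_centralizer_singleton_iff, ← mul_assoc, mem_centralizer_singleton_iff.1 ht.2, mul_assoc, hdT t ht,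
      mul_assoc]
  have h2 := (mem_normalizer_iff.1 (le_normalizer_o2 _ h1) w⁻¹).1 (inv_mem hw.mO)
  have e : w * t * w⁻¹ * t⁻¹ = w * (t * w⁻¹ * t⁻¹) := by group
  rw [e]
  exact mul_mem hw.mO h2

variable {d : G} (hd : d ∈ DD M) (hdT : ∀ s ∈ tn S M μ x, s * d = d * s) {w : G} (hw : Out S M μ x d w)

include hd hdT hw

/-- `w z w⁻¹ ∈ Ω₁Z(O₂(P))` for `z ∈ V` orthogonal to `n` -/
theorem conj_perp {z : G} (hz : z ∈ V) (hE : E M z x = E M z (μ x)) : w * z * w⁻¹ ∈ zc (o2 P) := by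
  refine h.mem_zc_of F hx ?_ fun r hr => ?_
  · calc w * z * w⁻¹ * (w * z * w⁻¹) = w * (z * z) * w⁻¹ := by group
      _ = 1 := by rw [h.Vsq hz]; group
  · obtain ⟨h1, h2⟩ := cm hdT hw.inv (h.Q_le_tn F hx hr)
    rw [inv_inv] at h1 h2
    have h3 := perpO h F hx hd h1 h2 hz hE
    have h4 : r * z = z * r := ((mem_zc.1 (h.VZ hz)).2.1 r hr)
    calc r * (w * z * w⁻¹) = w * ((w⁻¹ * r * w * r⁻¹) * (r * z)) * w⁻¹ := by group
      _ = w * ((w⁻¹ * r * w * r⁻¹ * z) * r) * w⁻¹ := by rw [h4]; group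
      _ = w * (z * (w⁻¹ * r * w * r⁻¹) * r) * w⁻¹ := by rw [h3]
      _ = w * z * w⁻¹ * r := by group

/-- `w` commutes with the duads `≠ n` of `S` -/
theorem comm_q (zv : zc (o2 P) ≤ V ⊔ DD M) {c : Pt k m} (hc : c.2 ≠ 0) (h1 : c ≠ x) (h2 : c ≠ μ x) :
    w * pr M c (μ c) = pr M c (μ c) * w := by
  have hμ1 : μ c ≠ x := fun e => h2 (by rw [← e, F.msq])
  have hμ2 : μ c ≠ μ x := fun e => h1 (μ.injective e)
  have hz0 : ((c.1, 0) : Pt k m) ≠ x := fun e => hx (by rw [← e])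
  have hz0' : ((c.1, 0) : Pt k m) ≠ μ x := fun e => hx (F.mnz.1 (by rw [← e]))
  obtain ⟨z, hz⟩ : ∃ z, z = pr M c (c.1, 0) := ⟨_, rfl⟩
  have hzV : z ∈ V := by rw [hz]; exact pr_mem M _ _
  have hzE : ∀ {p : Pt k m}, p ≠ c → p ≠ (c.1, 0) → E M z p = 0 := fun {p} e1 e2 => by
    rw [hz]; exact E_pr_of_ne M (show c.1 = ((c.1, 0) : Pt k m).1 from rfl) e1 e2
  have hzx : E M z x = E M z (μ x) := by
    rw [hzE h1.symm hz0.symm, hzE h2.symm hz0'.symm]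
  obtain ⟨q, hq⟩ : ∃ q, q = pr M c (μ c) := ⟨_, rfl⟩
  have hqV : q ∈ V := by rw [hq]; exact pr_mem M _ _
  have hqx : E M q x = E M q (μ x) := by
    rw [hq, E_pr_of_ne M (F.mfst c).symm h1.symm hμ1.symm, E_pr_of_ne M (F.mfst c).symm h2.symm hμ2.symm]
  obtain ⟨τ, hτ, hτp⟩ := h.exists_swap F hx hc
  have hτP := h.SP hτ.1
  have hcc : c.1 = (μ c).1 := (F.mfst c).symm
  have hzc : E M z c ≠ E M z (μ c) := by
    have e0 : c ≠ (c.1, 0) := fun e => hc (congrArg Prod.snd e)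
    rw [hzE (F.mne c hc) (fun e => hc (F.mnz.1 (congrArg Prod.snd e))), hz,
      E_pr_left M (show c.1 = ((c.1, 0) : Pt k m).1 from rfl) e0]
    exact one_ne_zero
  have hqz : τ * z * τ⁻¹ = z * q := by rw [hq]; exact h.conj_swap hτP hcc hτp hzV hzc
  -- `o = [w, τ]`
  obtain ⟨h3, h4⟩ := cm hdT hw hτ
  obtain ⟨o, ho⟩ : ∃ o, o = w * τ * w⁻¹ * τ⁻¹ := ⟨_, rfl⟩
  rw [← ho] at h3 h4
  have hoq : o * q = q * o := perpO h F hx hd h3 h4 hqV hqx
  obtain ⟨z1, hz1⟩ : ∃ z1, z1 = w * z * w⁻¹ := ⟨_, rfl⟩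
  have hz1c : z1 ∈ zc (o2 P) := by rw [hz1]; exact conj_perp h F hx hd hdT hw hzV hzx
  have hoz1 : o * z1 = z1 * o := by
    have h5 : w⁻¹ * o * w ∈ o2 (centralizer ({pr M x (μ x) * d} : Set G)) :=
      mul_mem (mul_mem (inv_mem hw.mO) h3) hw.mO
    have h6 : w⁻¹ * o * w ∈ tn S M μ x := by
      have := (mem_normalizer_iff.1 (inv_mem hw.nT) o).1 h4
      rwa [inv_inv] at this
    have h7 := perpO h F hx hd h5 h6 hzV hzx
    calc o * z1 = w * (w⁻¹ * o * w * z) * w⁻¹ := by rw [hz1]; group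
      _ = w * (z * (w⁻¹ * o * w)) * w⁻¹ := by rw [h7]
      _ = z1 * o := by rw [hz1]; group
  have hz1q : z1 * (w * q * w⁻¹) = o * (τ * z1 * τ⁻¹) * o⁻¹ := by
    calc z1 * (w * q * w⁻¹) = w * (z * q) * w⁻¹ := by rw [hz1]; group
      _ = w * (τ * z * τ⁻¹) * w⁻¹ := by rw [hqz]
      _ = (w * τ * w⁻¹ * τ⁻¹) * (τ * (w * z * w⁻¹) * τ⁻¹) * (w * τ * w⁻¹ * τ⁻¹)⁻¹ := by group
      _ = o * (τ * z1 * τ⁻¹) * o⁻¹ := by rw [← ho, ← hz1]
  have hq1 : q ≠ 1 := by rw [hq]; exact h.pr_ne hcc (F.mne c hc).symm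
  have hwq : w * q * w⁻¹ = q := by
    rcases h.swap_zz zv hτP hcc hτp hz1c with e | e
    · exfalso
      rw [e, hoz1, mul_inv_cancel_right] at hz1q
      have h5 : w * q * w⁻¹ = 1 := mul_eq_left.1 hz1q
      exact hq1 (conj_eq_one_iff.1 h5)
    · rw [e, ← hq] at hz1q
      have h5 : o * (z1 * q) * o⁻¹ = z1 * q := by
        calc o * (z1 * q) * o⁻¹ = (o * z1) * q * o⁻¹ := by group
          _ = z1 * (o * q) * o⁻¹ := by rw [hoz1]; group
          _ = z1 * q := by rw [hoq]; group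
      rw [h5] at hz1q
      exact mul_left_cancel hz1q
  rw [← hq]
  exact mul_inv_eq_iff_eq_mul.1 hwq

/-- `w` does not normalise `O₂(P)` -/
theorem not_norm (zv : zc (o2 P) ≤ V ⊔ DD M) : w ∉ normalizer (o2 P : Set G) := by
  intro hwQ
  have t := h.tri F hx
  have hwZ : w ∈ normalizer (zc (o2 P) : Set G) := normalizer_le_normalizer_zc _ hwQ
  have hTp : IsPGroup 2 (tn S M μ x) := S.isPGroup'.to_le inf_le_left
  have hR : IsPGroup 2 (tn S M μ x ⊔ zpowers w : Subgroup G) := TwoA.sup_zp hTp hw.nT hw.sq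
  have hwR : w ∈ tn S M μ x ⊔ zpowers w := mem_sup_right (mem_zpowers w)
  have hTZ : tn S M μ x ≤ normalizer (zc (o2 P) : Set G) := fun s hs => h.P_le_NZZ (h.SP hs.1)
  have hRN : tn S M μ x ⊔ zpowers w ≤ normalizer (zc (o2 P) : Set G) := sup_le hTZ (zpowers_le.2 hwZ)
  obtain ⟨τ, hτ, hτp⟩ := h.exists_swap F hx hx
  have hτP := h.SP hτ.1
  have hwi : ∀ z ∈ zc (o2 P), w⁻¹ * z * w ∈ zc (o2 P) := fun z hz => by
    have := (mem_normalizer_iff.1 (inv_mem hwZ) z).1 hz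
    rwa [inv_inv] at this
  obtain ⟨c, hc, e⟩ := h.lemC_cen F zv hx hR le_sup_left hRN (y := w * τ * w⁻¹) (p := w * pr M x (μ x) * w⁻¹)
    (mul_mem (mul_mem hwR (mem_sup_left hτ)) (inv_mem hwR)) (fun z hz => by
      have e1 : w * τ * w⁻¹ * z * (w * τ * w⁻¹)⁻¹ = w * (τ * (w⁻¹ * z * w) * τ⁻¹) * w⁻¹ := by group
      rw [e1]
      rcases h.swap_zz zv hτP t.pq hτp (hwi z hz) with e2 | e2
      · left; rw [e2]; group
      · right; rw [e2]; group) ⟨w * pr M x (x.1, 0) * w⁻¹,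
        (mem_normalizer_iff.1 hwZ _).1 (h.VZ (pr_mem M _ _)), fun e1 => by
      have e2 : τ * pr M x (x.1, 0) = pr M x (x.1, 0) * τ := by
        calc τ * pr M x (x.1, 0) = w⁻¹ * (w * τ * w⁻¹ * (w * pr M x (x.1, 0) * w⁻¹)) * w := by group
          _ = pr M x (x.1, 0) * τ := by rw [e1]; group
      have hE : E M (pr M x (x.1, 0)) x ≠ E M (pr M x (x.1, 0)) (μ x) := by
        rw [E_pr_left M t.pr t.n2, E_pr_of_ne M t.pr t.n1.symm t.n3]
        exact one_ne_zero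
      have h2 := h.conj_swap hτP t.pq hτp (pr_mem M x (x.1, 0)) hE
      rw [e2, mul_inv_cancel_right] at h2
      exact h.pr_ne t.pq t.n1 (mul_left_cancel ((mul_one _).trans h2)).symm⟩
  have hwn : w * pr M x (μ x) * w⁻¹ = pr M x (μ x) := by
    by_cases h1 : c = x
    · rw [e, h1]
    by_cases h2 : c = μ x
    · rw [e, h2, F.msq, pr_comm M (F.mfst x)]
    exfalso
    have h3 := comm_q h F hx hd hdT hw zv hc h1 h2
    have h4 : w * pr M x (μ x) * w⁻¹ = w * pr M c (μ c) * w⁻¹ := by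
      rw [h3, mul_inv_cancel_right, e]
    have h5 : pr M x (μ x) = pr M c (μ c) := mul_left_cancel (mul_right_cancel h4)
    have h6 : E M (pr M x (μ x)) x = 1 := E_pr_left M t.pq t.n1
    rw [h5, E_pr_of_ne M (F.mfst c).symm (Ne.symm h1) (fun e => h2 (by rw [e, F.msq]))] at h6
    exact zero_ne_one h6
  have hRn : tn S M μ x ⊔ zpowers w ≤ centralizer ({pr M x (μ x)} : Set G) := by
    refine sup_le inf_le_right (zpowers_le.2 (mem_centralizer_singleton_iff.2 ?_))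
    exact mul_inv_eq_iff_eq_mul.1 hwn
  exact hw.nm (h.lemC_le F zv hx hR le_sup_left hRN hRn hwR)

/-- the action of `w r w⁻¹`, `r ∈ O₂(P)`, on `V` -/
theorem act_r {r : G} (hr : r ∈ o2 P) : w * r * w⁻¹ ∈ tn S M μ x ∧
    (pp M (w * r * w⁻¹) = 1 ∨ pp M (w * r * w⁻¹) = Equiv.swap x (μ x)) := by
  obtain ⟨h1, h2⟩ := cm hdT hw (h.Q_le_tn F hx hr)
  have h3 : w * r * w⁻¹ ∈ tn S M μ x := (mem_normalizer_iff.1 hw.nT r).1 (h.Q_le_tn F hx hr)
  refine ⟨h3, ?_⟩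
  have e : w * r * w⁻¹ = (w * r * w⁻¹ * r⁻¹) * r := by group
  have hrp : pp M r = 1 := (h.mem_Q_iff (h.QS hr)).1 hr
  rw [e, h.mul (h.SP h2.1) (h.SP (h.QS hr)), hrp, mul_one]
  exact actO h F hx hd h1 h2

/-- some `r ∈ O₂(P)` : `w r w⁻¹` acts as `(x μx)` -/
theorem exists_r (zv : zc (o2 P) ≤ V ⊔ DD M) : ∃ r ∈ o2 P, pp M (w * r * w⁻¹) = Equiv.swap x (μ x) := by
  by_contra hcon
  push Not at hcon
  refine not_norm h F hx hd hdT hw zv (mem_normalizer_of_conj fun r hr => ?_)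
  obtain ⟨h1, h2⟩ := act_r h F hx hd hdT hw hr
  exact (h.mem_Q_iff h1.1).2 (h2.resolve_right (hcon r hr))

/-- LEMMA 1_D for `w⁻¹ e w` and the duad `q = pr M c (μ c)` -/
theorem one_q (zv : zc (o2 P) ≤ V ⊔ DD M) {c : Pt k m} (hc : c.2 ≠ 0) (h1 : c ≠ x) (h2 : c ≠ μ x) :
    ∃ d', SD.Ctr M d' ∧ (w⁻¹ * pr M x (μ x) * w = d' ∨ w⁻¹ * pr M x (μ x) * w = pr M c (μ c) * d') := by
  have t := h.tri F hx
  have hs := SD.of_fr h
  have hcc : c.1 = (μ c).1 := (F.mfst c).symm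
  have hcn : c ≠ μ c := (F.mne c hc).symm
  have hnV : pr M x (μ x) ∈ V := pr_mem M _ _
  have heV : pr M x (x.1, 0) ∈ V := pr_mem M _ _
  have hcq := comm_q h F hx hd hdT hw.inv zv hc h1 h2
  have hEe : E M (pr M x (x.1, 0)) c = E M (pr M x (x.1, 0)) (μ c) := by
    rw [E_pr_of_ne M t.pr h1 (fun e => hc (by rw [e])), E_pr_of_ne M t.pr (fun e => h2 (by rw [← e, F.msq]))
      (fun e => hc (F.mnz.1 (by rw [e])))]
  have hE : E M (pr M x (x.1, 0)) x ≠ E M (pr M x (x.1, 0)) (μ x) := by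
    rw [E_pr_left M t.pr t.n2, E_pr_of_ne M t.pr t.n1.symm t.n3]
    exact one_ne_zero
  have hen : pr M x (x.1, 0) * pr M x (μ x) = pr M x (μ x) * pr M x (x.1, 0) := h.Vcomm heV hnV
  have hconj : ∀ u ∈ o2 P, ∀ y, y = w * u * w⁻¹ → u * (w⁻¹ * pr M x (x.1, 0) * w) * u⁻¹ =
      w⁻¹ * (y * pr M x (x.1, 0) * y⁻¹) * w := by
    rintro u - y rfl
    group
  have hsw : ∀ u ∈ o2 P, pp M (w * u * w⁻¹) = Equiv.swap x (μ x) → u * (w⁻¹ * pr M x (x.1, 0) * w) * u⁻¹ =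
      w⁻¹ * pr M x (μ x) * w * (w⁻¹ * pr M x (x.1, 0) * w) := by
    intro u hu hp
    obtain ⟨h3, -⟩ := act_r h F hx hd hdT hw hu
    rw [hconj u hu _ rfl, h.conj_swap (h.SP h3.1) t.pq hp heV hE, hen]
    group
  refine hs.one hcc hcn (y := w⁻¹ * pr M x (x.1, 0) * w) (a := w⁻¹ * pr M x (μ x) * w) ?_ ?_ ?_ ?_
  · have h3 := zc_conj' (p := pr M c (μ c)) (c := w⁻¹) hcq (hs.perp hcc hcn heV hEe)
    rwa [inv_inv] at h3
  · intro e
    apply h.pr_ne t.pq t.n1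
    calc pr M x (μ x) = w * (w⁻¹ * pr M x (μ x) * w) * w⁻¹ := by group
      _ = 1 := by rw [e]; group
  · intro u hu
    obtain ⟨h3, h4⟩ := act_r h F hx hd hdT hw hu
    rcases h4 with h4 | h4
    · left
      have h5 : w * u * w⁻¹ * pr M x (x.1, 0) = pr M x (x.1, 0) * (w * u * w⁻¹) :=
        h.comm_perp_of (p := x) (q := x) (h.SP h3.1) (Or.inl h4) heV rfl
      rw [hconj u hu _ rfl, h5, mul_inv_cancel_right]
    · right; exact hsw u hu h4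
  · obtain ⟨r, hr, hrp⟩ := exists_r h F hx hd hdT hw zv
    exact ⟨r, hr, hsw r hr hrp⟩

omit F hx hd hdT hw in
/-- the elements centralised by `O₂(P)` and all `K_p` lie in `DD M` -/
theorem DD_of_Ctr (zv : zc (o2 P) ≤ V ⊔ DD M) {a : G} (ha : SD.Ctr M a) : a ∈ DD M := by
  have hs := SD.of_fr h
  have h1 : a ∈ zc (o2 P) := mem_zc.2 ⟨h.cQ (mem_centralizer_iff.2 ha.2.1), ha.2.1, by rw [pow_two]; exact ha.1⟩
  obtain ⟨v, hv, e, he, rfl⟩ := h.zz_dec zv h1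
  have h2 : v = 1 := by
    refine hs.tot hv fun p q hpq hne g hg => ?_
    have hgq := hs.KK_le hpq hne hg
    have hgP := h.Qle hpq hne hgq
    have h3 := ha.2.2 p q hpq hne g hg
    have h4 : g * e = e * g := (mem_DD.1 he).2 g hgP fun r => by
      rcases h.Qpp hpq hne hgq with e1 | e1
      · rw [e1]; rfl
      · rw [e1]; exact swap_fst hpq r
    have h5 : g * v * e = v * g * e := by
      calc g * v * e = g * (v * e) := by group
        _ = v * (e * g) := by rw [h3]; group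
        _ = v * g * e := by rw [← h4]; group
    exact mul_right_cancel h5
  rw [h2, one_mul]
  exact he

/-- `w⁻¹ n w ∈ DD M` -/
theorem swp (zv : zc (o2 P) ≤ V ⊔ DD M) {c c' : Pt k m} (hc : c.2 ≠ 0) (h1 : c ≠ x) (h2 : c ≠ μ x)
    (hc' : c'.2 ≠ 0) (h1' : c' ≠ x) (h2' : c' ≠ μ x) (h3 : c ≠ c') (h4 : c ≠ μ c') :
    w⁻¹ * pr M x (μ x) * w ∈ DD M := by
  have hs := SD.of_fr h
  refine DD_of_Ctr h zv ?_
  obtain ⟨d₁, hd₁, e₁⟩ := one_q h F hx hd hdT hw zv hc h1 h2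
  obtain ⟨d₂, hd₂, e₂⟩ := one_q h F hx hd hdT hw zv hc' h1' h2'
  rcases e₁ with e₁ | e₁
  · rw [e₁]; exact hd₁
  rcases e₂ with e₂ | e₂
  · rw [e₂]; exact hd₂
  exfalso
  have hcc : c.1 = ((c.1, 0) : Pt k m).1 := rfl
  have hcn : c ≠ (c.1, 0) := fun e => hc (congrArg Prod.snd e)
  obtain ⟨g, hg, hgp⟩ := hs.par c (c.1, 0) hcc hcn
  have hgP := hs.QP c (c.1, 0) hcc hcn (hs.KK_le hcc hcn hg)
  have k1 := hd₁.2.2 c (c.1, 0) hcc hcn g hg
  have k2 := hd₂.2.2 c (c.1, 0) hcc hcn g hg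
  have k3 : g * pr M c' (μ c') = pr M c' (μ c') * g := by
    refine h.comm_perp_of (p := c) (q := (c.1, 0)) hgP (Or.inr hgp) (pr_mem M _ _) ?_
    rw [E_pr_of_ne M (F.mfst c').symm h3 h4, E_pr_of_ne M (F.mfst c').symm (fun e => hc' (by rw [← e]))
      (fun e => hc' (F.mnz.1 (by rw [← e])))]
  have k4 : pr M c (μ c) * d₁ = pr M c' (μ c') * d₂ := by rw [← e₁, ← e₂]
  have k5 : g * pr M c (μ c) = pr M c (μ c) * g := by
    have k6 : g * pr M c (μ c) * d₁ = pr M c (μ c) * g * d₁ := by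
      calc g * pr M c (μ c) * d₁ = g * (pr M c (μ c) * d₁) := by group
        _ = g * pr M c' (μ c') * d₂ := by rw [k4]; group
        _ = pr M c' (μ c') * (g * d₂) := by rw [k3]; group
        _ = pr M c' (μ c') * d₂ * g := by rw [k2]; group
        _ = pr M c (μ c) * (d₁ * g) := by rw [← k4]; group
        _ = pr M c (μ c) * g * d₁ := by rw [← k1]; group
    exact mul_right_cancel k6
  have k7 := (hs.act_iff hgP hcc hcn hgp (pr_mem M c (μ c))).1 k5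
  rw [E_pr_left M (F.mfst c).symm (F.mne c hc).symm, E_pr_of_ne M (F.mfst c).symm hcn.symm
    (fun e => hc (F.mnz.1 (by rw [← e])))] at k7
  exact one_ne_zero k7

/-- `w n w⁻¹ = w⁻¹ n w` -/
theorem swp_eq : w * pr M x (μ x) * w⁻¹ = w⁻¹ * pr M x (μ x) * w := by
  have h1 : w * w * (w⁻¹ * pr M x (μ x) * w) = w⁻¹ * pr M x (μ x) * w * (w * w) := by
    have h2 : w * (w * w) * w⁻¹ ∈ tn S M μ x := (mem_normalizer_iff.1 hw.nT _).1 hw.sq
    have h3 := mem_centralizer_singleton_iff.1 h2.2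
    calc w * w * (w⁻¹ * pr M x (μ x) * w) = w⁻¹ * (w * (w * w) * w⁻¹ * pr M x (μ x)) * w := by group
      _ = w⁻¹ * (pr M x (μ x) * (w * (w * w) * w⁻¹)) * w := by rw [h3]
      _ = w⁻¹ * pr M x (μ x) * w * (w * w) := by group
  calc w * pr M x (μ x) * w⁻¹ = w * w * (w⁻¹ * pr M x (μ x) * w) * (w * w)⁻¹ := by group
    _ = w⁻¹ * pr M x (μ x) * w := by rw [h1]; group

/-- `K ∋ n, d` normalised by `C(n)` contains the conjugates of the line -/
theorem memK {K : Subgroup G} (hKn : centralizer ({pr M x (μ x)} : Set G) ≤ normalizer (K : Set G))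
    (hnK : pr M x (μ x) ∈ K) (hdK : d ∈ K) (hδ : w * pr M x (μ x) * w⁻¹ ∈ DD M) :
    w⁻¹ * pr M x (x.1, 0) * w ∈ K ∧ w⁻¹ * pr M x (μ x) * w ∈ K := by
  have t := h.tri F hx
  have hnV : pr M x (μ x) ∈ V := pr_mem M _ _
  have heV : pr M x (x.1, 0) ∈ V := pr_mem M _ _
  have hdd : d * d = 1 := RD.DD_sq hd
  -- `w` commutes with `n d`
  have hwnd : w⁻¹ * (pr M x (μ x) * d) * w = pr M x (μ x) * d := by
    have h1 := mem_centralizer_singleton_iff.1 (o2_le _ hw.mO)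
    calc w⁻¹ * (pr M x (μ x) * d) * w = w⁻¹ * (pr M x (μ x) * d * w) := by group
      _ = pr M x (μ x) * d := by rw [← h1]; group
  have key : ∀ y ∈ h.X3 t, w⁻¹ * (y * pr M x (μ x) * y⁻¹ * d) * w ∈ K := by
    intro y hy
    have h1 := h.X_DD t hδ hy
    have h2 : w⁻¹ * y * w ∈ centralizer ({pr M x (μ x)} : Set G) := by
      rw [mem_centralizer_singleton_iff]
      calc w⁻¹ * y * w * pr M x (μ x) = w⁻¹ * (y * (w * pr M x (μ x) * w⁻¹)) * w := by group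
        _ = w⁻¹ * (w * pr M x (μ x) * w⁻¹ * y) * w := by rw [h1]
        _ = pr M x (μ x) * (w⁻¹ * y * w) := by group
    have h3 := (mem_normalizer_iff.1 (hKn h2) _).1 (mul_mem hnK hdK)
    have h4 : y * d = d * y := h.X_DD t hd hy
    have e : w⁻¹ * (y * pr M x (μ x) * y⁻¹ * d) * w = w⁻¹ * y * w * (pr M x (μ x) * d) * (w⁻¹ * y * w)⁻¹ := by
      calc w⁻¹ * (y * pr M x (μ x) * y⁻¹ * d) * w = w⁻¹ * (y * pr M x (μ x) * (y⁻¹ * d * y) * y⁻¹) * w := by group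
        _ = w⁻¹ * y * (pr M x (μ x) * d) * y⁻¹ * w := by
            rw [show y⁻¹ * d * y = d by rw [mul_assoc, ← h4]; group]; group
        _ = w⁻¹ * y * w * (w⁻¹ * (pr M x (μ x) * d) * w) * (w⁻¹ * y * w)⁻¹ := by group
        _ = _ := by rw [hwnd]
    rw [e]
    exact h3
  have key' : ∀ i : Fin 3, w⁻¹ * (dd (pr M x (μ x)) (pr M x (x.1, 0)) i * d) * w ∈ K := by
    intro i
    obtain ⟨y, hy, e⟩ := (h.bt3 t).trans_X_one 0 i
    have h1 : y * pr M x (μ x) * y⁻¹ ∈ pts (pr M x (μ x)) (pr M x (x.1, 0)) i := by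
      rw [← e]
      exact BTwo.conj_mem_cj ((h.line3 t).mem_pts.2 (Or.inr rfl))
    have h2 := ((h.line3 t).mem_pts.1 h1).resolve_left fun e => h.pr_ne t.pq t.n1 (conj_eq_one_iff.1 e)
    rw [← h2]
    exact key y hy
  have k0 : w⁻¹ * (pr M x (μ x) * d) * w ∈ K := key' 0
  have k1 : w⁻¹ * (pr M x (x.1, 0) * d) * w ∈ K := key' 1
  have k2 : w⁻¹ * (pr M x (μ x) * pr M x (x.1, 0) * d) * w ∈ K := key' 2
  have hdn : d * pr M x (μ x) = pr M x (μ x) * d := (Sit.zz_comm (h.VZ hnV) (mem_DD.1 hd).1).symm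
  have hde : d * pr M x (x.1, 0) = pr M x (x.1, 0) * d := (Sit.zz_comm (h.VZ heV) (mem_DD.1 hd).1).symm
  have hne : pr M x (μ x) * pr M x (x.1, 0) = pr M x (x.1, 0) * pr M x (μ x) := h.Vcomm hnV heV
  constructor
  · have h1 := mul_mem k0 k2
    have e : w⁻¹ * (pr M x (μ x) * d) * w * (w⁻¹ * (pr M x (μ x) * pr M x (x.1, 0) * d) * w) =
        w⁻¹ * pr M x (x.1, 0) * w := by
      calc w⁻¹ * (pr M x (μ x) * d) * w * (w⁻¹ * (pr M x (μ x) * pr M x (x.1, 0) * d) * w)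
          = w⁻¹ * (pr M x (μ x) * (d * pr M x (μ x)) * pr M x (x.1, 0) * d) * w := by group
        _ = w⁻¹ * (pr M x (μ x) * pr M x (μ x) * (d * pr M x (x.1, 0)) * d) * w := by rw [hdn]; group
        _ = w⁻¹ * (pr M x (μ x) * pr M x (μ x) * pr M x (x.1, 0) * (d * d)) * w := by rw [hde]; group
        _ = w⁻¹ * pr M x (x.1, 0) * w := by rw [h.Vsq hnV, hdd]; group
    rwa [e] at h1
  · have h1 := mul_mem k1 k2
    have e : w⁻¹ * (pr M x (x.1, 0) * d) * w * (w⁻¹ * (pr M x (μ x) * pr M x (x.1, 0) * d) * w) =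
        w⁻¹ * pr M x (μ x) * w := by
      calc w⁻¹ * (pr M x (x.1, 0) * d) * w * (w⁻¹ * (pr M x (μ x) * pr M x (x.1, 0) * d) * w)
          = w⁻¹ * (pr M x (x.1, 0) * d * (pr M x (μ x) * pr M x (x.1, 0)) * d) * w := by group
        _ = w⁻¹ * (pr M x (x.1, 0) * (d * pr M x (x.1, 0)) * pr M x (μ x) * d) * w := by rw [hne]; group
        _ = w⁻¹ * (pr M x (x.1, 0) * pr M x (x.1, 0) * (d * pr M x (μ x)) * d) * w := by rw [hde]; group
        _ = w⁻¹ * (pr M x (x.1, 0) * pr M x (x.1, 0) * pr M x (μ x) * (d * d)) * w := by rw [hdn]; group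
        _ = w⁻¹ * pr M x (μ x) * w := by rw [h.Vsq heV, hdd]; group
    rwa [e] at h1

/-- `e` commutes with the conjugates of `n` under `C(w r w⁻¹)`, `r = x₀ n x₀⁻¹`, `x₀ ∈ X` -/
theorem piW {K Ξ : Subgroup G} (hKn : centralizer ({pr M x (μ x)} : Set G) ≤ normalizer (K : Set G))
    (hKΞ : K ≤ Ξ) (hKz : K ≤ zc (o2 (centralizer ({pr M x (μ x)} : Set G))))
    (hΞm : ∀ l ∈ Ξ, (∀ y ∈ h.X3 (h.tri F hx), y * l = l * y) ∨
      (∀ y ∈ h.X3 (h.tri F hx), y * (pr M x (μ x) * l) = pr M x (μ x) * l * y))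
    (hδ : w⁻¹ * pr M x (μ x) * w ∈ DD M) (hδK : w⁻¹ * pr M x (μ x) * w ∈ K)
    (heK : w⁻¹ * pr M x (x.1, 0) * w ∈ K) {r x₀ : G} (hx₀ : x₀ ∈ h.X3 (h.tri F hx))
    (hr : x₀ * pr M x (μ x) * x₀⁻¹ = r) (hrV : r ∈ V) {g : G} (hg : g * (w * r * w⁻¹) = w * r * w⁻¹ * g) :
    pr M x (x.1, 0) * (g * pr M x (μ x) * g⁻¹) = g * pr M x (μ x) * g⁻¹ * pr M x (x.1, 0) := by
  have t := h.tri F hx
  obtain ⟨n, hn⟩ : ∃ n, n = pr M x (μ x) := ⟨_, rfl⟩
  rw [← hn] at hKn hKz hΞm hδ hδK hr ⊢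
  have hnV : n ∈ V := by rw [hn]; exact pr_mem M _ _
  obtain ⟨f, hf⟩ : ∃ f, f = w⁻¹ * pr M x (x.1, 0) * w := ⟨_, rfl⟩
  obtain ⟨δ, hδe⟩ : ∃ δ, δ = w⁻¹ * n * w := ⟨_, rfl⟩
  rw [← hf] at heK
  rw [← hδe] at hδ hδK
  obtain ⟨a, ha⟩ : ∃ a, a = x₀⁻¹ * (w⁻¹ * g * w) * x₀ := ⟨_, rfl⟩
  have haC : a ∈ centralizer ({n} : Set G) := by
    rw [mem_centralizer_singleton_iff, ha]
    have h1 : w⁻¹ * g * w * r = r * (w⁻¹ * g * w) := by
      calc w⁻¹ * g * w * r = w⁻¹ * (g * (w * r * w⁻¹)) * w := by group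
        _ = r * (w⁻¹ * g * w) := by rw [hg]; group
    calc x₀⁻¹ * (w⁻¹ * g * w) * x₀ * n = x₀⁻¹ * (w⁻¹ * g * w * (x₀ * n * x₀⁻¹)) * x₀ := by group
      _ = x₀⁻¹ * (w⁻¹ * g * w * r) * x₀ := by rw [hr]
      _ = x₀⁻¹ * (r * (w⁻¹ * g * w)) * x₀ := by rw [h1]
      _ = n * (x₀⁻¹ * (w⁻¹ * g * w) * x₀) := by rw [← hr]; group
  have hκ : a * δ * a⁻¹ ∈ K := (mem_normalizer_iff.1 (hKn haC) _).1 hδK
  obtain ⟨κ, hκe⟩ : ∃ κ, κ = a * δ * a⁻¹ := ⟨_, rfl⟩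
  rw [← hκe] at hκ
  have hxδ : x₀ * δ = δ * x₀ := h.X_DD t hδ hx₀
  have e1 : w⁻¹ * (g * n * g⁻¹) * w = x₀ * κ * x₀⁻¹ := by
    have h1 : x₀⁻¹ * δ * x₀ = δ := by rw [mul_assoc, ← hxδ]; group
    have e2 : w⁻¹ * g * w = x₀ * a * x₀⁻¹ := by rw [ha]; group
    calc w⁻¹ * (g * n * g⁻¹) * w = (w⁻¹ * g * w) * (w⁻¹ * n * w) * (w⁻¹ * g * w)⁻¹ := by group
      _ = x₀ * (a * (x₀⁻¹ * δ * x₀) * a⁻¹) * x₀⁻¹ := by rw [e2, ← hδe]; group
      _ = x₀ * κ * x₀⁻¹ := by rw [h1, ← hκe]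
  -- `f` commutes with `x₀ κ x₀⁻¹`
  have hfκ : f * κ = κ * f := MinSimple.VModule.zc_comm _ _ (hKz heK) _ (hKz hκ)
  have hfV : ∀ v ∈ V, f * v = v * f := by
    intro v hv
    have h1 : v ∈ o2 (centralizer ({n} : Set G)) := by rw [hn]; exact h.V_le t.pq t.n1 hv
    exact ((mem_zc.1 (hKz heK)).2.1 v h1).symm
  have hfc : f * (x₀ * κ * x₀⁻¹) = x₀ * κ * x₀⁻¹ * f := by
    rcases hΞm κ (hKΞ hκ) with h1 | h1
    · rw [h1 x₀ hx₀, mul_inv_cancel_right, hfκ]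
    · have e2 : x₀ * κ * x₀⁻¹ = r⁻¹ * (n * κ) := by
        calc x₀ * κ * x₀⁻¹ = (x₀ * n * x₀⁻¹)⁻¹ * (x₀ * (n * κ) * x₀⁻¹) := by group
          _ = r⁻¹ * (n * κ) := by rw [h1 x₀ hx₀, hr, mul_inv_cancel_right]
      have h2 := hfV _ (inv_mem hrV)
      have h3 := hfV n hnV
      rw [e2]
      calc f * (r⁻¹ * (n * κ)) = (f * r⁻¹) * (n * κ) := by group
        _ = r⁻¹ * (f * n) * κ := by rw [h2]; group
        _ = r⁻¹ * n * (f * κ) := by rw [h3]; group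
        _ = r⁻¹ * (n * κ) * f := by rw [hfκ]; group
  calc pr M x (x.1, 0) * (g * n * g⁻¹) = w * (f * (w⁻¹ * (g * n * g⁻¹) * w)) * w⁻¹ := by rw [hf]; group
    _ = w * (f * (x₀ * κ * x₀⁻¹)) * w⁻¹ := by rw [e1]
    _ = w * (x₀ * κ * x₀⁻¹ * f) * w⁻¹ := by rw [hfc]
    _ = w * (w⁻¹ * (g * n * g⁻¹) * w * f) * w⁻¹ := by rw [e1]
    _ = g * n * g⁻¹ * pr M x (x.1, 0) := by rw [hf]; group

omit hw hdT F hx in
/-- `DD M ≤ Ω₁Z(O₂(C(n)))` -/
theorem DD_le_zc {p q : Pt k m} (hpq : p.1 = q.1) (hne : p ≠ q) :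
    d ∈ zc (o2 (centralizer ({pr M p q} : Set G))) := by
  have hs := SD.of_fr h
  refine hs.Ctr_qz ⟨RD.DD_sq hd, (mem_zc.1 (mem_DD.1 hd).1).2.1, fun p q hpq hne g hg => ?_⟩ hpq hne
  have hgq := hs.KK_le hpq hne hg
  refine (mem_DD.1 hd).2 g (h.Qle hpq hne hgq) fun r => ?_
  rcases h.Qpp hpq hne hgq with e1 | e1
  · rw [e1]; rfl
  · rw [e1]; exact swap_fst hpq r

/-- no `w` -/
theorem caseB (zv : zc (o2 P) ≤ V ⊔ DD M) {c c' : Pt k m} (hc : c.2 ≠ 0) (h1 : c ≠ x) (h2 : c ≠ μ x)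
    (hc' : c'.2 ≠ 0) (h1' : c' ≠ x) (h2' : c' ≠ μ x) (h3 : c ≠ c') (h4 : c ≠ μ c') {Ξ : Subgroup G}
    (hKΞ : centralizer ({pr M x (μ x)} : Set G) ≤ normalizer (Ξ : Set G)) (hnΞ : pr M x (μ x) ∈ Ξ) (hdΞ : d ∈ Ξ)
    (hΞm : ∀ l ∈ Ξ, (∀ y ∈ h.X3 (h.tri F hx), y * l = l * y) ∨
      (∀ y ∈ h.X3 (h.tri F hx), y * (pr M x (μ x) * l) = pr M x (μ x) * l * y)) : False := by
  have t := h.tri F hx
  have hs := SD.of_fr h
  have δm := swp h F hx hd hdT hw zv hc h1 h2 hc' h1' h2' h3 h4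
  have δm' : w * pr M x (μ x) * w⁻¹ ∈ DD M := by rw [swp_eq h F hx hd hdT hw]; exact δm
  obtain ⟨K, hK⟩ : ∃ K : Subgroup G, K = Ξ ⊓ zc (o2 (centralizer ({pr M x (μ x)} : Set G))) := ⟨_, rfl⟩
  have hKle : K ≤ Ξ := by rw [hK]; exact inf_le_left
  have hKz : K ≤ zc (o2 (centralizer ({pr M x (μ x)} : Set G))) := by rw [hK]; exact inf_le_right
  have hnK : pr M x (μ x) ∈ K := by
    rw [hK]
    refine ⟨hnΞ, h.perp t.pq t.n1 (pr_mem M _ _) ?_⟩
    rw [E_pr_left M t.pq t.n1, E_pr_right M t.pq t.n1]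
  have hdK : d ∈ K := by rw [hK]; exact ⟨hdΞ, DD_le_zc h hd t.pq t.n1⟩
  have hKn : centralizer ({pr M x (μ x)} : Set G) ≤ normalizer (K : Set G) := by
    intro g hg
    have k1 := hKΞ hg
    have k2 : g ∈ normalizer (zc (o2 (centralizer ({pr M x (μ x)} : Set G))) : Set G) :=
      normalizer_le_normalizer_zc _ (le_normalizer_o2 _ hg)
    rw [hK, ← cj_eq_self_iff, cj_inf, cj_eq_self_iff.2 k1, cj_eq_self_iff.2 k2]
  obtain ⟨m1, m2⟩ := memK h F hx hd hdT hw hKn hnK hdK δm'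
  have δm'' : w⁻¹ * pr M x (μ x) * w⁻¹⁻¹ ∈ DD M := by rw [inv_inv]; exact δm
  obtain ⟨m3, m4⟩ := memK h F hx hd hdT hw.inv hKn hnK hdK δm''
  rw [inv_inv] at m3 m4
  -- the partner
  have hnV : pr M x (μ x) ∈ V := pr_mem M _ _
  have heV : pr M x (x.1, 0) ∈ V := pr_mem M _ _
  have hE : E M (pr M x (x.1, 0)) x ≠ E M (pr M x (x.1, 0)) (μ x) := by
    rw [E_pr_left M t.pr t.n2, E_pr_of_ne M t.pr t.n1.symm t.n3]
    exact one_ne_zero
  obtain ⟨s, hs1, hs2⟩ := h.exists_h t.pq t.n1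
  obtain ⟨-, hs3, hs4⟩ := hs2 _ heV hE
  have hsn : s * pr M x (μ x) = pr M x (μ x) * s := mem_centralizer_singleton_iff.1 hs1
  have hnc : pr M x (x.1, 0) * (s⁻¹ * pr M x (x.1, 0) * s) ≠ s⁻¹ * pr M x (x.1, 0) * s * pr M x (x.1, 0) := by
    intro e
    exact hE ((hs.act_iff (h.Qle t.pq t.n1 (h.KK_le t.pq t.n1 hs3)) t.pq t.n1 hs4 heV).1 e.symm)
  -- `x₀`
  have hex : ∀ i : Fin 3, ∃ y ∈ h.X3 t, y * pr M x (μ x) * y⁻¹ = dd (pr M x (μ x)) (pr M x (x.1, 0)) i := by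
    intro i
    obtain ⟨y, hy, e⟩ := (h.bt3 t).trans_X_one 0 i
    refine ⟨y, hy, ?_⟩
    have k1 : y * pr M x (μ x) * y⁻¹ ∈ pts (pr M x (μ x)) (pr M x (x.1, 0)) i := by
      rw [← e]
      exact BTwo.conj_mem_cj ((h.line3 t).mem_pts.2 (Or.inr rfl))
    exact ((h.line3 t).mem_pts.1 k1).resolve_left fun e => h.pr_ne t.pq t.n1 (conj_eq_one_iff.1 e)
  obtain ⟨y₁, hy₁, ey₁⟩ := hex 1
  obtain ⟨y₂, hy₂, ey₂⟩ := hex 2
  have ey₁' : y₁ * pr M x (μ x) * y₁⁻¹ = pr M x (x.1, 0) := ey₁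
  have ey₂' : y₂ * pr M x (μ x) * y₂⁻¹ = pr M x (μ x) * pr M x (x.1, 0) := ey₂
  -- `e` commutes with the conjugates of `n` under `C(q')`: `s q' s⁻¹` is not centralised by `X`
  have hkill : ∀ q' : G, (∀ g, g * q' = q' * g →
      pr M x (x.1, 0) * (g * pr M x (μ x) * g⁻¹) = g * pr M x (μ x) * g⁻¹ * pr M x (x.1, 0)) →
      ¬ ∀ y ∈ h.X3 t, y * (s * q' * s⁻¹) = s * q' * s⁻¹ * y := by
    intro q' hpi hX
    apply hnc
    have k1 := hpi (s⁻¹ * y₁ * s) (by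
      have k2 := hX y₁ hy₁
      calc s⁻¹ * y₁ * s * q' = s⁻¹ * (y₁ * (s * q' * s⁻¹)) * s := by group
        _ = s⁻¹ * (s * q' * s⁻¹ * y₁) * s := by rw [k2]
        _ = q' * (s⁻¹ * y₁ * s) := by group)
    have k3 : s⁻¹ * y₁ * s * pr M x (μ x) * (s⁻¹ * y₁ * s)⁻¹ = s⁻¹ * pr M x (x.1, 0) * s := by
      calc s⁻¹ * y₁ * s * pr M x (μ x) * (s⁻¹ * y₁ * s)⁻¹
          = s⁻¹ * (y₁ * (s * pr M x (μ x) * s⁻¹) * y₁⁻¹) * s := by group
        _ = s⁻¹ * (y₁ * pr M x (μ x) * y₁⁻¹) * s := by rw [hsn, mul_inv_cancel_right]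
        _ = _ := by rw [ey₁']
    rwa [k3] at k1
  -- the three elements
  have pi1 : ∀ g, g * (w * pr M x (μ x) * w⁻¹) = w * pr M x (μ x) * w⁻¹ * g →
      pr M x (x.1, 0) * (g * pr M x (μ x) * g⁻¹) = g * pr M x (μ x) * g⁻¹ * pr M x (x.1, 0) := by
    intro g hg
    have hδ1 : w * pr M x (μ x) * w⁻¹ ≠ 1 := fun e => h.pr_ne t.pq t.n1 (conj_eq_one_iff.1 e)
    obtain ⟨-, k1⟩ := RD.HF_cent h.char2 h.toSit zv δm' hδ1
    have k2 := k1 (h.VZ heV)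
    have k3 : g * pr M x (μ x) * g⁻¹ ∈ zc (o2 (centralizer ({w * pr M x (μ x) * w⁻¹} : Set G))) :=
      (mem_normalizer_iff.1 (normalizer_le_normalizer_zc _ (le_normalizer_o2 _
        (mem_centralizer_singleton_iff.2 hg))) _).1 (k1 (h.VZ hnV))
    exact MinSimple.VModule.zc_comm _ _ k2 _ k3
  have pi2 : ∀ g, g * (w * pr M x (x.1, 0) * w⁻¹) = w * pr M x (x.1, 0) * w⁻¹ * g →
      pr M x (x.1, 0) * (g * pr M x (μ x) * g⁻¹) = g * pr M x (μ x) * g⁻¹ * pr M x (x.1, 0) := fun g hg =>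
    piW h F hx hd hdT hw hKn hKle hKz hΞm δm m2 m1 hy₁ ey₁' heV hg
  have pi3 : ∀ g, g * (w * (pr M x (μ x) * pr M x (x.1, 0)) * w⁻¹) =
      w * (pr M x (μ x) * pr M x (x.1, 0)) * w⁻¹ * g →
      pr M x (x.1, 0) * (g * pr M x (μ x) * g⁻¹) = g * pr M x (μ x) * g⁻¹ * pr M x (x.1, 0) := fun g hg =>
    piW h F hx hd hdT hw hKn hKle hKz hΞm δm m2 m1 hy₂ ey₂' (mul_mem hnV heV) hg
  have m5 : w * (pr M x (μ x) * pr M x (x.1, 0)) * w⁻¹ ∈ K := by
    have k1 := mul_mem m4 m3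
    have e : w * pr M x (μ x) * w⁻¹ * (w * pr M x (x.1, 0) * w⁻¹) = w * (pr M x (μ x) * pr M x (x.1, 0)) * w⁻¹ := by
      group
    rwa [e] at k1
  have hsK : ∀ {q}, q ∈ K → s * q * s⁻¹ ∈ K := fun hq => (mem_normalizer_iff.1 (hKn hs1) _).1 hq
  have hnK' : ∀ {q}, q ∈ K → pr M x (μ x) * q = q * pr M x (μ x) := fun hq =>
    MinSimple.VModule.zc_comm _ _ (hKz hnK) _ (hKz hq)
  have c1 := (hΞm _ (hKle (hsK m4))).resolve_left (hkill _ pi1)
  have c2 := (hΞm _ (hKle (hsK m3))).resolve_left (hkill _ pi2)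
  have c3 := (hΞm _ (hKle (hsK m5))).resolve_left (hkill _ pi3)
  -- `n` is centralised by `X`
  have hprod : pr M x (μ x) * (s * (w * pr M x (μ x) * w⁻¹) * s⁻¹) *
      (pr M x (μ x) * (s * (w * pr M x (x.1, 0) * w⁻¹) * s⁻¹)) *
      (pr M x (μ x) * (s * (w * (pr M x (μ x) * pr M x (x.1, 0)) * w⁻¹) * s⁻¹)) = pr M x (μ x) := by
    have k1 := hnK' (hsK m4)
    have k2 := hnK' (hsK m3)
    have k3 : pr M x (x.1, 0) * pr M x (μ x) = pr M x (μ x) * pr M x (x.1, 0) := h.Vcomm heV hnV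
    have k4 := hnK' (mul_mem (hsK m4) (hsK m3))
    calc pr M x (μ x) * (s * (w * pr M x (μ x) * w⁻¹) * s⁻¹) *
          (pr M x (μ x) * (s * (w * pr M x (x.1, 0) * w⁻¹) * s⁻¹)) *
          (pr M x (μ x) * (s * (w * (pr M x (μ x) * pr M x (x.1, 0)) * w⁻¹) * s⁻¹))
        = pr M x (μ x) * (s * (w * pr M x (μ x) * w⁻¹) * s⁻¹ * pr M x (μ x)) *
          (s * (w * pr M x (x.1, 0) * w⁻¹) * s⁻¹) *
          (pr M x (μ x) * (s * (w * (pr M x (μ x) * pr M x (x.1, 0)) * w⁻¹) * s⁻¹)) := by group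
      _ = pr M x (μ x) * pr M x (μ x) * (s * (w * pr M x (μ x) * w⁻¹) * s⁻¹ *
          (s * (w * pr M x (x.1, 0) * w⁻¹) * s⁻¹) * pr M x (μ x)) *
          (s * (w * (pr M x (μ x) * pr M x (x.1, 0)) * w⁻¹) * s⁻¹) := by rw [← k1]; group
      _ = pr M x (μ x) * (s * w * (pr M x (μ x) * (pr M x (x.1, 0) * pr M x (μ x)) * pr M x (x.1, 0)) *
          w⁻¹ * s⁻¹) := by rw [← k4, h.Vsq hnV]; group
      _ = pr M x (μ x) * (s * w * ((pr M x (μ x) * pr M x (μ x)) * (pr M x (x.1, 0) * pr M x (x.1, 0))) *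
          w⁻¹ * s⁻¹) := by rw [k3]; group
      _ = pr M x (μ x) := by rw [h.Vsq hnV, h.Vsq heV]; group
  have hX : y₁ * pr M x (μ x) = pr M x (μ x) * y₁ := by
    rw [← hprod]
    have hmulc : ∀ {y a b : G}, y * a = a * y → y * b = b * y → y * (a * b) = a * b * y := by
      intro y a b h2 h3
      rw [← mul_assoc, h2, mul_assoc, h3, mul_assoc]
    exact hmulc (hmulc (c1 y₁ hy₁) (c2 y₁ hy₁)) (c3 y₁ hy₁)
  rw [hX, mul_inv_cancel_right] at ey₁'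
  apply hE
  rw [← ey₁', E_pr_left M t.pq t.n1, E_pr_right M t.pq t.n1]

end conf

/-! ### `O₂(C(n d)) ≤ T` -/

section

variable [Finite G] {S : Sylow 2 G} {M : SymK (S : Subgroup G) P V ⊥ k m}

theorem exists_out {μ : Equiv.Perm (Pt k m)} {x : Pt k m} {d : G} (hdT : ∀ s ∈ tn S M μ x, s * d = d * s)
    (hnot : ¬ o2 (centralizer ({pr M x (μ x) * d} : Set G)) ≤ tn S M μ x) : ∃ w, Out S M μ x d w := by
  classical
  have : Fact (Nat.Prime 2) := ⟨Nat.prime_two⟩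
  have hTC : tn S M μ x ≤ centralizer ({pr M x (μ x) * d} : Set G) := by
    intro t ht
    rw [mem_centralizer_singleton_iff, ← mul_assoc, mem_centralizer_singleton_iff.1 ht.2, mul_assoc, hdT t ht,
      mul_assoc]
  have hn : tn S M μ x ≤ normalizer (o2 (centralizer ({pr M x (μ x) * d} : Set G)) : Set G) :=
    hTC.trans (le_normalizer_o2 _)
  have hTp : IsPGroup 2 (tn S M μ x) := S.isPGroup'.to_le inf_le_left
  have hO : IsPGroup 2 (o2 (centralizer ({pr M x (μ x) * d} : Set G))) := o2_isPGroup _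
  have hX : IsPGroup 2 (tn S M μ x ⊔ o2 (centralizer ({pr M x (μ x) * d} : Set G)) : Subgroup G) :=
    hTp.to_sup_of_normal_right' hO hn
  have hlt : tn S M μ x < tn S M μ x ⊔ o2 (centralizer ({pr M x (μ x) * d} : Set G)) := by
    refine lt_of_le_of_ne le_sup_left fun h3 => hnot ?_
    rw [h3]
    exact le_sup_right
  obtain ⟨y, hy, hy1, hy2⟩ := Involutions.BaerSuzuki.exists_mem_normalizer_of_lt hX hlt
  obtain ⟨t, ht, w, hw, rfl⟩ := TwoA.mem_sup_nrm hn hy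
  have hwn : w ∈ normalizer (tn S M μ x : Set G) := by
    have h3 : w = t⁻¹ * (t * w) := by group
    rw [h3]
    exact mul_mem (inv_mem (le_normalizer ht)) hy2
  have hwT : w ∉ tn S M μ x := fun h3 => hy1 (mul_mem ht h3)
  have hex : ∃ j : ℕ, w ^ 2 ^ j ∈ tn S M μ x := by
    obtain ⟨j, hj⟩ := hO ⟨w, hw⟩
    refine ⟨j, ?_⟩
    have h4 : w ^ 2 ^ j = 1 := congrArg Subtype.val hj
    rw [h4]
    exact one_mem _
  obtain ⟨j, hj⟩ : ∃ j, j = Nat.find hex := ⟨_, rfl⟩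
  have h1 : w ^ 2 ^ j ∈ tn S M μ x := by rw [hj]; exact Nat.find_spec hex
  have h0 : j ≠ 0 := by
    intro e
    rw [e, pow_zero, pow_one] at h1
    exact hwT h1
  obtain ⟨i, rfl⟩ := Nat.exists_eq_succ_of_ne_zero h0
  refine ⟨w ^ 2 ^ i, pow_mem hw _, pow_mem hwn _, ?_, ?_⟩
  · rw [← pow_add, ← two_mul, ← pow_succ']
    exact h1
  · refine Nat.find_min hex ?_
    rw [← hj]
    exact Nat.lt_succ_self i

end

/-! ### The theorem -/

section thm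

variable [Finite G] {S : Sylow 2 G} {M : SymK (S : Subgroup G) P V ⊥ k m} {D : Subgroup G} (h : Fr S P V D M)
  {μ ν : Equiv.Perm (Pt k m)} (F : Fours M μ ν) {x : Pt k m} (hx : x.2 ≠ 0) (zv : zc (o2 P) ≤ V ⊔ DD M)

include h F hx in
/-- two duads `≠ n` of `S` -/
theorem exists_two (hk : 2 ≤ k ∨ 3 ≤ m) : ∃ c c' : Pt k m, c.2 ≠ 0 ∧ c ≠ x ∧ c ≠ μ x ∧ c'.2 ≠ 0 ∧ c' ≠ x ∧
    c' ≠ μ x ∧ c ≠ c' ∧ c ≠ μ c' := by
  classical
  have hn1 := h.nu_ne F hx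
  have hn2 := F.nne x hx
  have hn3 := F.nmu x hx
  rcases hk with hk | hm
  · obtain ⟨l, hl⟩ : ∃ l : Fin k, l ≠ x.1 := by
      have : Nontrivial (Fin k) := Fin.nontrivial_iff_two_le.2 hk
      exact exists_ne x.1
    obtain ⟨c, hc, hc'⟩ := exists_pt4 h.hm l ({(l, 0)} : Finset (Pt k m)) (by simp)
    rw [Finset.mem_singleton] at hc'
    refine ⟨ν x, c, hn1, hn2, hn3, fun e => hc' (Prod.ext hc e), fun e => hl ?_, fun e => hl ?_, fun e => hl ?_,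
      fun e => hl ?_⟩
    · rw [← hc, e]
    · rw [← hc, e, F.mfst]
    · rw [← hc, ← e, F.nfst]
    · rw [← hc, ← F.mfst c, ← e, F.nfst]
  · obtain ⟨c, hc, hc'⟩ := exists_pt hm x.1 ({(x.1, 0), x, μ x, ν x, μ (ν x)} : Finset (Pt k m))
      (Finset.card_le_five.trans (by norm_num))
    simp only [Finset.mem_insert, Finset.mem_singleton, not_or] at hc'
    refine ⟨ν x, c, hn1, hn2, hn3, fun e => hc'.1 (Prod.ext hc e), hc'.2.1, hc'.2.2.1, fun e => hc'.2.2.2.1 e.symm,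
      fun e => hc'.2.2.2.2 ?_⟩
    rw [e, F.msq]

include h F hx zv in
/-- **LEMMA E over `T̂`, `D` arbitrary** -/
theorem le_hat (hk : 2 ≤ k ∨ 3 ≤ m) {T : Subgroup G} (hTT : tn S M μ x ≤ T) (hTp : IsPGroup 2 T)
    (hTN : T ≤ normalizer (ln (h.line3 (h.tri F hx)) : Set G)) (hTa : T ≤ centralizer ({pr M x (μ x)} : Set G))
    (syl : ¬ 2 ∣ T.relIndex (centralizer ({pr M x (μ x)} : Set G))) (j : Fin 3) :
    ThmA.LE (ln (h.line3 (h.tri F hx))) (pts (pr M x (μ x)) (pr M x (x.1, 0))) j := by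
  classical
  have t := h.tri F hx
  have b := h.httT F hx hTT zv hTp hTN hTa syl
  have B := b.toBTS
  refine ThmA.le_all B.toBT (i := 0) (fun Λ hΛ hN => ?_) j
  by_contra hΛR
  set L := ln (h.line3 (h.tri F hx)) with hL
  set R := pts (pr M x (μ x)) (pr M x (x.1, 0)) with hR
  set r := pr M x (μ x) with hr
  have hrV : r ∈ V := pr_mem M x (μ x)
  have hrr : r * r = 1 := h.Vsq hrV
  have h0 : R 0 = zpowers (pr M x (μ x)) := rfl
  have h1 : R 1 = zpowers (pr M x (x.1, 0)) := rfl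
  have h2 : R 2 = zpowers (pr M (μ x) (x.1, 0)) := by
    show zpowers (dd (pr M x (μ x)) (pr M x (x.1, 0)) 2) = _
    rw [show dd (pr M x (μ x)) (pr M x (x.1, 0)) 2 = pr M (μ x) (x.1, 0) from h.dd_two t]
  have hr1 : r ≠ 1 := h.pr_ne t.pq t.n1
  have hRK : ∀ y ∈ R 0, y = 1 ∨ y = r := fun y hy => (HT.LineOf.mem_zp h.pr_sq).1 hy
  have hrR : r ∈ R 0 := by rw [h0]; exact mem_zpowers r
  -- the normaliser of the point
  have hNr : normalizer (R 0 : Set G) = centralizer ({r} : Set G) := by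
    rw [h0, MinSimple.Basic.normalizer_zpowers_eq (by rw [pow_two]; exact hrr)]
  set K := centralizer ({r} : Set G) with hK
  have hKr : ∀ g ∈ K, g * r = r * g := fun g hg => mem_centralizer_singleton_iff.1 hg
  have hTK : T ≤ K := hTa
  have hTL : T ≤ normalizer (L : Set G) := hTN
  have hLV : L ≤ V := h.ln_le t
  -- `Ξ = R 0 Λ`
  set Ξ := R 0 ⊔ Λ with hΞ
  have hKΞ : K ≤ normalizer (Ξ : Set G) := by
    intro g hg
    have hgR : g ∈ normalizer (R 0 : Set G) := by rw [hNr]; exact hg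
    rw [← cj_eq_self_iff, hΞ, cj_sup, cj_eq_self_iff.2 hgR, cj_eq_self_iff.2 (hN hgR)]
  have hΞm : ∀ l ∈ Ξ, ∃ a' ∈ R 0, a' * l ∈ CenX L R := by
    intro l hl
    have h3 : Ξ ≤ RC B.toBT 0 := by
      refine sup_le (fun a' ha => ⟨a'⁻¹, inv_mem ha, ?_⟩) hΛ
      rw [inv_mul_cancel]
      exact one_mem _
    exact h3 hl
  have hE0 : Ξ ⊓ CenX L R ≠ ⊥ := by
    intro h'
    apply hΛR
    intro y hy
    obtain ⟨a', ha, hm⟩ := hΛ y hy
    have h3 : a' * y ∈ Ξ ⊓ CenX L R :=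
      ⟨mul_mem ((le_sup_left : R 0 ≤ Ξ) ha) ((le_sup_right : Λ ≤ Ξ) hy), hm⟩
    rw [h', mem_bot, mul_eq_one_iff_eq_inv] at h3
    have h4 : y = a'⁻¹ := by rw [h3, inv_inv]
    rw [h4]; exact inv_mem ha
  have hTΞ : T ≤ normalizer ((Ξ ⊓ CenX L R : Subgroup G) : Set G) := by
    intro s hs
    have h3 := B.toBT.NV_le_NCenX (hTL hs)
    rw [← cj_eq_self_iff, cj_inf, cj_eq_self_iff.2 (hKΞ (hTK hs)), cj_eq_self_iff.2 h3]
  have hQT : o2 K ≤ T := HT.LemE.le_of_odd hTp hTa syl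
      (o2_isPGroup _) (o2_le _) (hTK.trans (le_normalizer_o2 _))
  have hCT : Ξ ⊓ CenX L R ≤ T := by
    have h3 : CenX L R ≤ QQ (R 0) := (B.CenX_le_C).trans (iInf_le _ 0)
    have h4 : QQ (R 0) = o2 K := by
      change o2 (normalizer (R 0 : Set G)) = o2 K
      rw [hNr]
    rw [h4] at h3
    exact inf_le_right.trans (h3.trans hQT)
  obtain ⟨f, hf, hf1, hff, hfT⟩ := HT.LemE.exists_inv hTp hE0 hCT hTΞ
  have hfz : f ∈ zc T := mem_zc.2 ⟨hCT hf, fun g hg => (hfT g hg).symm, by rw [pow_two]; exact hff⟩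
  obtain ⟨v, hv, d, hd, hvT, hdT, e⟩ := h.zc_tn_dec F hx zv (h.zcT_le F hx hTT hfz)
  have hfX : f ∈ CenX L R := hf.2
  -- `v = 1`
  by_cases hv1 : v = 1
  · rw [hv1, one_mul] at e
    subst e
    have hff' : f * f = 1 := hff
    have hrf : r * f = f * r := Sit.zz_comm (h.VZ hrV) (mem_DD.1 hd).1
    -- `O₂(C(n d)) ≤ T`
    have hO : o2 (centralizer ({pr M x (μ x) * f} : Set G)) ≤ tn S M μ x := by
      by_contra hcon
      obtain ⟨w, hw⟩ := exists_out hdT hcon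
      obtain ⟨c, c', k1, k2, k3, k4, k5, k6, k7, k8⟩ := exists_two h F hx hk
      refine caseB h F hx hd hdT hw zv k1 k2 k3 k4 k5 k6 k7 k8 hKΞ ((le_sup_left : R 0 ≤ Ξ) hrR) hf.1
        fun l hl => ?_
      obtain ⟨a', ha', hm'⟩ := hΞm l hl
      rcases hRK a' ha' with rfl | rfl
      · left
        rw [one_mul] at hm'
        exact fun y hy => mem_centralizer_iff.1 hm' y hy
      · right
        exact fun y hy => mem_centralizer_iff.1 hm' y hy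
    have g1 : GoodA r f := by
      refine goodA_of h.char2 hff' hf1 hrf fun g hg => ?_
      exact (mem_zc.1 (h.VZ hrV)).2.1 g ((RD.HF_cent h.char2 h.toSit zv hd hf1).1 hg)
    have g2 : GoodA r (r * f) := by
      refine goodA_of h.char2 ?_ ?_ ?_ fun g hg => ?_
      · calc r * f * (r * f) = r * (f * r) * f := by group
          _ = (r * r) * (f * f) := by rw [← hrf]; group
          _ = 1 := by rw [hrr, hff', one_mul]
      · intro e1
        have e2 : r = f⁻¹ := eq_inv_of_mul_eq_one_left e1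
        exact hr1 (h.eq_one_of_DD hrV (by rw [e2]; exact inv_mem hd))
      · rw [← mul_assoc, mul_assoc r f r, ← hrf, ← mul_assoc]
      · exact mem_centralizer_singleton_iff.1 (hO hg).2
    have hi10 : (1 : Fin 3) ≠ 0 := by decide
    have hi20 : (2 : Fin 3) ≠ 0 := by decide
    have hi12 : (1 : Fin 3) ≠ 2 := by decide
    refine bip B.toBT hRK (fun g hg => hKr g (by rwa [hNr] at hg)) hTL (by rw [hNr]; exact syl) ?_
      (by rw [hNr]; exact hKΞ) hΞm hf.1 g1 g2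
    obtain ⟨g, hgN, hgt⟩ := B.toBT.mt 0
    obtain ⟨⟨w, hwL, hw⟩, -⟩ := hgt 1 2 hi10 hi20
    by_contra hcon
    push Not at hcon
    have h3 : pr M x (x.1, 0) ∈ R 2 := by
      have h4 : g * w * g⁻¹ * pr M x (x.1, 0) * (g * w * g⁻¹)⁻¹ = pr M x (x.1, 0) := by
        have h5 := hcon g hgN (pr M x (x.1, 0)) (B.toBT.R_le 1 (by rw [h1]; exact mem_zpowers _)) (g * w * g⁻¹)
          (conj_mem_cj hwL)
        rw [← h5, mul_inv_cancel_right]
      rw [← hw, ← h4]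
      exact conj_mem_cj (by rw [h1]; exact mem_zpowers _)
    have h4 := B.toBT.eq_one hi12 (by rw [h1]; exact mem_zpowers _ : pr M x (x.1, 0) ∈ R 1) h3
    exact h.pr_ne t.pr t.n2 h4
  -- `v ≠ 1`
  have hdX : ∀ y ∈ XX L R, y * d = d * y := fun y hy => h.X_DD t hd hy
  have hvX : ∀ y ∈ XX L R, y * v = v * y := by
    intro y hy
    have h3 := mem_centralizer_iff.1 hfX y hy
    rw [e] at h3
    have h4 : y * v * d = v * y * d := by
      calc y * v * d = y * (v * d) := by group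
        _ = v * d * y := h3
        _ = v * (y * d) := by rw [hdX y hy]; group
        _ = v * y * d := by group
    exact mul_right_cancel h4
  obtain ⟨g, hgN, hgt⟩ := B.toBT.mt 0
  obtain ⟨⟨w0, hw0L, hw0⟩, -⟩ := hgt 1 2 (by decide) (by decide)
  obtain ⟨hx1, hx1P, hx1s⟩ := exists_sw h t.pq t.pr t.n1 t.n2 B.toBT h0 h1 h2 hgN hw0L hw0
  obtain ⟨g', hgN', hgt'⟩ := B.toBT.mt 2
  obtain ⟨⟨w', hw'L, hw'⟩, -⟩ := hgt' 1 0 (by decide) (by decide)
  have h2' : R 2 = zpowers (pr M (x.1, 0) (μ x)) := by rw [h2, pr_comm M t.qr]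
  have h1' : R 1 = zpowers (pr M (x.1, 0) x) := by rw [h1, pr_comm M t.pr]
  have h0' : R 0 = zpowers (pr M (μ x) x) := by rw [h0, pr_comm M t.pq]
  obtain ⟨hx2, hx2P, hx2s⟩ := exists_sw h t.qr.symm t.pr.symm t.n3.symm t.n2.symm B.toBT h2' h1' h0' hgN' hw'L hw'
  have hEf : ∀ y ∈ XX L R, y ∈ P → ∀ p, E M v (pp M y p) = E M v p := fun y hy hyP =>
    (h.comm_iff hyP hv).1 (hvX y hy)
  have hE1 : E M v x = E M v (μ x) := by
    have := hEf _ hx1 hx1P (μ x)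
    rwa [hx1s, Equiv.swap_apply_right] at this
  have hE2 : E M v (μ x) = E M v (x.1, 0) := by
    have := hEf _ hx2 hx2P (x.1, 0)
    rwa [hx2s, Equiv.swap_apply_left] at this
  obtain ⟨p, q, hpq, hpa, hpb, hqa, hqb, hne⟩ := exists_sep (M := M) h.hm1 t.pq t.pr t.n2 t.n3 hv hv1 hE1
    (hE1.trans hE2)
  have npq : p ≠ q := fun e => hne (by rw [e])
  obtain ⟨w, hwp, hwa, hwb, hwp', hwq⟩ := exists_third h.hm (a := x) (b := μ x) (p := p) (q := q)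
  -- three duads
  have m1 : pr M p q ∈ Ξ := by
    refine pr_mem_of h t.pq hpq hpa hpb hqa hqb hKΞ hv hd ?_ hne
    rw [← e]; exact hf.1
  have m2 : pr M q w ∈ Ξ := by
    refine pr_mem_of h t.pq (hpq.symm.trans hwp.symm) hqa hqb hwa hwb hKΞ (pr_mem M p q) (one_mem (DD M)) ?_ ?_
    · rw [mul_one]; exact m1
    · rw [E_pr_right M hpq npq, E_pr_of_ne M hpq hwp' hwq]
      exact one_ne_zero
  have m3 : pr M p w ∈ Ξ := by
    rw [← pr_mul M hpq (hpq.symm.trans hwp.symm)]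
    exact mul_mem m1 m2
  have hgK : g ∈ K := by rw [← hNr]; exact hgN
  have hgr : g * r * g⁻¹ = r := by rw [hKr g hgK, mul_inv_cancel_right]
  have hcase : ∀ y ∈ Ξ, g * y * g⁻¹ ∈ CenX L R ∨ r * (g * y * g⁻¹) ∈ CenX L R := by
    intro y hy
    obtain ⟨a', ha', hm'⟩ := hΞm _ (conj_mem_of_normalizer (hKΞ hgK) hy)
    rcases hRK a' ha' with rfl | rfl
    · rw [one_mul] at hm'; exact Or.inl hm'
    · exact Or.inr hm'
  have hkill : ∀ p q : Pt k m, p.1 = q.1 → p ≠ q → p ≠ x → p ≠ μ x → q ≠ x → q ≠ μ x →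
      g * pr M p q * g⁻¹ ∈ CenX L R → False := fun p q e1 e2 e3 e4 e5 e6 e7 =>
    kill h t.pq e1 e2 e3 e4 e5 e6 B.toBT hLV (by decide : (1 : Fin 3) ≠ 2) hr1 hgr hrR hw0L hw0 e7
  have hrc : ∀ y ∈ V, r * (g * y * g⁻¹) = g * y * g⁻¹ * r := by
    intro y hy
    calc r * (g * y * g⁻¹) = (g * r * g⁻¹) * (g * y * g⁻¹) := by rw [hgr]
      _ = g * (r * y) * g⁻¹ := by group
      _ = g * (y * r) * g⁻¹ := by rw [h.Vcomm hrV hy]
      _ = g * y * g⁻¹ * (g * r * g⁻¹) := by group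
      _ = g * y * g⁻¹ * r := by rw [hgr]
  rcases hcase _ m1 with c1 | c1
  · exact hkill p q hpq npq hpa hpb hqa hqb c1
  rcases hcase _ m2 with c2 | c2
  · exact hkill q w (hpq.symm.trans hwp.symm) hwq.symm hqa hqb hwa hwb c2
  rcases hcase _ m3 with c3 | c3
  · exact hkill p w hwp.symm hwp'.symm hpa hpb hwa hwb c3
  -- `r ∈ C_X`
  have hrX : r ∈ CenX L R := by
    have h3 := mul_mem (mul_mem c1 c2) c3
    have h4 : r * (g * pr M p q * g⁻¹) * (r * (g * pr M q w * g⁻¹)) * (r * (g * pr M p w * g⁻¹)) = r := by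
      have h5 : pr M p q * pr M q w * pr M p w = 1 := by
        rw [pr_mul M hpq (hpq.symm.trans hwp.symm)]
        exact h.Vsq (pr_mem M p w)
      calc r * (g * pr M p q * g⁻¹) * (r * (g * pr M q w * g⁻¹)) * (r * (g * pr M p w * g⁻¹))
          = r * ((g * pr M p q * g⁻¹) * r) * (g * pr M q w * g⁻¹) * (r * (g * pr M p w * g⁻¹)) := by group
        _ = r * (r * (g * pr M p q * g⁻¹)) * (g * pr M q w * g⁻¹) * (r * (g * pr M p w * g⁻¹)) := by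
            rw [hrc _ (pr_mem M p q)]
        _ = (r * r) * (g * (pr M p q * pr M q w) * g⁻¹) * (r * (g * pr M p w * g⁻¹)) := by group
        _ = (g * (pr M p q * pr M q w) * g⁻¹ * r) * (g * pr M p w * g⁻¹) := by rw [hrr]; group
        _ = r * (g * (pr M p q * pr M q w) * g⁻¹) * (g * pr M p w * g⁻¹) := by
            rw [hrc _ (mul_mem (pr_mem M p q) (pr_mem M q w))]
        _ = r * (g * (pr M p q * pr M q w * pr M p w) * g⁻¹) := by group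
        _ = r := by rw [h5]; group
    rwa [h4] at h3
  obtain ⟨y, hy, hyR⟩ := B.toBT.trans_X_one 0 1
  have h3 : y * r * y⁻¹ = r := by rw [mem_centralizer_iff.1 hrX y hy, mul_inv_cancel_right]
  have h4 : r ∈ R 1 := by
    rw [← hyR, ← h3]
    exact conj_mem_cj hrR
  exact hr1 (B.toBT.eq_one (by decide : (0 : Fin 3) ≠ 1) hrR h4)

end thm

end Cfsg.Agent.Omega.IId.SymWrD.Ht.LEHat
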