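import Cfsg.Agent.Omega.IId.SymWrD.Ht.End
import Cfsg.Agent.Omega.IId.SymWrD.Ht.HatJ
import Cfsg.Agent.Omega.IId.SymWrD.Ht.ZVD
import Cfsg.Agent.Omega.IId.SymWrD.Ht.AlphaTwoB
import Cfsg.Agent.Omega.IId.SymWrD.Ht.AlphaA2
import Cfsg.Agent.Omega.IId.SymWrD.Ht.LEHat
import Cfsg.Agent.Omega.IId.SymWrD.SylN.OfFr
import Cfsg.Agent.Omega.HT.SylExit

/-!
# II.d, `SwCv`, T-T, `D` arbitrary: the end over `T̂` (bb OMEGA #21666, #21945, #22558 (5))

`T̂ ≥ T = C_S(n)` a Sylow 2-subgroup of `C_G(n)` normalising the line `{1, n, 10, 20}`, `|Ω₁Z(S)| ≥ 4`.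

* `zv` : `Ω₁Z(O₂(P)) ≤ V ⊔ DD M`; `sg_mul_ne` : `σ d ≠ 1`;
* `yv_three` : `YV` at `z* d`, `3 ≤ m` (helper573);
* `exists_hat` : `T̂` from any subgroup of odd index in `C_G(n)` normalising the line;
* `hsig_of`, `yv_two` : `YV` at `z* d`, `m = 2` (helper666, helper971);
* `exists_pos` : from `HTT`, `OtD`, `LE` over `T̂` and `YV` at all `z* d`: `T̂` is a Sylow 2-subgroup of `G`, and the
  position `HTwo.Entry.Pos` over it; `exists_pos'` : all inputs inserted, `D ≠ 1`.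
-/

set_option autoImplicit false
set_option linter.unusedSectionVars false

namespace Cfsg.Agent.Omega.IId.SymWrD.Ht.HatEnd

open Subgroup Cfsg Cfsg.Agent.Omega.MinPar Cfsg.Agent.Omega.FFThm
open Cfsg.Agent.ZN (o2 zc)
open Cfsg.Agent.Omega.Half (Amb amb_of_loc)
open Cfsg.Agent.Omega.Half.SymA (Pt E Mv pm)
open Cfsg.Agent.Omega.HT.LineOf (Ln ln pts dd)
open Cfsg.Agent.Omega.BTwo (BT XX WW QQ O2)
open Cfsg.Agent.Omega.HTwo.Hat (ZQ)
open Cfsg.Agent.Omega.IId.SymWrD.Ht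
open Cfsg.Agent.MinSimple.VModule (le_normalizer_o2 o2_isPGroup o2_le mem_zc zc_le)

universe u

variable {G : Type u} [Group G] [Finite G] {k m : ℕ} {S : Sylow 2 G} {P V D : Subgroup G}
  {M : SymK (S : Subgroup G) P V ⊥ k m} (h : Fr S P V D M)
include h

/-- `Ω₁Z(O₂(P)) ≤ V ⊔ DD M` -/
theorem zv : zc (o2 P) ≤ V ⊔ DD M := by
  obtain ⟨p, q, hpq, hne, -⟩ := h.par
  obtain ⟨w, hw, -, hwp⟩ := h.exists_w hpq hne
  have hT : TD S P V M := TD.of_sitD h.char2 h.toSitD ⟨p, q, hpq, hne, w, hw, hwp⟩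
  intro z hz
  obtain ⟨v, hv, d, hd, rfl, hd1, -⟩ := hT.zvD hz
  exact mul_mem_sup hv (mem_DD.2 ⟨hd, hd1⟩)

/-- `D ≤ DD M` -/
theorem D_le_DD : D ≤ DD M := fun d hd => mem_DD.2 ⟨h.DZ hd, fun g hg _ => h.cenD g hg d hd⟩

variable {μ ν : Equiv.Perm (Pt k m)} (F : Fours M μ ν) {x : Pt k m} (hx : x.2 ≠ 0)
include F hx

/-- `σ d ≠ 1` -/
theorem sg_mul_ne {d : G} (hd : d ∈ DD M) : (sg h.toSit x.1).val * d ≠ 1 := by
  intro e
  have h1 : (sg h.toSit x.1).val = 1 := by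
    refine h.eq_one_of_DD (sg_mem h.toSit x.1) ?_
    rw [eq_inv_of_mul_eq_one_left e]
    exact inv_mem hd
  have h2 := E_sg h.toSit x.1 x
  rw [h1, Half.SymA.E_one, if_pos rfl, if_neg hx] at h2
  exact zero_ne_one h2

/-- **`YV` at `z* d`, `3 ≤ m`** -/
theorem yv_three (h3 : 3 ≤ m) {d : G} (hd : d ∈ DD M) :
    HT.Main.YV (ln (h.line3 (h.tri F hx))) (pr M x (μ x)) ((sg h.toSit x.1).val * pr M x (μ x) * d) :=
  h.yv_of F hx hd fun _ hg _ hv =>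
    RD.esigD h.toSit h.char2 (zv h) h3 x.1 hd (sg_mul_ne h F hx hd) hg (h.VZ hv) (h.VZ (pr_mem M x (μ x)))

/-- `Sig` for the elements centralising the line -/
theorem hsig_of {c : G} (hs : HT.Sig (ln (h.line3 (h.tri F hx))) (pts (pr M x (μ x)) (pr M x (x.1, 0))) 0 c) {g : G}
    (hg : g * pr M x (μ x) = pr M x (μ x) * g) (hg' : g * pr M x (x.1, 0) = pr M x (x.1, 0) * g) :
    c⁻¹ * (g * c * g⁻¹) = 1 ∨ c⁻¹ * (g * c * g⁻¹) = pr M x (μ x) := by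
  have t := h.tri F hx
  have hgN : g ∈ normalizer (pts (pr M x (μ x)) (pr M x (x.1, 0)) 0 : Set G) := by
    rw [(h.line3 t).normalizer_pts 0]
    exact mem_centralizer_singleton_iff.2 hg
  have hcom : ∀ v ∈ ln (h.line3 t), g * v = v * g := by
    rintro v (rfl | ⟨i, rfl⟩)
    · rw [mul_one, one_mul]
    · fin_cases i
      · exact hg
      · exact hg'
      · change g * (pr M x (μ x) * pr M x (x.1, 0)) = pr M x (μ x) * pr M x (x.1, 0) * g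
        rw [← mul_assoc, hg, mul_assoc, hg', mul_assoc]
  have hcond : ∀ v ∈ ln (h.line3 t), g * v * g⁻¹ ∈ ln (h.line3 t) ⊔
      ZQ (pts (pr M x (μ x)) (pr M x (x.1, 0))) 0 := fun v hv => by
    rw [hcom v hv, mul_inv_cancel_right]
    exact mem_sup_left hv
  have hv0 : pr M x (x.1, 0) ∉ pts (pr M x (μ x)) (pr M x (x.1, 0)) 0 := by
    rw [(h.line3 t).mem_pts]
    rintro (e | e)
    · exact h.pr_ne t.pr t.n2 e
    · have e1 : pr M x (x.1, 0) = pr M x (μ x) := e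
      exact (h.line3 t).ne e1.symm
  have h1 := hs g hgN hcond _ ((h.line3 t).dd_mem 1) hv0
  have h2 : (pr M x (x.1, 0) * c)⁻¹ * g * (pr M x (x.1, 0) * c) * g⁻¹ = c⁻¹ * (g * c * g⁻¹) := by
    calc (pr M x (x.1, 0) * c)⁻¹ * g * (pr M x (x.1, 0) * c) * g⁻¹ =
        c⁻¹ * ((pr M x (x.1, 0))⁻¹ * (g * pr M x (x.1, 0)) * c * g⁻¹) := by group
      _ = c⁻¹ * (g * c * g⁻¹) := by rw [hg', inv_mul_cancel_left]
  have h3 : (pr M x (x.1, 0) * c)⁻¹ * g * (pr M x (x.1, 0) * c) * g⁻¹ ∈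
      pts (pr M x (μ x)) (pr M x (x.1, 0)) 0 := h1
  rw [h2, (h.line3 t).mem_pts] at h3
  exact h3

/-- **`YV` at `z* d`, `m = 2`** -/
theorem yv_two (hm2 : m = 2) {d : G} (hd : d ∈ DD M) (hdT : ∀ s ∈ tn S M μ x, s * d = d * s)
    (hs : HT.Sig (ln (h.line3 (h.tri F hx))) (pts (pr M x (μ x)) (pr M x (x.1, 0))) 0
      ((sg h.toSit x.1).val * pr M x (μ x) * d)) {e : G} (he : e ∈ DD M) (he1 : e ≠ 1) :
    HT.Main.YV (ln (h.line3 (h.tri F hx))) (pr M x (μ x)) ((sg h.toSit x.1).val * pr M x (μ x) * d) := by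
  have hO := AlphaA.o2_le_S0 (SD.of_fr h) (zv h) F hm2 hx hd
    (fun s hs hc => hdT s ⟨hs, mem_centralizer_singleton_iff.2 hc⟩) (fun g hg hg' => hsig_of h F hx hs hg hg')
  exact h.yv_of F hx hd fun g hg v hv => RB.esigD_two h.toSit h.char2 (zv h) x.1 hd (sg_mul_ne h F hx hd) hO he he1
    hg hv (pr_mem M x (μ x))

/-- **`T̂`** from a subgroup of odd index in `C_G(n)` which normalises the line -/
theorem exists_hat {T' : Subgroup G} (hT' : T' ≤ centralizer ({pr M x (μ x)} : Set G))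
    (hodd : ¬ 2 ∣ T'.relIndex (centralizer ({pr M x (μ x)} : Set G)))
    (ht : ∀ t ∈ T', t * pr M x (x.1, 0) * t⁻¹ = pr M x (x.1, 0) ∨
      t * pr M x (x.1, 0) * t⁻¹ = pr M x (x.1, 0) * pr M x (μ x)) :
    ∃ T : Subgroup G, tn S M μ x ≤ T ∧ IsPGroup 2 T ∧ T ≤ normalizer (ln (h.line3 (h.tri F hx)) : Set G) ∧
      T ≤ centralizer ({pr M x (μ x)} : Set G) ∧ ¬ 2 ∣ T.relIndex (centralizer ({pr M x (μ x)} : Set G)) := by
  have t3 := h.tri F hx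
  have h1 : T' ≤ centralizer ({pr M x (μ x)} : Set G) ⊓ normalizer (ln (h.line3 t3) : Set G) := by
    refine le_inf hT' fun t htT => BTwo.mem_normalizer_of_conj ?_
    have e0 : t * pr M x (μ x) * t⁻¹ = pr M x (μ x) := by
      rw [mem_centralizer_singleton_iff.1 (hT' htT), mul_inv_cancel_right]
    have aa := (h.line3 t3).aa
    have m0 : pr M x (μ x) ∈ ln (h.line3 t3) := (h.line3 t3).dd_mem 0
    have m1 : pr M x (x.1, 0) ∈ ln (h.line3 t3) := (h.line3 t3).dd_mem 1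
    have e1 : t * pr M x (x.1, 0) * t⁻¹ ∈ ln (h.line3 t3) := by
      rcases ht t htT with e | e
      · rw [e]; exact m1
      · rw [e]; exact mul_mem m1 m0
    rintro y (rfl | ⟨i, rfl⟩)
    · rw [mul_one, mul_inv_cancel]; exact one_mem _
    · fin_cases i
      · change t * pr M x (μ x) * t⁻¹ ∈ _
        rw [e0]; exact m0
      · exact e1
      · change t * (pr M x (μ x) * pr M x (x.1, 0)) * t⁻¹ ∈ _
        have e2 : t * (pr M x (μ x) * pr M x (x.1, 0)) * t⁻¹ =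
            (t * pr M x (μ x) * t⁻¹) * (t * pr M x (x.1, 0) * t⁻¹) := by group
        rw [e2, e0]
        exact mul_mem m0 e1
  obtain ⟨T, hT1, hT2, hT3, hT4⟩ := HT.exists_syl (S := tn S M μ x)
    (P := centralizer ({pr M x (μ x)} : Set G) ⊓ normalizer (ln (h.line3 t3) : Set G)) Fr.tn_p
    (le_inf inf_le_right (h.tn_norm F hx))
  refine ⟨T, hT1, hT3, hT2.trans inf_le_right, hT2.trans inf_le_left, fun hd => ?_⟩
  rw [← relIndex_mul_relIndex _ _ _ hT2 inf_le_left] at hd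
  rcases (Nat.Prime.dvd_mul Nat.prime_two).1 hd with h2 | h2
  · exact hT4 h2
  · apply hodd
    rw [← relIndex_mul_relIndex _ _ _ h1 inf_le_left]
    exact h2.mul_left _

/-- **The end over `T̂`.** -/
theorem exists_pos {T : Subgroup G} (hTT : tn S M μ x ≤ T)
    (b : HT.HTT T (T ⊔ h.X3 (h.tri F hx)) (ln (h.line3 (h.tri F hx))) (pts (pr M x (μ x)) (pr M x (x.1, 0))) 0)
    (h1 : HT.OtCore.OtD T (ln (h.line3 (h.tri F hx))) (XX (ln (h.line3 (h.tri F hx)))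
      (pts (pr M x (μ x)) (pr M x (x.1, 0)))) (pr M x (μ x)))
    (hLE : ∀ i, HTwo.ThmA.LE (ln (h.line3 (h.tri F hx))) (pts (pr M x (μ x)) (pr M x (x.1, 0))) i)
    (hy : ∀ d ∈ DD M, (∀ s ∈ tn S M μ x, s * d = d * s) →
      HT.Sig (ln (h.line3 (h.tri F hx))) (pts (pr M x (μ x)) (pr M x (x.1, 0))) 0
        ((sg h.toSit x.1).val * pr M x (μ x) * d) →
      HT.Main.YV (ln (h.line3 (h.tri F hx))) (pr M x (μ x)) ((sg h.toSit x.1).val * pr M x (μ x) * d))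
    (h4 : 4 ≤ Nat.card (zc (S : Subgroup G))) :
    ∃ S' : Sylow 2 G, (S' : Subgroup G) = T ∧ ∃ (P' V' : Subgroup G) (κ : Type u) (R' : κ → Subgroup G) (o' : κ)
      (r z : G), HTwo.Entry.Pos S' P' V' R' o' r z := by
  have hr : ∀ y, y ∈ pts (pr M x (μ x)) (pr M x (x.1, 0)) 0 ↔ y = 1 ∨ y = pr M x (μ x) := fun _ =>
    (h.line3 (h.tri F hx)).mem_pts
  have h0 := HT.EndCore.main b hLE hr h1 fun _ c hc hs => by
    obtain ⟨d, hd, hdT, e⟩ := h.sig_eq F hx (zv h) (h.Z0_le F hx hTT hc) hs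
    have hc1 : c ≠ 1 := by rw [e]; exact h.zst_ne' F hx hd
    refine ⟨c, hc, hc1, Or.inr rfl, ?_⟩
    exact HT.AlphaY.not_alpha b hr hLE hc hc1 (HT.Main.gsys_of_core b hr hc hc1 (HT.EndCore.core b hr h1 hc))
      (by rw [e]; exact hy d hd hdT (by rw [← e]; exact hs))
  obtain ⟨S', hS'⟩ := HT.SylExit.exists_sylow b h0 S h4
  refine ⟨S', hS', ?_⟩
  subst hS'
  obtain ⟨κ, R', o', r, z, hp⟩ := HT.SylExit.exists_pos.{u, 0, u} b S h4
  exact ⟨_, _, κ, R', o', r, z, hp⟩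

/-- **The end over `T̂`**, `D ≠ 1`. -/
theorem exists_pos' (hD : D ≠ ⊥) (hk : 2 ≤ k ∨ 3 ≤ m) (h4 : 4 ≤ Nat.card (zc (S : Subgroup G))) {T : Subgroup G}
    (hTT : tn S M μ x ≤ T) (hTp : IsPGroup 2 T) (hTN : T ≤ normalizer (ln (h.line3 (h.tri F hx)) : Set G))
    (hTa : T ≤ centralizer ({pr M x (μ x)} : Set G))
    (syl : ¬ 2 ∣ T.relIndex (centralizer ({pr M x (μ x)} : Set G))) :
    ∃ S' : Sylow 2 G, (S' : Subgroup G) = T ∧ ∃ (P' V' : Subgroup G) (κ : Type u) (R' : κ → Subgroup G) (o' : κ)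
      (r z : G), HTwo.Entry.Pos S' P' V' R' o' r z := by
  obtain ⟨⟨e, he⟩, he1⟩ := Subgroup.ne_bot_iff_exists_ne_one.1 hD
  have he1' : e ≠ 1 := fun h0 => he1 (Subtype.ext h0)
  refine exists_pos h F hx hTT (h.httT F hx hTT (zv h) hTp hTN hTa syl) (h.otD F hx hTT (zv h) hTp hTN hTa syl)
    (fun j => LEHat.le_hat h F hx (zv h) hk hTT hTp hTN hTa syl j) (fun d hd hdT hs => ?_) h4
  rcases Nat.lt_or_ge 2 m with h3 | h3
  · exact yv_three h F hx h3 hd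
  · exact yv_two h F hx (le_antisymm h3 h.hm) hd hdT hs (D_le_DD h he) he1'

end Cfsg.Agent.Omega.IId.SymWrD.Ht.HatEnd
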