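import Cfsg.Agent.Omega.IId.SymWrD.Ht.AlphaC

/-!
# II.d, `SwCv`, T-T: `O₂(C_G(σ_i d)) ≤ S0`, `m = 2` (bb OMEGA #22419, helper666)

`i = x.1`, `d ∈ DD M` commuting with the elements of `S` fixing the summand `i`; `y = σ_i d`, `O = O₂(C_G(y))`.
-/

set_option autoImplicit false
set_option linter.unusedSectionVars false

namespace Cfsg.Agent.Omega.IId.SymWrD.AlphaA

open Subgroup Pointwise Cfsg Cfsg.Agent.Omega.MinPar Cfsg.Agent.Omega.FFThm
open Cfsg.Agent.ZN (o2 zc)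
open Cfsg.Agent.Omega.IId.SwB (S0 mem_S0 S0_le S0_fst S0_comm Q_le_S0 syl_S0 exists_in)
open Cfsg.Agent.Omega.IId.SymWrD.Ht (DD mem_DD)
open Cfsg.Agent.Omega.Half.SymA (Pt E Mv pm Amb0)
open Cfsg.Agent.MinSimple.VModule (mem_zc zc_le le_normalizer_o2 o2_isPGroup o2_le)
open Triangle (KK KK_conj KK_le_o2 mem_cent mem_KK mem_zpowers_iff_of_sq cent_conj o2_cent_conj)
open Big (cz qz conj_mem norm_of conj_of_comm comm_of_conj le_o2_of)

universe u

variable {G : Type u} [Group G] {P V : Subgroup G} {k m : ℕ} {S : Sylow 2 G} {M : SymK (S : Subgroup G) P V ⊥ k m}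

section letters

variable {μ ν : Equiv.Perm (Pt k m)}

/-- `m = 2`: the letters `≠ 0` of the summand of `c` -/
theorem letters (F : Fours M μ ν) (hm2 : m = 2) {c r : Pt k m} (hc : c.2 ≠ 0) (hr : r.1 = c.1) (hr0 : r.2 ≠ 0) :
    r = c ∨ r = μ c ∨ r = ν c ∨ r = μ (ν c) := by
  classical
  by_contra hcon
  push Not at hcon
  obtain ⟨h1, h2, h3, h4⟩ := hcon
  have hν0 : (ν c).2 ≠ 0 := fun e => hc (F.nnz.1 e)
  have hμ0 : (μ c).2 ≠ 0 := fun e => hc (F.mnz.1 e)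
  have hμν0 : (μ (ν c)).2 ≠ 0 := fun e => hν0 (F.mnz.1 e)
  have n1 : μ c ≠ c := F.mne c hc
  have n2 : ν c ≠ c := F.nne c hc
  have n3 : ν c ≠ μ c := F.nmu c hc
  have n4 : μ (ν c) ≠ c := fun e => n3 (by conv_rhs => rw [← e]
                                           rw [F.msq])
  have n5 : μ (ν c) ≠ μ c := fun e => n2 (μ.injective e)
  have n6 : μ (ν c) ≠ ν c := F.mne _ hν0
  have key : ({(c.1, 0), c, μ c, ν c, μ (ν c), r} : Finset (Pt k m)).card ≤
      ((Finset.univ : Finset (Fin (2 ^ m + 1))).image (fun y => ((c.1, y) : Pt k m))).card := by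
    refine Finset.card_le_card fun p hp => ?_
    refine Finset.mem_image.2 ⟨p.2, Finset.mem_univ _, Prod.ext ?_ rfl⟩
    simp only [Finset.mem_insert, Finset.mem_singleton] at hp
    rcases hp with e | e | e | e | e | e
    · rw [e]
    · rw [e]
    · rw [e, F.mfst]
    · rw [e, F.nfst]
    · rw [e, F.mfst, F.nfst]
    · rw [e, hr]
  rw [Finset.card_image_of_injective _ (fun a b hab => (Prod.mk.inj hab).2), Finset.card_univ, Fintype.card_fin] at key
  have hz : ∀ {p : Pt k m}, p.2 ≠ 0 → ((c.1, 0) : Pt k m) ≠ p := fun hp e => hp (by rw [← e])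
  rw [Finset.card_insert_of_notMem, Finset.card_insert_of_notMem, Finset.card_insert_of_notMem,
    Finset.card_insert_of_notMem, Finset.card_insert_of_notMem, Finset.card_singleton] at key
  · rw [hm2] at key
    omega
  · rw [Finset.mem_singleton]; exact fun e => h4 e.symm
  · simp only [Finset.mem_insert, Finset.mem_singleton, not_or]
    exact ⟨n6.symm, fun e => h3 e.symm⟩
  · simp only [Finset.mem_insert, Finset.mem_singleton, not_or]
    exact ⟨n3.symm, n5.symm, fun e => h2 e.symm⟩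
  · simp only [Finset.mem_insert, Finset.mem_singleton, not_or]
    exact ⟨n1.symm, n2.symm, n4.symm, fun e => h1 e.symm⟩
  · simp only [Finset.mem_insert, Finset.mem_singleton, not_or]
    exact ⟨hz hc, hz hμ0, hz hν0, hz hμν0, hz hr0⟩

/-- `m = 2`: `σ_l` is the product of the two duads -/
theorem sg_eq (h : Sit S P V M) (F : Fours M μ ν) (hm2 : m = 2) {c : Pt k m} (hc : c.2 ≠ 0) :
    (sg h c.1).val = pr M c (μ c) * pr M (ν c) (μ (ν c)) := by
  classical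
  have hν0 : (ν c).2 ≠ 0 := fun e => hc (F.nnz.1 e)
  have hμ0 : (μ c).2 ≠ 0 := fun e => hc (F.mnz.1 e)
  have hμν0 : (μ (ν c)).2 ≠ 0 := fun e => hν0 (F.mnz.1 e)
  have n1 : μ c ≠ c := F.mne c hc
  have n2 : ν c ≠ c := F.nne c hc
  have n3 : ν c ≠ μ c := F.nmu c hc
  have n4 : μ (ν c) ≠ c := fun e => n3 (by conv_rhs => rw [← e]
                                           rw [F.msq])
  have n5 : μ (ν c) ≠ μ c := fun e => n2 (μ.injective e)
  have n6 : μ (ν c) ≠ ν c := F.mne _ hν0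
  refine Half.SymA.inj M (sg_mem h c.1) (mul_mem (pr_mem M _ _) (pr_mem M _ _)) fun p => ?_
  rw [Half.SymA.E_mul M (pr_mem M _ _) (pr_mem M _ _), E_sg, E_pr M (F.mfst c).symm, E_pr M (F.mfst (ν c)).symm]
  by_cases hp : p.1 = c.1
  · rw [if_pos hp]
    by_cases h0 : p.2 = 0
    · rw [if_pos h0, if_neg (fun e => hc (by rw [← e, h0])), if_neg (fun e => hμ0 (by rw [← e, h0])),
        if_neg (fun e => hν0 (by rw [← e, h0])), if_neg (fun e => hμν0 (by rw [← e, h0]))]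
      decide
    · rw [if_neg h0]
      rcases letters F hm2 hc hp h0 with e | e | e | e
      · rw [e, if_pos rfl, if_neg n1.symm, if_neg n2.symm, if_neg n4.symm]; decide
      · rw [e, if_neg n1, if_pos rfl, if_neg n3.symm, if_neg n5.symm]; decide
      · rw [e, if_neg n2, if_neg n3, if_pos rfl, if_neg n6.symm]; decide
      · rw [e, if_neg n4, if_neg n5, if_neg n6, if_pos rfl]; decide
  · rw [if_neg hp, if_neg (fun e => hp (by rw [e])), if_neg (fun e => hp (by rw [e, F.mfst])),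
      if_neg (fun e => hp (by rw [e, F.nfst])), if_neg (fun e => hp (by rw [e, F.mfst, F.nfst]))]
    decide

end letters

section main

variable [Finite G] (h : SD S P V M) (zv : zc (o2 P) ≤ V ⊔ DD M) {μ ν : Equiv.Perm (Pt k m)} (F : Fours M μ ν)
  (hm2 : m = 2) {x : Pt k m} (hx : x.2 ≠ 0) {d : G} (hd : d ∈ DD M)

include h hd

/-- the elements of `P` in the summands commuting with `σ` normalise `O` -/
theorem hn : ∀ g ∈ P, (∀ p, (pp M g p).1 = p.1) → g * (sg h.toSit x.1).val = (sg h.toSit x.1).val * g →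
    g ∈ normalizer (qz ((sg h.toSit x.1).val * d) : Set G) := fun g hg hg1 hg2 =>
  le_normalizer_o2 _ (Ht.RD.mem_K h.toSit hd hg hg1 hg2)

theorem act_out' {u : G} (hu : u ∈ qz ((sg h.toSit x.1).val * d)) (hu0 : u ∈ S0 h.toSit) {p : Pt k m}
    (hp : p.1 ≠ x.1) : pp M u p = p :=
  Ht.RD.act_out h.toSit (E_sg h.toSit x.1) (o2_isPGroup _) (sg_mem h.toSit x.1) (hn h hd) hu hu0 hp

theorem act_one' {u : G} (hu : u ∈ qz ((sg h.toSit x.1).val * d)) (hu0 : u ∈ S0 h.toSit) {a : Pt k m}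
    (ha : a.1 = x.1) (ha0 : a.2 ≠ 0) (h1 : pp M u a = a) : pp M u = 1 :=
  Ht.RD.act_one h.toSit (E_sg h.toSit x.1) (o2_isPGroup _) (sg_mem h.toSit x.1) (hn h hd) hu hu0 ha ha0 h1

theorem S0_le_K : S0 h.toSit ≤ cz ((sg h.toSit x.1).val * d) := fun _ hs =>
  Ht.RD.mem_K h.toSit hd (h.SP (S0_le h.toSit hs)) (S0_fst h.toSit hs) (S0_comm h.toSit hs x.1)

include zv in
/-- `O ∩ C(σ) ≤ S0` -/
theorem hOC : qz ((sg h.toSit x.1).val * d) ⊓ cz (sg h.toSit x.1).val ≤ S0 h.toSit := by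
  refine Ht.RD.lemR_b h.toSit zv x.1 ((o2_isPGroup _).to_le inf_le_left) ?_
    (fun y hy hy0 p hp => act_out' h hd hy.1 hy0 hp) fun y hy => mem_centralizer_singleton_iff.1 hy.2
  apply norm_of
  rintro s hs y ⟨hy1, hy2⟩
  have h1 : s ∈ cz (sg h.toSit x.1).val := mem_centralizer_singleton_iff.2 (S0_comm h.toSit hs x.1)
  exact ⟨conj_mem (le_normalizer_o2 _) (S0_le_K h hd hs) hy1, (cz _).mul_mem ((cz _).mul_mem h1 hy2) ((cz _).inv_mem h1)⟩

/-- the element `w` -/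
theorem exists_w (hO : ¬ qz ((sg h.toSit x.1).val * d) ≤ S0 h.toSit) : ∃ w ∈ qz ((sg h.toSit x.1).val * d),
    w ∉ S0 h.toSit ∧ (∀ s ∈ S0 h.toSit, w * s * w⁻¹ ∈ S0 h.toSit) ∧ ∀ s ∈ S0 h.toSit, w⁻¹ * s * w ∈ S0 h.toSit := by
  have : Fact (Nat.Prime 2) := ⟨Nat.prime_two⟩
  have hnn : S0 h.toSit ≤ normalizer (qz ((sg h.toSit x.1).val * d) : Set G) :=
    (S0_le_K h hd).trans (le_normalizer_o2 _)
  have hS02 : IsPGroup 2 (S0 h.toSit) := S.isPGroup'.to_le (S0_le h.toSit)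
  have hX : IsPGroup 2 (S0 h.toSit ⊔ qz ((sg h.toSit x.1).val * d) : Subgroup G) :=
    hS02.to_sup_of_normal_right' (o2_isPGroup _) hnn
  have hlt : S0 h.toSit < S0 h.toSit ⊔ qz ((sg h.toSit x.1).val * d) := by
    refine lt_of_le_of_ne le_sup_left fun h3 => hO ?_
    rw [h3]
    exact le_sup_right
  obtain ⟨y, hy, hy1, hy2⟩ := Involutions.BaerSuzuki.exists_mem_normalizer_of_lt hX hlt
  obtain ⟨s₀, hs₀, w, hw, rfl⟩ := mem_sup_norm hnn hy
  have hwn : w ∈ normalizer (S0 h.toSit : Set G) := by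
    have h3 : w = s₀⁻¹ * (s₀ * w) := by group
    rw [h3]
    exact mul_mem (inv_mem (le_normalizer hs₀)) hy2
  refine ⟨w, hw, fun h3 => hy1 (mul_mem hs₀ h3), fun s hs => (mem_normalizer_iff.1 hwn s).1 hs, fun s hs => ?_⟩
  have := (mem_normalizer_iff.1 (inv_mem hwn) s).1 hs
  rwa [inv_inv] at this

section w

variable {w : G} (hwO : w ∈ qz ((sg h.toSit x.1).val * d)) (hw1 : ∀ s ∈ S0 h.toSit, w * s * w⁻¹ ∈ S0 h.toSit)
  (hw2 : ∀ s ∈ S0 h.toSit, w⁻¹ * s * w ∈ S0 h.toSit)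

include hwO hw2 in
/-- `[w, S0] ≤ O ∩ S0` -/
theorem comm_O {s : G} (hs : s ∈ S0 h.toSit) : s⁻¹ * (w⁻¹ * s * w) ∈ qz ((sg h.toSit x.1).val * d) ∧
    s⁻¹ * (w⁻¹ * s * w) ∈ S0 h.toSit := by
  refine ⟨?_, mul_mem (inv_mem hs) (hw2 s hs)⟩
  have h1 := conj_mem (le_normalizer_o2 _) (inv_mem (S0_le_K h hd hs)) (inv_mem hwO)
  rw [inv_inv] at h1
  have e : s⁻¹ * (w⁻¹ * s * w) = s⁻¹ * w⁻¹ * s * w := by group
  rw [e]
  exact mul_mem h1 hwO

include hwO hw2 in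
theorem act_w {s : G} (hs : s ∈ S0 h.toSit) {p : Pt k m} (hp : p.1 ≠ x.1) : pp M (w⁻¹ * s * w) p = pp M s p := by
  obtain ⟨h1, h2⟩ := comm_O h hd hwO hw2 hs
  have e : w⁻¹ * s * w = s * (s⁻¹ * (w⁻¹ * s * w)) := by group
  rw [e, h.mul (h.SP (S0_le h.toSit hs)) (h.SP (S0_le h.toSit h2)), Equiv.Perm.mul_apply, act_out' h hd h1 h2 hp]

include hwO hw2 zv F in
/-- `w` centralises the duads outside of the summand `x.1` -/
theorem duad {c : Pt k m} (hc : c.2 ≠ 0) (hcx : c.1 ≠ x.1) : w * pr M c (μ c) = pr M c (μ c) * w :=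
  coreDuad h.toSit zv F (J := {x.1}) (fun s hs => ⟨hw2 s hs, fun _ hp => act_w h hd hwO hw2 hs hp⟩) hc hcx

include zv F hm2 hwO hw2 hx in
/-- some `o ∈ O ∩ S0` maps `n` to `σ n` -/
theorem exists_o (hwσ : w * (sg h.toSit x.1).val ≠ (sg h.toSit x.1).val * w) :
    ∃ o ∈ qz ((sg h.toSit x.1).val * d), o ∈ S0 h.toSit ∧
      o * pr M x (μ x) * o⁻¹ = (sg h.toSit x.1).val * pr M x (μ x) := by
  classical
  have hν0 : (ν x).2 ≠ 0 := fun e => hx (F.nnz.1 e)
  have hμ0 : (μ x).2 ≠ 0 := fun e => hx (F.mnz.1 e)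
  have n1 : μ x ≠ x := F.mne x hx
  have n2 : ν x ≠ x := F.nne x hx
  have n3 : ν x ≠ μ x := F.nmu x hx
  -- a nontrivial element
  obtain ⟨u, hu, hu0, hu1⟩ : ∃ u ∈ qz ((sg h.toSit x.1).val * d), u ∈ S0 h.toSit ∧ pp M u ≠ 1 := by
    by_contra hcon
    push Not at hcon
    apply hwσ
    have key : ∀ {c : Pt k m}, c.2 ≠ 0 → w * pr M c (μ c) = pr M c (μ c) * w := fun {c} hc => by
      refine coreDuad h.toSit zv F (J := ∅) (fun s hs => ⟨hw2 s hs, fun p _ => ?_⟩) hc (Set.notMem_empty _)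
      obtain ⟨h1, h2⟩ := comm_O h hd hwO hw2 hs
      have e : w⁻¹ * s * w = s * (s⁻¹ * (w⁻¹ * s * w)) := by group
      rw [e, h.mul (h.SP (S0_le h.toSit hs)) (h.SP (S0_le h.toSit h2)), hcon _ h1 h2, mul_one]
    rw [sg_eq h.toSit F hm2 hx]
    calc w * (pr M x (μ x) * pr M (ν x) (μ (ν x))) = w * pr M x (μ x) * pr M (ν x) (μ (ν x)) := by group
      _ = pr M x (μ x) * (w * pr M (ν x) (μ (ν x))) := by rw [key hx]; group
      _ = pr M x (μ x) * pr M (ν x) (μ (ν x)) * w := by rw [key hν0]; group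
  have hmv : ∀ a : Pt k m, a.1 = x.1 → a.2 ≠ 0 → pp M u a ≠ a := fun a ha ha0 e =>
    hu1 (act_one' h hd hu hu0 ha ha0 e)
  -- an element with `x ↦ ν x` or `μ (ν x)`
  obtain ⟨o, ho, ho0, hox⟩ : ∃ o ∈ qz ((sg h.toSit x.1).val * d), o ∈ S0 h.toSit ∧
      (pp M o x = ν x ∨ pp M o x = μ (ν x)) := by
    have h1 : (pp M u x).1 = x.1 := S0_fst h.toSit hu0 x
    have h2 : (pp M u x).2 ≠ 0 := fun e => hx ((h.snd (S0_le h.toSit hu0)).1 e)
    rcases letters F hm2 hx h1 h2 with e | e | e | e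
    · exact absurd e (hmv x rfl hx)
    · -- conjugate with `(μ x ν x)`
      obtain ⟨g, hg, hgp⟩ := Ht.RD.exists_swapP h.toSit (a := μ x) (b := ν x) ((F.mfst x).trans (F.nfst x).symm)
      have hgf : ∀ p, (pp M g p).1 = p.1 := fun p => by
        rw [hgp]; exact swap_fst' h.toSit ((F.mfst x).trans (F.nfst x).symm) p
      have hgσ : g * (sg h.toSit x.1).val = (sg h.toSit x.1).val * g := by
        refine comm_swap h.toSit hg hgp (sg_mem h.toSit x.1) ?_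
        rw [E_sg, E_sg, if_pos (F.mfst x), if_pos (F.nfst x), if_neg hμ0, if_neg hν0]
      have hgK := Ht.RD.mem_K h.toSit hd hg hgf hgσ
      have huP := h.SP (S0_le h.toSit hu0)
      refine ⟨g * u * g⁻¹, conj_mem (le_normalizer_o2 _) hgK hu, ?_, Or.inl ?_⟩
      · refine hOC h zv hd ⟨conj_mem (le_normalizer_o2 _) hgK hu, mem_centralizer_singleton_iff.2 ?_⟩
        have h3 := S0_comm h.toSit hu0 x.1
        calc g * u * g⁻¹ * (sg h.toSit x.1).val = g * u * (g⁻¹ * ((sg h.toSit x.1).val * g)) * g⁻¹ := by group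
          _ = g * (u * (sg h.toSit x.1).val) * g⁻¹ := by rw [← hgσ]; group
          _ = (g * (sg h.toSit x.1).val) * u * g⁻¹ := by rw [h3]; group
          _ = (sg h.toSit x.1).val * (g * u * g⁻¹) := by rw [hgσ]; group
      · rw [h.conj hg huP, hgp, Equiv.swap_inv, Equiv.Perm.mul_apply, Equiv.Perm.mul_apply,
          Equiv.swap_apply_of_ne_of_ne n1.symm n2.symm, e, Equiv.swap_apply_left]
    · exact ⟨u, hu, hu0, Or.inl e⟩
    · exact ⟨u, hu, hu0, Or.inr e⟩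
  refine ⟨o, ho, ho0, ?_⟩
  have hoS := S0_le h.toSit ho0
  rw [h.conj_pr (h.SP hoS) (F.mfst x).symm, F.meqv o hoS, sg_eq h.toSit F hm2 hx]
  have e1 : pr M x (μ x) * pr M (ν x) (μ (ν x)) * pr M x (μ x) = pr M (ν x) (μ (ν x)) := by
    rw [h.Vcomm (pr_mem M x (μ x)) (pr_mem M (ν x) (μ (ν x))), mul_assoc, h.pr_sq, mul_one]
  rw [e1]
  rcases hox with e | e
  · rw [e]
  · rw [e, F.msq, pr_comm M ((F.mfst (ν x)))]

end w

end main

end Cfsg.Agent.Omega.IId.SymWrD.AlphaA
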