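import Cfsg.Agent.Omega.IId.SymWrD.Ht.Alpha
import Cfsg.Agent.Omega.IId.SymWrD.SylN.OfFr

/-!
# II.d, `SwCv`, T-T: tools for `O₂(C_G(σ_i d)) ≤ S0`, `m = 2` (bb OMEGA #22419)

* `swap_zz` : the action on `Ω₁Z(O₂(P))` of an element inducing a transposition;
* `coreDuad` : `w` normalising `S0` and acting trivially on it outside `J` centralises the duads `{c, μ c}`, `c ∉ J`;
* `SD.c2` : `y ∈ Q ∩ O₂(C_G(r))`, `[y, Q] = ⟨a⟩`, `r ∈ Ω₁Z(Q_p)` ⟹ `K_p` centralises `a`;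
* `SD.DD_zc` : `DD M ≤ Ω₁Z(Q_p)`.
-/

set_option autoImplicit false
set_option linter.unusedSectionVars false

namespace Cfsg.Agent.Omega.IId.SymWrD.AlphaA

open Subgroup Pointwise Cfsg Cfsg.Agent.Omega.MinPar Cfsg.Agent.Omega.FFThm
open Cfsg.Agent.ZN (o2 zc)
open Cfsg.Agent.Omega.IId.SwB (S0 mem_S0 S0_le S0_fst S0_comm Q_le_S0 syl_S0 exists_in)
open Cfsg.Agent.Omega.IId.SymWrD.Ht (DD mem_DD)
open Cfsg.Agent.Omega.Half.SymA (Pt E Mv pm Amb0)
open Cfsg.Agent.MinSimple.VModule (mem_zc zc_le le_normalizer_o2 o2_isPGroup o2_le)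
open Triangle (KK KK_conj KK_le_o2 mem_cent mem_KK mem_zpowers_iff_of_sq cent_conj o2_cent_conj)
open Big (cz qz conj_mem norm_of conj_of_comm comm_of_conj le_o2_of)

universe u

variable {G : Type u} [Group G] {P V : Subgroup G} {k m : ℕ} {S : Sylow 2 G} {M : SymK (S : Subgroup G) P V ⊥ k m}

section sit

variable (h : Sit S P V M)
include h

/-- an element of `S0` acting as `(c μ(c))` -/
theorem exists_tau [Finite G] {μ ν : Equiv.Perm (Pt k m)} (F : Fours M μ ν) (c : Pt k m) :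
    ∃ s ∈ S0 h, pp M s = Equiv.swap c (μ c) := by
  have hmem : Equiv.swap c (μ c) ∈ F.FA := by
    intro y
    by_cases h1 : y = c
    · rw [h1, Equiv.swap_apply_left]; exact Or.inr rfl
    by_cases h2 : y = μ c
    · rw [h2, Equiv.swap_apply_right, F.msq]; exact Or.inr rfl
    · rw [Equiv.swap_apply_of_ne_of_ne h1 h2]; exact Or.inl rfl
  obtain ⟨s, hs, e⟩ := Fours.exists_A h F hmem
  refine ⟨s, (mem_S0 h).2 ⟨hs.1, fun r => ?_⟩, e⟩
  rw [e]
  by_cases h1 : r = c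
  · rw [h1, Equiv.swap_apply_left, F.mfst]
  by_cases h2 : r = μ c
  · rw [h2, Equiv.swap_apply_right, F.mfst]
  · rw [Equiv.swap_apply_of_ne_of_ne h1 h2]

theorem mem_zc_of {z : G} (hz : z * z = 1) (hQ : ∀ y ∈ o2 P, y * z = z * y) : z ∈ zc (o2 P) :=
  mem_zc.2 ⟨h.cQ (mem_centralizer_iff.2 hQ), hQ, by rw [pow_two]; exact hz⟩

/-- the action of an element inducing `(p q)` on `V` -/
theorem conj_swap {g : G} (hgP : g ∈ P) {p q : Pt k m} (hpq : p.1 = q.1) (hg : pp M g = Equiv.swap p q) {v : G}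
    (hv : v ∈ V) (hE : E M v p ≠ E M v q) : g * v * g⁻¹ = v * pr M p q := by
  refine Half.SymA.inj M (h.amb.conj_mem hgP hv) (mul_mem hv (pr_mem M _ _)) fun r => ?_
  have hne : p ≠ q := fun e => hE (by rw [e])
  rw [E_conj' hgP hv, Half.SymA.E_mul M hv (pr_mem M _ _), E_pr M hpq, hg, Equiv.swap_inv]
  have key : ∀ x y : ZMod 2, x ≠ y → y = x + 1 := by decide
  by_cases e1 : r = p
  · rw [e1, Equiv.swap_apply_left, if_pos rfl, if_neg hne, add_zero]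
    exact key _ _ hE
  by_cases e2 : r = q
  · rw [e2, Equiv.swap_apply_right, if_pos rfl, if_neg hne.symm, zero_add]
    exact key _ _ hE.symm
  · rw [Equiv.swap_apply_of_ne_of_ne e1 e2, if_neg e1, if_neg e2, add_zero, add_zero]

theorem comm_swap {g : G} (hgP : g ∈ P) {p q : Pt k m} (hg : pp M g = Equiv.swap p q) {v : G}
    (hv : v ∈ V) (hE : E M v p = E M v q) : g * v = v * g := by
  rw [h.comm_iff hgP hv]
  intro r
  rw [hg]
  by_cases e1 : r = p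
  · rw [e1, Equiv.swap_apply_left, hE]
  by_cases e2 : r = q
  · rw [e2, Equiv.swap_apply_right, hE]
  · rw [Equiv.swap_apply_of_ne_of_ne e1 e2]

theorem swap_fst' {p q : Pt k m} (hpq : p.1 = q.1) (r : Pt k m) : (Equiv.swap p q r).1 = r.1 := by
  by_cases h1 : r = p
  · rw [h1, Equiv.swap_apply_left, hpq]
  by_cases h2 : r = q
  · rw [h2, Equiv.swap_apply_right, hpq]
  · rw [Equiv.swap_apply_of_ne_of_ne h1 h2]

/-- the action on `ZZ` of an element inducing `(p q)` -/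
theorem swap_zz (zv : zc (o2 P) ≤ V ⊔ DD M) {g : G} (hgP : g ∈ P) {p q : Pt k m} (hpq : p.1 = q.1)
    (hg : pp M g = Equiv.swap p q) {z : G} (hz : z ∈ zc (o2 P)) : g * z * g⁻¹ = z ∨ g * z * g⁻¹ = z * pr M p q := by
  obtain ⟨v, hv, d, hd, rfl⟩ := Ht.RD.zz_dec' h (zv hz)
  have hgd : g * d * g⁻¹ = d := by
    rw [(mem_DD.1 hd).2 g hgP fun r => ?_, mul_inv_cancel_right]
    rw [hg]; exact swap_fst' h hpq r
  have e : g * (v * d) * g⁻¹ = g * v * g⁻¹ * d := by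
    calc g * (v * d) * g⁻¹ = g * v * g⁻¹ * (g * d * g⁻¹) := by group
      _ = g * v * g⁻¹ * d := by rw [hgd]
  rw [e]
  by_cases hE : E M v p = E M v q
  · left
    rw [comm_swap h hgP hg hv hE, mul_inv_cancel_right]
  · right
    rw [conj_swap h hgP hpq hg hv hE, mul_assoc, mul_assoc,
      Sit.zz_comm (h.VZ (pr_mem M p q)) (mem_DD.1 hd).1]

/-- the centraliser of the duads -/
theorem coreDuad [Finite G] (zv : zc (o2 P) ≤ V ⊔ DD M) {μ ν : Equiv.Perm (Pt k m)} (F : Fours M μ ν)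
    {J : Set (Fin k)} {w : G}
    (hw2 : ∀ s ∈ S0 h, w⁻¹ * s * w ∈ S0 h ∧ ∀ p : Pt k m, p.1 ∉ J → pp M (w⁻¹ * s * w) p = pp M s p) {c : Pt k m}
    (hc : c.2 ≠ 0) (hcJ : c.1 ∉ J) : w * pr M c (μ c) = pr M c (μ c) * w := by
  have hμ := F.mfst c
  have hμne := F.mne c hc
  have hμ0 : (μ c).2 ≠ 0 := fun e => hc (F.mnz.1 e)
  obtain ⟨τ, hτ, hτp⟩ := exists_tau h F c
  have hτP := h.SP (S0_le h hτ)
  obtain ⟨v, hv⟩ : ∃ v, v = pr M (c.1, 0) c := ⟨_, rfl⟩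
  have hvV : v ∈ V := by rw [hv]; exact pr_mem M _ _
  have hc0 : ((c.1, 0) : Pt k m) ≠ c := fun e => hc (by rw [← e])
  have hc0' : ((c.1, 0) : Pt k m) ≠ μ c := fun e => hμ0 (by rw [← e])
  have hpc : ((c.1, 0) : Pt k m).1 = c.1 := rfl
  have hE : E M v c ≠ E M v (μ c) := by
    rw [hv, E_pr_right M hpc hc0, E_pr_of_ne M hpc hc0'.symm hμne]
    exact one_ne_zero
  have hvJ : ∀ p : Pt k m, p.1 ∈ J → E M v p = 0 := by
    intro p hp
    rw [hv]
    refine E_pr_of_ne M hpc (fun e => hcJ ?_) fun e => hcJ ?_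
    · rw [e] at hp; exact hp
    · rw [e] at hp; exact hp
  have hτv := conj_swap h hτP hμ.symm hτp hvV hE
  obtain ⟨z, hz⟩ : ∃ z, z = w * v * w⁻¹ := ⟨_, rfl⟩
  have hzQ : ∀ g ∈ o2 P, g * z = z * g := fun g hg => by
    rw [hz]
    exact Ht.RD.coreK h hw2 hvV hvJ (Q_le_S0 h hg) fun p _ => by rw [(h.mem_Q_iff (h.QS hg)).1 hg]; rfl
  have hzz : z ∈ zc (o2 P) := mem_zc_of h (by
    rw [hz]
    calc w * v * w⁻¹ * (w * v * w⁻¹) = w * (v * v) * w⁻¹ := by group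
      _ = 1 := by rw [h.Vsq hvV]; group) hzQ
  obtain ⟨t1, t2⟩ := hw2 τ hτ
  obtain ⟨t, ht⟩ : ∃ t, t = w⁻¹ * τ * w := ⟨_, rfl⟩
  rw [← ht] at t1 t2
  have htP := h.SP (S0_le h t1)
  -- `τ⁻¹ t` commutes with `v`
  have h1 : τ⁻¹ * t * v = v * (τ⁻¹ * t) := by
    rw [h.comm_iff (mul_mem (inv_mem hτP) htP) hvV]
    intro p
    rw [h.mul (inv_mem hτP) htP, h.inv hτP, Equiv.Perm.mul_apply]
    by_cases hp : p.1 ∈ J
    · rw [hvJ p hp, hvJ]
      have h2 : ((pp M τ)⁻¹ (pp M t p)).1 = (pp M t p).1 := by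
        rw [hτp, Equiv.swap_inv]
        exact swap_fst' h hμ.symm _
      rw [h2, S0_fst h t1]
      exact hp
    · rw [t2 p hp, show (pp M τ)⁻¹ (pp M τ p) = p from (pp M τ).symm_apply_apply p]
  have h2 : t * v * t⁻¹ = v * pr M c (μ c) := by
    rw [← hτv]
    calc t * v * t⁻¹ = τ * (τ⁻¹ * t * v) * t⁻¹ := by group
      _ = τ * v * τ⁻¹ := by rw [h1]; group
  have h3 : τ * z * τ⁻¹ = z * (w * pr M c (μ c) * w⁻¹) := by
    calc τ * z * τ⁻¹ = w * (t * v * t⁻¹) * w⁻¹ := by rw [hz, ht]; group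
      _ = z * (w * pr M c (μ c) * w⁻¹) := by rw [h2, hz]; group
  have h4 : w * pr M c (μ c) * w⁻¹ ≠ 1 := by
    intro e
    have h5 : pr M c (μ c) = 1 := by
      calc pr M c (μ c) = w⁻¹ * (w * pr M c (μ c) * w⁻¹) * w := by group
        _ = 1 := by rw [e]; group
    have h6 := E_pr_left M hμ.symm hμne.symm
    rw [h5, Half.SymA.E_one M] at h6
    exact zero_ne_one h6
  apply comm_of_conj
  rcases swap_zz h zv hτP hμ.symm hτp hzz with h5 | h5
  · rw [h5] at h3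
    exact absurd (mul_eq_left.1 h3.symm) h4
  · rw [h5] at h3
    exact (mul_left_cancel h3).symm

end sit

section sd

variable [Finite G] (h : SD S P V M)
include h

/-- **(C2)** (290's form of LEMMA 1): `y ∈ Q ∩ O₂(C_G(r))`, `r ∈ Ω₁Z(Q_p)`, `[y, Q] = ⟨a⟩` ⟹ `K_p` centralises `a`. -/
theorem c2 {p q : Pt k m} (hpq : p.1 = q.1) (hne : p ≠ q) {r y a : G} (hr : r ∈ zc (qz (pr M p q)))
    (hyr : y ∈ qz r) (hyQ : y ∈ o2 P) (haa : a * a = 1)
    (hQ : ∀ x ∈ o2 P, x * y * x⁻¹ = y ∨ x * y * x⁻¹ = a * y) (hex : ∃ x ∈ o2 P, x * y * x⁻¹ = a * y) :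
    ∀ w ∈ KK (pr M p q), pp M w = Equiv.swap p q → w * a = a * w := by
  intro w hw hwp
  by_contra hna
  have hwq := h.KK_le hpq hne hw
  have hwP := h.QP p q hpq hne hwq
  have hyp : y * pr M p q = pr M p q * y := h.QcV hyQ (pr_mem M p q)
  have hpz : pr M p q ∈ zc (qz (pr M p q)) :=
    h.perp hpq hne (pr_mem M p q) (by rw [E_pr_left M hpq hne, E_pr_right M hpq hne])
  obtain ⟨x₀, hx₀, hx₀y⟩ := hex
  have ha1 : a ≠ 1 := fun e => hna (by rw [e]; group)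
  have hai : a⁻¹ = a := inv_eq_of_mul_eq_one_left haa
  -- `[y, U_p] = 1`
  have s1 : ∀ u ∈ zc (qz (pr M p q)), y * u = u * y := by
    intro u hu
    rcases hQ u (h.zc_le_Q hpq hne hu) with h1 | h1
    · exact (comm_of_conj h1).symm
    · exfalso
      have h2 : a ∈ zc (qz (pr M p q)) := by
        have h3 : a = u * (y * u⁻¹ * y⁻¹) := by
          calc a = (a * y) * y⁻¹ := by group
            _ = u * (y * u⁻¹ * y⁻¹) := by rw [← h1]; group
        rw [h3]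
        exact mul_mem hu (zc_conj' hyp (inv_mem hu))
      exact hna ((mem_zc.1 h2).2.1 w hwq)
  -- `y ∈ Q_p`
  have hyq : y ∈ qz (pr M p q) := by
    obtain ⟨N, hN⟩ : ∃ N : Subgroup G, N = cz (pr M p q) ⊓ centralizer (zc (qz (pr M p q)) : Set G) := ⟨_, rfl⟩
    obtain ⟨A, hA⟩ : ∃ A : Subgroup G, A = qz r ⊓ centralizer (zc (qz (pr M p q)) : Set G) := ⟨_, rfl⟩
    have hAN : A ≤ N := by
      rw [hA, hN]
      exact fun x hx => ⟨mem_cent.2 (mem_centralizer_iff.1 hx.2 _ hpz).symm, hx.2⟩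
    have hNN : N ≤ normalizer (A : Set G) := by
      rw [hN, hA]
      apply norm_of
      rintro c ⟨hc1, hc2⟩ x ⟨hx1, hx2⟩
      refine ⟨conj_mem (le_normalizer_o2 (cz r)) (mem_cent.2 (mem_centralizer_iff.1 hc2 _ hr).symm) hx1, ?_⟩
      exact (centralizer (zc (qz (pr M p q)) : Set G)).mul_mem (mul_mem hc2 hx2) (inv_mem hc2)
    have hNle : N ≤ cz (pr M p q) := by rw [hN]; exact inf_le_left
    have hNn : cz (pr M p q) ≤ normalizer (N : Set G) := by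
      rw [hN]
      apply norm_of
      rintro c hc x ⟨hx1, hx2⟩
      refine ⟨(cz _).mul_mem ((cz _).mul_mem hc hx1) ((cz _).inv_mem hc), mem_centralizer_iff.2 fun u hu => ?_⟩
      have hu' : c⁻¹ * u * c⁻¹⁻¹ ∈ zc (qz (pr M p q)) := zc_conj' (mem_cent.1 (inv_mem hc)) hu
      rw [inv_inv] at hu'
      have h2 := mem_centralizer_iff.1 hx2 _ hu'
      calc u * (c * x * c⁻¹) = c * ((c⁻¹ * u * c) * x) * c⁻¹ := by group
        _ = c * x * c⁻¹ * u := by rw [h2]; group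
    have hA2 : IsPGroup 2 A := by
      rw [hA]
      exact (o2_isPGroup _).to_le inf_le_left
    have key : A ≤ qz (pr M p q) := le_o2_of hA2 hAN hNN hNle hNn
    apply key
    rw [hA]
    exact ⟨hyr, mem_centralizer_iff.2 fun c hc => (s1 c hc).symm⟩
  -- `a` is centralised by `Q`
  have haQ : ∀ r ∈ o2 P, r * a = a * r := by
    intro r hr
    apply comm_of_conj
    have e1 : r * x₀ * y * (r * x₀)⁻¹ = (r * a * r⁻¹) * (r * y * r⁻¹) := by
      calc r * x₀ * y * (r * x₀)⁻¹ = r * (x₀ * y * x₀⁻¹) * r⁻¹ := by group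
        _ = (r * a * r⁻¹) * (r * y * r⁻¹) := by rw [hx₀y]; group
    have hne' : r * a * r⁻¹ ≠ 1 := fun h0 => ha1 (by
      calc a = r⁻¹ * (r * a * r⁻¹) * r := by group
        _ = 1 := by rw [h0]; group)
    rcases hQ r hr with h1 | h1 <;> rcases hQ (r * x₀) (mul_mem hr hx₀) with h2 | h2
    · exfalso
      rw [e1, h1] at h2
      exact hne' (mul_eq_right.1 h2)
    · rw [e1, h1] at h2
      exact mul_right_cancel h2
    · rw [e1, h1, ← mul_assoc] at h2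
      have h3 := mul_eq_right.1 h2
      exact (eq_inv_of_mul_eq_one_left h3).trans hai
    · exfalso
      rw [e1, h1] at h2
      exact hne' (mul_eq_right.1 h2)
  obtain ⟨ρ, hρ, hρy⟩ : ∃ ρ ∈ V, w * y * w⁻¹ = ρ * y := by
    rcases h.KK_act hw hyq with h1 | h1
    · exact ⟨1, one_mem _, by rw [one_mul]; exact h1⟩
    · exact ⟨_, pr_mem M p q, h1⟩
  have hx' : w * x₀ * w⁻¹ ∈ o2 P := h.nQ hwP hx₀
  have e1 : (w * x₀ * w⁻¹) * (ρ * y) * (w * x₀ * w⁻¹)⁻¹ = w * a * w⁻¹ * (ρ * y) := by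
    calc (w * x₀ * w⁻¹) * (ρ * y) * (w * x₀ * w⁻¹)⁻¹
        = w * x₀ * w⁻¹ * (w * y * w⁻¹) * (w * x₀ * w⁻¹)⁻¹ := by rw [hρy]
      _ = w * (x₀ * y * x₀⁻¹) * w⁻¹ := by group
      _ = (w * a * w⁻¹) * (w * y * w⁻¹) := by rw [hx₀y]; group
      _ = w * a * w⁻¹ * (ρ * y) := by rw [hρy]
  have e2 : (w * x₀ * w⁻¹) * (ρ * y) * (w * x₀ * w⁻¹)⁻¹ =
      ρ * ((w * x₀ * w⁻¹) * y * (w * x₀ * w⁻¹)⁻¹) := by
    calc (w * x₀ * w⁻¹) * (ρ * y) * (w * x₀ * w⁻¹)⁻¹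
        = ((w * x₀ * w⁻¹) * ρ) * y * (w * x₀ * w⁻¹)⁻¹ := by group
      _ = ρ * ((w * x₀ * w⁻¹) * y * (w * x₀ * w⁻¹)⁻¹) := by rw [h.QcV hx' hρ]; group
  rw [e1] at e2
  have hρa : ρ * a = a * ρ := haQ ρ (h.V_le_Q hρ)
  apply hna
  rcases hQ _ hx' with h6 | h6
  · rw [h6] at e2
    have h8 := mul_eq_right.1 e2
    exfalso
    apply ha1
    calc a = w⁻¹ * (w * a * w⁻¹) * w := by group
      _ = 1 := by rw [h8]; group
  · rw [h6] at e2
    have h8 : w * a * w⁻¹ * (ρ * y) = a * (ρ * y) := by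
      rw [e2, ← mul_assoc, hρa, mul_assoc]
    exact comm_of_conj (mul_right_cancel h8)

end sd

end Cfsg.Agent.Omega.IId.SymWrD.AlphaA
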