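import Cfsg.Agent.Omega.IId.SymWrD.Ht.Odd
import Cfsg.Agent.Omega.HT.EndY
import Cfsg.Agent.Omega.HT.EndCore

/-!
# II.d, `SwBig` and `SwCv`, T-T, `D` arbitrary: `Sig` (bb OMEGA #20414, #21945; `HT.EndCore.main` over `T̂ ≥ T = C_S(n)`)

Copy of the first part of `SymWr/Ht/End.lean`, for every subgroup `R₀ ≥ T`.
`n = pr M x (μ x)`, `V_l = {1, 12, 10, 20}`, `Z₀ = Ω₁Z(R₀) ⊓ C(⟨R₀, X⟩)`, `σ = sg`, `z* = σ n`.
* `Fr.zc_le_tn` : `Ω₁Z(R₀) ≤ Ω₁Z(T)`; `Fr.Z0_le` : `Z₀(R₀) ≤ Z₀(T)`;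
* `Fr.Z0_dec` : an element of `Z₀` is `v d`, `v ∈ V` zero on the line and on all `(i, 0)`, `d ∈ DD M`;
* `Fr.comm_sg`, `Fr.zst_mem` : `z* ∈ Z₀(T)`; `Fr.zst_ne'` : `z* d ≠ 1`;
* `Fr.sig_eq` : **`Sig c ⟹ c = z* d`, `d ∈ DD M` commuting with `T`**;
* `Fr.yv_of` : `YV V_l n (z* d)` from "`V` centralises `⟨n^{C(σ d)}⟩`";
* `Fr.hz_of` : the hypothesis `hz` of `EndCore.main` over `R₀` from `YV V_l n (z* d)`, `d ∈ DD M` commuting with `T`.
-/

set_option autoImplicit false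
set_option linter.unusedSectionVars false

namespace Cfsg.Agent.Omega.IId.SymWrD.Ht

open Subgroup Cfsg Cfsg.Agent.Omega.MinPar Cfsg.Agent.Omega.FFThm
open Cfsg.Agent.ZN (o2 zc)
open Cfsg.Agent.Omega.Half (Amb amb_of_loc)
open Cfsg.Agent.Omega.Half.SymA (Pt E Mv pm)
open Cfsg.Agent.Omega.HT.LineOf (Ln ln pts dd)
open Cfsg.Agent.Omega.BTwo (BT XX WW QQ O2)
open Cfsg.Agent.Omega.HTwo.Hat (ZQ)
open Cfsg.Agent.MinSimple.VModule (le_normalizer_o2 o2_isPGroup o2_le mem_zc zc_le)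

universe u

variable {G : Type u} [Group G] [Finite G] {k m : ℕ}

namespace Fr

variable {S : Sylow 2 G} {P V D : Subgroup G} {M : SymK (S : Subgroup G) P V ⊥ k m} (h : Fr S P V D M)
  {μ ν : Equiv.Perm (Pt k m)} (F : Fours M μ ν) {x : Pt k m} (hx : x.2 ≠ 0)
include h F hx

/-- `T` fixes the summand of `x` -/
theorem tn_fst {s : G} (hs : s ∈ tn S M μ x) (p : Pt k m) : (pp M s p).1 = x.1 ↔ p.1 = x.1 := by
  have h1 : (pp M s x).1 = x.1 := by
    rcases h.tn_pp F hx hs with e | e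
    · rw [e.1]
    · rw [e.1, F.mfst]
  have h2 := pp_fst_iff h.amb h.hm1 (M := M) (h.SP hs.1) (p := p) (q := x)
  rwa [h1] at h2

/-- `T` centralises `σ` -/
theorem comm_sg {s : G} (hs : s ∈ tn S M μ x) : s * (sg h.toSit x.1).val = (sg h.toSit x.1).val * s := by
  rw [h.comm_iff (h.SP hs.1) (sg_mem h.toSit x.1)]
  intro p
  rw [E_sg, E_sg]
  simp only [h.tn_fst F hx hs p, h.snd hs.1]

/-- `X` contains an element acting as `(x 0)` -/
theorem exists_X : ∃ w ∈ h.X3 (h.tri F hx), pp M w = Equiv.swap x (x.1, 0) := by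
  have t := h.tri F hx
  obtain ⟨s, hs, h1⟩ := h.exists_h t.pr t.n2
  have hE : E M (pr M x (μ x)) x ≠ E M (pr M x (μ x)) (x.1, 0) := by
    rw [E_pr_left M t.pq t.n1, E_pr_of_ne M t.pq t.n2.symm t.n3.symm]
    exact one_ne_zero
  obtain ⟨⟨-, h3⟩, -⟩ := h1 _ (pr_mem M x (μ x)) hE
  refine ⟨_, ?_, h3⟩
  have hsN : s ∈ normalizer (pts (pr M x (μ x)) (pr M x (x.1, 0)) 1 : Set G) := by
    rw [(h.line3 t).normalizer_pts 1]
    exact hs
  have h4 := BTwo.cj_le_WW (V := ln (h.line3 t)) hsN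
  have h5 : s * pr M x (μ x) * s⁻¹ ∈ WW (ln (h.line3 t)) (pts (pr M x (μ x)) (pr M x (x.1, 0)) 1) := by
    apply h4
    rw [BTwo.mem_cj]
    have e : s⁻¹ * (s * pr M x (μ x) * s⁻¹) * s = pr M x (μ x) := by group
    rw [e]
    exact (h.line3 t).dd_mem 0
  exact (le_iSup (fun i => WW (ln (h.line3 t)) (pts (pr M x (μ x)) (pr M x (x.1, 0)) i)) 1) h5

/-- `Ω₁Z(R₀) ≤ Ω₁Z(T)` for `T ≤ R₀` -/
theorem zc_le_tn {R₀ : Subgroup G} (hR : tn S M μ x ≤ R₀) : zc R₀ ≤ zc (tn S M μ x) := by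
  intro z hz
  have h1 := mem_zc.1 hz
  have h2 : z ∈ zc (o2 P) := h.mem_zc_of F hx (by rw [← pow_two]; exact h1.2.2) fun y hy =>
    h1.2.1 y (hR (h.Q_le_tn F hx hy))
  exact mem_zc.2 ⟨h.Q_le_tn F hx (zc_le _ h2), fun s hs => h1.2.1 s (hR hs), h1.2.2⟩

/-- `Z₀(R₀) ≤ Z₀(T)` for `T ≤ R₀` -/
theorem Z0_le {R₀ : Subgroup G} (hR : tn S M μ x ≤ R₀) :
    zc R₀ ⊓ centralizer ((R₀ ⊔ h.X3 (h.tri F hx) : Subgroup G) : Set G) ≤
      zc (tn S M μ x) ⊓ centralizer ((tn S M μ x ⊔ h.X3 (h.tri F hx) : Subgroup G) : Set G) :=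
  inf_le_inf (h.zc_le_tn F hx hR) (centralizer_le (sup_le_sup_right hR _))

/-- `z* ∈ Z₀(T)` -/
theorem zst_mem : (sg h.toSit x.1).val * pr M x (μ x) ∈ zc (tn S M μ x) ⊓
    centralizer ((tn S M μ x ⊔ h.X3 (h.tri F hx) : Subgroup G) : Set G) := by
  have t := h.tri F hx
  have hσ := sg_mem h.toSit x.1
  have hn := pr_mem M x (μ x)
  refine h.mem_Z0 F hx (mul_mem hσ hn) (fun s hs => ?_) ?_ ?_ ?_
  · have h1 := h.comm_sg F hx hs
    have h2 := mem_centralizer_singleton_iff.1 hs.2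
    rw [← mul_assoc, h1, mul_assoc, h2, mul_assoc]
  · rw [Half.SymA.E_mul M hσ hn, E_sg, E_pr_left M t.pq t.n1, if_pos rfl, if_neg hx]
    decide
  · rw [Half.SymA.E_mul M hσ hn, E_sg, E_pr_right M t.pq t.n1, if_pos (F.mfst x), if_neg fun e => hx (F.mnz.1 e)]
    decide
  · rw [Half.SymA.E_mul M hσ hn, E_sg, E_pr_of_ne M t.pq t.n2.symm t.n3.symm, if_pos rfl, if_pos rfl, add_zero]

/-- the values of `z*` -/
theorem E_zst (p : Pt k m) : E M ((sg h.toSit x.1).val * pr M x (μ x)) p =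
    (if p.1 = x.1 then (if p.2 = 0 then 0 else 1) else 0) + ((if p = x then 1 else 0) + (if p = μ x then 1 else 0)) := by
  classical
  rw [Half.SymA.E_mul M (sg_mem h.toSit x.1) (pr_mem M x (μ x)), E_sg]
  congr 1
  have h1 := E_pr M (p := x) (q := μ x) (h.tri F hx).pq p
  convert h1

/-- `z* d ≠ 1` -/
theorem zst_ne' {d : G} (hd : d ∈ DD M) : (sg h.toSit x.1).val * pr M x (μ x) * d ≠ 1 := by
  intro e
  have hV := mul_mem (sg_mem h.toSit x.1) (pr_mem M x (μ x))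
  have h2 : (sg h.toSit x.1).val * pr M x (μ x) = 1 := by
    refine h.eq_one_of_DD hV ?_
    rw [eq_inv_of_mul_eq_one_left e]
    exact inv_mem hd
  have h1 := h.E_zst F hx (ν x)
  rw [h2, Half.SymA.E_one, if_pos (F.nfst x), if_neg (h.nu_ne F hx), if_neg (F.nne x hx), if_neg (F.nmu x hx)] at h1
  revert h1
  decide

theorem zst_ne : (sg h.toSit x.1).val * pr M x (μ x) ≠ 1 := by
  have := h.zst_ne' F hx (d := 1) (one_mem _)
  rwa [mul_one] at this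

variable (zv : zc (o2 P) ≤ V ⊔ DD M)
include zv

/-- an element of `Z₀` is `v d`, `v ∈ V` zero on the line and on all `(i, 0)`, `d ∈ DD M` -/
theorem Z0_dec {c : G} (hc : c ∈ zc (tn S M μ x) ⊓
    centralizer ((tn S M μ x ⊔ h.X3 (h.tri F hx) : Subgroup G) : Set G)) :
    ∃ v ∈ V, ∃ d ∈ DD M, (∀ s ∈ tn S M μ x, s * v = v * s) ∧ (∀ s ∈ tn S M μ x, s * d = d * s) ∧ c = v * d ∧
      E M v x = 0 ∧ E M v (μ x) = 0 ∧ ∀ i, E M v (i, 0) = 0 := by
  obtain ⟨v, hv, d, hd, hvT, hdT, rfl⟩ := h.zc_tn_dec F hx zv hc.1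
  have h0 := fun i => h.fix_zero F hx hv hvT i
  obtain ⟨w, hw, hwp⟩ := h.exists_X F hx
  have h1 : w * (v * d) = v * d * w := mem_centralizer_iff.1 hc.2 w (mem_sup_right hw)
  have h2 : w * d = d * w := h.X_DD (h.tri F hx) hd hw
  have h3 : w * v = v * w := by
    have e : w * v * d = v * w * d := by
      rw [mul_assoc, h1, mul_assoc, mul_assoc, h2]
    exact mul_right_cancel e
  have h4 := (h.comm_iff (h.X_le_P (h.tri F hx) hw) hv).1 h3 (x.1, 0)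
  rw [hwp, Equiv.swap_apply_right, h0] at h4
  exact ⟨v, hv, d, hd, hvT, hdT, rfl, h4, by rw [h.fix_mu F hx hv hvT x, h4], h0⟩

/-- **`Sig c` implies `c = z* d`** -/
theorem sig_eq {c : G} (hc : c ∈ zc (tn S M μ x) ⊓
    centralizer ((tn S M μ x ⊔ h.X3 (h.tri F hx) : Subgroup G) : Set G))
    (hs : HT.Sig (ln (h.line3 (h.tri F hx))) (pts (pr M x (μ x)) (pr M x (x.1, 0))) 0 c) :
    ∃ d ∈ DD M, (∀ s ∈ tn S M μ x, s * d = d * s) ∧ c = (sg h.toSit x.1).val * pr M x (μ x) * d := by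
  classical
  have t := h.tri F hx
  obtain ⟨u, hu, d, hd, -, hdT, rfl, c1, c2, c3⟩ := h.Z0_dec F hx zv hc
  refine ⟨d, hd, hdT, ?_⟩
  congr 1
  have hv := pr_mem M x (x.1, 0)
  have hyV := mul_mem hv hu
  -- constant outside `{x, μ x}`
  have key : ∀ a b : Pt k m, a.1 = b.1 → a ≠ x → a ≠ μ x → b ≠ x → b ≠ μ x →
      E M (pr M x (x.1, 0) * u) a = E M (pr M x (x.1, 0) * u) b := by
    intro a b hab ha1 ha2 hb1 hb2
    have hfst : ∀ r : Pt k m, (Equiv.swap a b r).1 = r.1 := by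
      intro r
      rcases eq_or_ne r a with rfl | h1
      · rw [Equiv.swap_apply_left, hab]
      · rcases eq_or_ne r b with rfl | h2
        · rw [Equiv.swap_apply_right, hab]
        · rw [Equiv.swap_apply_of_ne_of_ne h1 h2]
    obtain ⟨g, hg, hgp⟩ := h.exists_pp (π := Equiv.swap a b) hfst
    have g1 : pp M g x = x := by rw [hgp, Equiv.swap_apply_of_ne_of_ne (Ne.symm ha1) (Ne.symm hb1)]
    have g2 : pp M g (μ x) = μ x := by rw [hgp, Equiv.swap_apply_of_ne_of_ne (Ne.symm ha2) (Ne.symm hb2)]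
    have hgd : g * d = d * g := (mem_DD.1 hd).2 g hg fun r => by rw [hgp]; exact hfst r
    have hgr : g * pr M x (μ x) = pr M x (μ x) * g := h.comm_pr hg t.pq (Or.inl ⟨g1, g2⟩)
    have hgN : g ∈ normalizer (pts (pr M x (μ x)) (pr M x (x.1, 0)) 0 : Set G) := by
      rw [(h.line3 t).normalizer_pts 0]
      exact mem_centralizer_singleton_iff.2 hgr
    have hcond : ∀ v ∈ ln (h.line3 t), g * v * g⁻¹ ∈ ln (h.line3 t) ⊔
        ZQ (pts (pr M x (μ x)) (pr M x (x.1, 0))) 0 := by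
      intro v hvl
      have hvV := h.ln_le t hvl
      have hgv := h.amb.conj_mem hg hvV
      have e : g * v * g⁻¹ = v * (v⁻¹ * (g * v * g⁻¹)) := by group
      rw [e]
      refine mul_mem (mem_sup_left hvl) (mem_sup_right ?_)
      have hw : v⁻¹ * (g * v * g⁻¹) ∈ V := mul_mem (inv_mem hvV) hgv
      have hE : ∀ r, pp M g r = r → E M (v⁻¹ * (g * v * g⁻¹)) r = 0 := by
        intro r hr
        have h1 := E_conj (M := M) hg hvV r
        rw [hr] at h1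
        rw [Half.SymA.E_mul M (inv_mem hvV) hgv, Half.SymA.E_inv M hvV, h1, CharTwo.add_self_eq_zero]
      have h1 := h.perp t.pq t.n1 hw (by rw [hE x g1, hE (μ x) g2])
      have h2 := mem_zc.1 h1
      have hQ : QQ (pts (pr M x (μ x)) (pr M x (x.1, 0)) 0) = o2 (centralizer ({pr M x (μ x)} : Set G)) := by
        show O2 (normalizer (pts (pr M x (μ x)) (pr M x (x.1, 0)) 0 : Set G)) = _
        rw [(h.line3 t).normalizer_pts 0]
        rfl
      refine mem_inf.2 ⟨?_, ?_⟩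
      · rw [hQ]; exact h2.1
      · rw [hQ, mem_centralizer_iff]
        intro y hy
        exact h2.2.1 y hy
    have hv0 : pr M x (x.1, 0) ∉ pts (pr M x (μ x)) (pr M x (x.1, 0)) 0 := by
      rw [(h.line3 t).mem_pts]
      rintro (e | e)
      · exact h.pr_ne t.pr t.n2 e
      · have e1 : pr M x (x.1, 0) = pr M x (μ x) := e
        exact (h.line3 t).ne e1.symm
    have h1 := hs g hgN hcond _ ((h.line3 t).dd_mem 1) hv0
    have h1' : (pr M x (x.1, 0) * u)⁻¹ * (g * (pr M x (x.1, 0) * u) * g⁻¹) ∈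
        pts (pr M x (μ x)) (pr M x (x.1, 0)) 0 := by
      have hgy := h.amb.conj_mem hg hyV
      have hcm : d⁻¹ * ((pr M x (x.1, 0) * u)⁻¹ * (g * (pr M x (x.1, 0) * u) * g⁻¹)) =
          (pr M x (x.1, 0) * u)⁻¹ * (g * (pr M x (x.1, 0) * u) * g⁻¹) * d⁻¹ :=
        Sit.zz_comm (inv_mem (mem_DD.1 hd).1) (h.VZ (mul_mem (inv_mem hyV) hgy))
      have e : (pr M x (x.1, 0) * u)⁻¹ * (g * (pr M x (x.1, 0) * u) * g⁻¹) =
          (pr M x (x.1, 0) * (u * d))⁻¹ * g * (pr M x (x.1, 0) * (u * d)) * g⁻¹ := by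
        symm
        calc (pr M x (x.1, 0) * (u * d))⁻¹ * g * (pr M x (x.1, 0) * (u * d)) * g⁻¹ =
            d⁻¹ * ((pr M x (x.1, 0) * u)⁻¹ * (g * (pr M x (x.1, 0) * u) * g⁻¹)) * (g * d * g⁻¹) := by group
          _ = (pr M x (x.1, 0) * u)⁻¹ * (g * (pr M x (x.1, 0) * u) * g⁻¹) * d⁻¹ * (g * d * g⁻¹) := by rw [hcm]
          _ = (pr M x (x.1, 0) * u)⁻¹ * (g * (pr M x (x.1, 0) * u) * g⁻¹) * d⁻¹ * (d * g * g⁻¹) := by rw [hgd]
          _ = _ := by group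
      rw [e]
      exact h1
    rw [(h.line3 t).mem_pts] at h1'
    have hgy := h.amb.conj_mem hg hyV
    have h2 : E M ((pr M x (x.1, 0) * u)⁻¹ * (g * (pr M x (x.1, 0) * u) * g⁻¹)) a =
        E M (pr M x (x.1, 0) * u) a + E M (pr M x (x.1, 0) * u) b := by
      rw [Half.SymA.E_mul M (inv_mem hyV) hgy, Half.SymA.E_inv M hyV, E_conj' hg hyV, hgp, Equiv.swap_inv,
        Equiv.swap_apply_left]
    have h3 : E M ((pr M x (x.1, 0) * u)⁻¹ * (g * (pr M x (x.1, 0) * u) * g⁻¹)) a = 0 := by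
      rcases h1' with e | e
      · rw [e, Half.SymA.E_one]
      · rw [e]
        exact E_pr_of_ne M t.pq ha1 ha2
    rw [h2] at h3
    exact CharTwo.add_eq_zero.1 h3
  refine Half.SymA.inj M hu (mul_mem (sg_mem h.toSit x.1) (pr_mem M x (μ x))) fun p => ?_
  rw [h.E_zst F hx]
  by_cases p1 : p = x
  · rw [p1, c1, if_pos rfl, if_neg hx, if_pos rfl, if_neg t.n1]
    decide
  by_cases p2 : p = μ x
  · rw [p2, c2, if_pos (F.mfst x), if_neg fun e => hx (F.mnz.1 e), if_neg t.n1.symm, if_pos rfl]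
    decide
  rw [if_neg p1, if_neg p2, add_zero, add_zero]
  by_cases p3 : p.1 = x.1
  · rw [if_pos p3]
    by_cases p4 : p.2 = 0
    · rw [if_pos p4]
      have e : p = (p.1, 0) := Prod.ext rfl p4
      rw [e]; exact c3 _
    · rw [if_neg p4]
      have h1 := key p (x.1, 0) p3 p1 p2 t.n2.symm t.n3.symm
      have hp0 : p ≠ (x.1, 0) := fun e => p4 (by rw [e])
      rw [Half.SymA.E_mul M hv hu, Half.SymA.E_mul M hv hu, E_pr_of_ne M t.pr p1 hp0, E_pr_right M t.pr t.n2, c3,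
        zero_add, add_zero] at h1
      exact h1
  · rw [if_neg p3]
    have q1 : ((p.1, 0) : Pt k m) ≠ x := fun e => p3 (by rw [← e])
    have q2 : ((p.1, 0) : Pt k m) ≠ μ x := fun e => p3 (by rw [← F.mfst x, ← e])
    have q3 : ((p.1, 0) : Pt k m) ≠ (x.1, 0) := fun e => p3 (Prod.mk.inj e).1
    have h1 := key p (p.1, 0) rfl p1 p2 q1 q2
    have hp0 : p ≠ (x.1, 0) := fun e => p3 (by rw [e])
    rw [Half.SymA.E_mul M hv hu, Half.SymA.E_mul M hv hu, E_pr_of_ne M t.pr p1 hp0, E_pr_of_ne M t.pr q1 q3, c3,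
      zero_add, add_zero] at h1
    exact h1

omit zv in
/-- `YV` at `z* d` from "`V` centralises `⟨n^{C(σ d)}⟩`" -/
theorem yv_of {d : G} (hd : d ∈ DD M)
    (hy : ∀ g : G, g * ((sg h.toSit x.1).val * d) = (sg h.toSit x.1).val * d * g → ∀ v ∈ V,
      v * (g * pr M x (μ x) * g⁻¹) = g * pr M x (μ x) * g⁻¹ * v) :
    HT.Main.YV (ln (h.line3 (h.tri F hx))) (pr M x (μ x)) ((sg h.toSit x.1).val * pr M x (μ x) * d) := by
  intro g hg v hv
  have h1 : pr M x (μ x) * d = d * pr M x (μ x) := Sit.zz_comm (h.VZ (pr_mem M x (μ x))) (mem_DD.1 hd).1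
  have e : (sg h.toSit x.1).val * pr M x (μ x) * d * pr M x (μ x) = (sg h.toSit x.1).val * d := by
    calc (sg h.toSit x.1).val * pr M x (μ x) * d * pr M x (μ x) =
        (sg h.toSit x.1).val * (pr M x (μ x) * d) * pr M x (μ x) := by group
      _ = (sg h.toSit x.1).val * d * (pr M x (μ x) * pr M x (μ x)) := by rw [h1]; group
      _ = _ := by rw [h.pr_sq, mul_one]
  rw [e] at hg
  exact hy g hg v (h.ln_le (h.tri F hx) hv)

/-- the hypothesis `hz` of `EndCore.main` over `R₀ ≥ T` -/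
theorem hz_of {R₀ : Subgroup G} (hR : tn S M μ x ≤ R₀)
    (b : HT.HTT R₀ (R₀ ⊔ h.X3 (h.tri F hx)) (ln (h.line3 (h.tri F hx))) (pts (pr M x (μ x)) (pr M x (x.1, 0))) 0)
    (hLE : ∀ i, HTwo.ThmA.LE (ln (h.line3 (h.tri F hx))) (pts (pr M x (μ x)) (pr M x (x.1, 0))) i)
    (h1 : HT.OtCore.OtD R₀ (ln (h.line3 (h.tri F hx))) (XX (ln (h.line3 (h.tri F hx)))
      (pts (pr M x (μ x)) (pr M x (x.1, 0)))) (pr M x (μ x)))
    (hy : ∀ d ∈ DD M, (∀ s ∈ tn S M μ x, s * d = d * s) →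
      HT.Main.YV (ln (h.line3 (h.tri F hx))) (pr M x (μ x)) ((sg h.toSit x.1).val * pr M x (μ x) * d)) :
    ∀ c ∈ zc R₀ ⊓ centralizer ((R₀ ⊔ h.X3 (h.tri F hx) : Subgroup G) : Set G),
      HT.Sig (ln (h.line3 (h.tri F hx))) (pts (pr M x (μ x)) (pr M x (x.1, 0))) 0 c →
      ∃ z ∈ zc R₀ ⊓ centralizer ((R₀ ⊔ h.X3 (h.tri F hx) : Subgroup G) : Set G), z ≠ 1 ∧ (c = 1 ∨ c = z) ∧
        ¬ HOneTwo.UM (ln (h.line3 (h.tri F hx)))
          (HTwo.AlphaP.MP (ln (h.line3 (h.tri F hx))) (pts (pr M x (μ x)) (pr M x (x.1, 0))) 0 z) ≤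
            QQ (pts (pr M x (μ x)) (pr M x (x.1, 0)) 0) := by
  intro c hc hs
  have hr : ∀ y, y ∈ pts (pr M x (μ x)) (pr M x (x.1, 0)) 0 ↔ y = 1 ∨ y = pr M x (μ x) := fun _ =>
    (h.line3 (h.tri F hx)).mem_pts
  obtain ⟨d, hd, hdT, e⟩ := h.sig_eq F hx zv (h.Z0_le F hx hR hc) hs
  have hc1 : c ≠ 1 := by rw [e]; exact h.zst_ne' F hx hd
  refine ⟨c, hc, hc1, Or.inr rfl, ?_⟩
  exact HT.AlphaY.not_alpha b hr hLE hc hc1
    (HT.Main.gsys_of_core b hr hc hc1 (HT.EndCore.core b hr h1 hc)) (by rw [e]; exact hy d hd hdT)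

end Fr

end Cfsg.Agent.Omega.IId.SymWrD.Ht
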