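import Cfsg.Agent.Omega.IId.SymWrD.Ht.AlphaTwoB
import Cfsg.Agent.Omega.IId.SymWrD.Ht.AlphaA2
import Cfsg.Agent.Omega.IId.SymWrD.Ht.End

/-!
# II.d, `SwCv`, T-T: not (alpha) over `R₀ ≥ T`, all `m ≥ 2`, `DD M ≠ 1`

* `Fr.hsig_of` : what `HT.Sig` gives for the elements centralising the line `⟨n, (x 0)⟩`;
* `Fr.alpha` : `V` centralises `⟨n ^ C_G(σ d)⟩` for `c = σ n d` with `Sig c` (`m ≥ 3` : helper573; `m = 2` : helper666
  (`O₂(C_G(σ d)) ≤ S0`) and `AlphaTwoB.lean`);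
* `Fr.hz_all` : the argument `hz` of `HT.EndCore.main` over `R₀` (helper926's `hz_of` without its hypothesis `hy`).
-/

set_option autoImplicit false
set_option linter.unusedSectionVars false

namespace Cfsg.Agent.Omega.IId.SymWrD.Ht

open Subgroup Cfsg Cfsg.Agent.Omega.MinPar Cfsg.Agent.Omega.FFThm
open Cfsg.Agent.ZN (o2 zc)
open Cfsg.Agent.Omega.Half (Amb amb_of_loc)
open Cfsg.Agent.Omega.Half.SymA (Pt E Mv pm)
open Cfsg.Agent.Omega.HT.LineOf (Ln ln pts dd)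
open Cfsg.Agent.Omega.BTwo (BT XX WW QQ O2)
open Cfsg.Agent.Omega.HTwo.Hat (ZQ)
open Cfsg.Agent.MinSimple.VModule (le_normalizer_o2 o2_isPGroup o2_le mem_zc zc_le)

universe u

variable {G : Type u} [Group G] [Finite G] {k m : ℕ}

namespace Fr

variable {S : Sylow 2 G} {P V D : Subgroup G} {M : SymK (S : Subgroup G) P V ⊥ k m} (h : Fr S P V D M)
  {μ ν : Equiv.Perm (Pt k m)} (F : Fours M μ ν) {x : Pt k m} (hx : x.2 ≠ 0)
include h F hx

/-- the elements of the line are products of `n` and `(x 0)` -/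
theorem comm_ln {g : G} (h1 : g * pr M x (μ x) = pr M x (μ x) * g)
    (h2 : g * pr M x (x.1, 0) = pr M x (x.1, 0) * g) {v : G} (hv : v ∈ ln (h.line3 (h.tri F hx))) :
    g * v = v * g := by
  have h3 : ∀ i, g * dd (pr M x (μ x)) (pr M x (x.1, 0)) i = dd (pr M x (μ x)) (pr M x (x.1, 0)) i * g := by
    intro i
    fin_cases i
    · exact h1
    · exact h2
    · change g * (pr M x (μ x) * pr M x (x.1, 0)) = pr M x (μ x) * pr M x (x.1, 0) * g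
      rw [← mul_assoc, h1, mul_assoc, h2, mul_assoc]
  rcases (h.line3 (h.tri F hx)).mem_ln.1 hv with e | ⟨i, e⟩
  · rw [e, mul_one, one_mul]
  · rw [e]; exact h3 i

/-- what `HT.Sig` gives for the elements centralising the line -/
theorem hsig_of {c : G} (hs : HT.Sig (ln (h.line3 (h.tri F hx))) (pts (pr M x (μ x)) (pr M x (x.1, 0))) 0 c)
    (hc : c * pr M x (x.1, 0) = pr M x (x.1, 0) * c) {g : G}
    (h1 : g * pr M x (μ x) = pr M x (μ x) * g) (h2 : g * pr M x (x.1, 0) = pr M x (x.1, 0) * g) :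
    c⁻¹ * (g * c * g⁻¹) = 1 ∨ c⁻¹ * (g * c * g⁻¹) = pr M x (μ x) := by
  have t := h.tri F hx
  have hgN : g ∈ normalizer (pts (pr M x (μ x)) (pr M x (x.1, 0)) 0 : Set G) := by
    rw [(h.line3 t).normalizer_pts 0]
    exact mem_centralizer_singleton_iff.2 h1
  have hv0 : pr M x (x.1, 0) ∉ pts (pr M x (μ x)) (pr M x (x.1, 0)) 0 := by
    rw [(h.line3 t).mem_pts]
    rintro (e | e)
    · exact h.pr_ne t.pr t.n2 e
    · have e1 : pr M x (x.1, 0) = pr M x (μ x) := e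
      exact (h.line3 t).ne e1.symm
  have h3 := hs g hgN (fun v hv => ?_) _ ((h.line3 t).dd_mem 1) hv0
  · have e : (pr M x (x.1, 0) * c)⁻¹ * g * (pr M x (x.1, 0) * c) * g⁻¹ = c⁻¹ * (g * c * g⁻¹) := by
      calc (pr M x (x.1, 0) * c)⁻¹ * g * (pr M x (x.1, 0) * c) * g⁻¹ =
          c⁻¹ * (pr M x (x.1, 0))⁻¹ * (g * pr M x (x.1, 0)) * c * g⁻¹ := by group
        _ = c⁻¹ * (pr M x (x.1, 0))⁻¹ * (pr M x (x.1, 0) * g) * c * g⁻¹ := by rw [h2]
        _ = _ := by group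
    have h4 : c⁻¹ * (g * c * g⁻¹) ∈ pts (pr M x (μ x)) (pr M x (x.1, 0)) 0 := by
      rw [← e]; exact h3
    exact (h.line3 t).mem_pts.1 h4
  · rw [h.comm_ln F hx h1 h2 hv, mul_inv_cancel_right]
    exact mem_sup_left hv

variable (zv : zc (o2 P) ≤ V ⊔ DD M)
include zv

/-- **`V` centralises `⟨n ^ C_G(σ d)⟩`**, all `m ≥ 2` -/
theorem alpha {d : G} (hd : d ∈ DD M) (hdT : ∀ s ∈ tn S M μ x, s * d = d * s) {e : G} (he : e ∈ DD M) (he1 : e ≠ 1)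
    (hs : HT.Sig (ln (h.line3 (h.tri F hx))) (pts (pr M x (μ x)) (pr M x (x.1, 0))) 0
      ((sg h.toSit x.1).val * pr M x (μ x) * d)) {g : G}
    (hg : g * ((sg h.toSit x.1).val * d) = (sg h.toSit x.1).val * d * g) {v : G} (hv : v ∈ V) :
    v * (g * pr M x (μ x) * g⁻¹) = g * pr M x (μ x) * g⁻¹ * v := by
  have hne : (sg h.toSit x.1).val * d ≠ 1 := by
    intro e1
    have h1 : (sg h.toSit x.1).val = 1 := by
      refine h.eq_one_of_DD (sg_mem h.toSit x.1) ?_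
      rw [eq_inv_of_mul_eq_one_left e1]
      exact inv_mem hd
    have h2 := E_sg h.toSit x.1 x
    rw [h1, Half.SymA.E_one, if_pos rfl, if_neg hx] at h2
    exact zero_ne_one h2
  by_cases h3 : 3 ≤ m
  · exact RD.esigD h.toSit h.char2 zv h3 x.1 hd hne hg (h.VZ hv) (h.VZ (pr_mem M _ _))
  · have hm2 : m = 2 := le_antisymm (by omega) h.hm
    have hσ := h.VZ (sg_mem h.toSit x.1)
    have hn := h.VZ (pr_mem M x (μ x))
    have hr := h.VZ (pr_mem M x (x.1, 0))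
    have hc : (sg h.toSit x.1).val * pr M x (μ x) * d ∈ zc (o2 P) := mul_mem (mul_mem hσ hn) (mem_DD.1 hd).1
    refine RB.esigD_two h.toSit h.char2 zv x.1 hd hne ?_ he he1 hg hv (pr_mem M _ _)
    exact AlphaA.o2_le_S0 (SD.of_fr h) zv F hm2 hx hd (fun s hs1 hs2 => hdT s (mem_inf.2 ⟨hs1,
      mem_centralizer_singleton_iff.2 hs2⟩)) fun g h1 h2 => h.hsig_of F hx hs (Sit.zz_comm hc hr) h1 h2

/-- **the hypothesis `hz` of `EndCore.main` over `R₀ ≥ T`**, `DD M ≠ 1` -/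
theorem hz_all {R₀ : Subgroup G} (hR : tn S M μ x ≤ R₀)
    (b : HT.HTT R₀ (R₀ ⊔ h.X3 (h.tri F hx)) (ln (h.line3 (h.tri F hx))) (pts (pr M x (μ x)) (pr M x (x.1, 0))) 0)
    (hLE : ∀ i, HTwo.ThmA.LE (ln (h.line3 (h.tri F hx))) (pts (pr M x (μ x)) (pr M x (x.1, 0))) i)
    (h1 : HT.OtCore.OtD R₀ (ln (h.line3 (h.tri F hx))) (XX (ln (h.line3 (h.tri F hx)))
      (pts (pr M x (μ x)) (pr M x (x.1, 0)))) (pr M x (μ x))) {e : G} (he : e ∈ DD M) (he1 : e ≠ 1) :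
    ∀ c ∈ zc R₀ ⊓ centralizer ((R₀ ⊔ h.X3 (h.tri F hx) : Subgroup G) : Set G),
      HT.Sig (ln (h.line3 (h.tri F hx))) (pts (pr M x (μ x)) (pr M x (x.1, 0))) 0 c →
      ∃ z ∈ zc R₀ ⊓ centralizer ((R₀ ⊔ h.X3 (h.tri F hx) : Subgroup G) : Set G), z ≠ 1 ∧ (c = 1 ∨ c = z) ∧
        ¬ HOneTwo.UM (ln (h.line3 (h.tri F hx)))
          (HTwo.AlphaP.MP (ln (h.line3 (h.tri F hx))) (pts (pr M x (μ x)) (pr M x (x.1, 0))) 0 z) ≤
            QQ (pts (pr M x (μ x)) (pr M x (x.1, 0)) 0) := by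
  intro c hc hs
  have hr : ∀ y, y ∈ pts (pr M x (μ x)) (pr M x (x.1, 0)) 0 ↔ y = 1 ∨ y = pr M x (μ x) := fun _ =>
    (h.line3 (h.tri F hx)).mem_pts
  obtain ⟨d, hd, hdT, e1⟩ := h.sig_eq F hx zv (h.Z0_le F hx hR hc) hs
  have hc1 : c ≠ 1 := by rw [e1]; exact h.zst_ne' F hx hd
  refine ⟨c, hc, hc1, Or.inr rfl, ?_⟩
  refine HT.AlphaY.not_alpha b hr hLE hc hc1
    (HT.Main.gsys_of_core b hr hc hc1 (HT.EndCore.core b hr h1 hc)) ?_
  rw [e1] at hs ⊢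
  exact h.yv_of F hx hd fun g hg v hv => h.alpha F hx zv hd hdT he he1 hs hg hv

end Fr

end Cfsg.Agent.Omega.IId.SymWrD.Ht
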