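import Cfsg.Agent.Omega.IId.SymWrD.Ht.Alpha

/-!
# II.d, `SwCv`, T-T: the end of "`O₂(C_G(σ_i d)) ≤ S⁰`" (bb OMEGA #22373, #22419, #22664)

`SymWrD.Sit S P V M`, `Ω₁Z(O₂(P)) ≤ V ⊔ DD M`, `y = σ_i d`, `O = O₂(C_G(y))`.
* `O0_le` : `O ⊓ C_G(σ_i) ≤ S0 h` (LEMMA R (b));
* `Vm h i d` : `{z ∈ Ω₁Z(O₂(P)) : [z, O ⊓ C_G(σ_i)] = 1}`; `conj_Vm` : normalised by `O ⊓ N(S0)`;
* `fix_center` : an element which commutes with a transvection modulo the kernel fixes its centre;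
* `fixj` : `w ∈ O ⊓ N(S0)`, `σ_i ^ w ∈ DD M` ⟹ `w` centralises the duads outside of the summand `i`;
* `end_false` : with the consequence `hSig` of `Sig`: contradiction.
-/

set_option autoImplicit false
set_option linter.unusedSectionVars false

namespace Cfsg.Agent.Omega.IId.SymWrD.Ht.RE

open Subgroup Pointwise Cfsg Cfsg.Agent.Omega.MinPar Cfsg.Agent.Omega.FFThm
open Cfsg.Agent.ZN (o2 zc)
open Cfsg.Agent.Omega.IId.SymWrD
open Cfsg.Agent.Omega.IId.SymWrD.Ht.RD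
open Cfsg.Agent.Omega.IId.SwB (S0 mem_S0 S0_le S0_fst S0_comm Q_le_S0)
open Cfsg.Agent.Omega.Half.SymA (Pt E Mv pm Amb0)
open Cfsg.Agent.MinSimple.VModule (mem_zc zc_le le_normalizer_o2 o2_isPGroup o2_le le_o2)

universe u

variable {G : Type u} [Group G] {P V : Subgroup G} {k m : ℕ} {S : Sylow 2 G} {M : SymK (S : Subgroup G) P V ⊥ k m}

theorem mem_norm_of {A : Subgroup G} {B : Subgroup G} (h : ∀ g ∈ B, ∀ a ∈ A, g * a * g⁻¹ ∈ A) :
    B ≤ normalizer (A : Set G) := by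
  intro g hg
  rw [mem_normalizer_iff]
  refine fun a => ⟨h g hg a, fun ha => ?_⟩
  have h1 := h g⁻¹ (inv_mem hg) _ ha
  have e : g⁻¹ * (g * a * g⁻¹) * g⁻¹⁻¹ = a := by group
  rwa [e] at h1

/-- `t` acts on the elements of `X` as a transvection with centre `q`, `r` commutes with `t` on `X`: `r` fixes `q` -/
theorem fix_center {r t w q : G} {X : Set G} (hq : q ≠ 1) (hw : w ∈ X) (htw : t * w * t⁻¹ = w * q)
    (hrX : ∀ v ∈ X, r * v * r⁻¹ ∈ X) (ht : ∀ v ∈ X, t * v * t⁻¹ = v ∨ t * v * t⁻¹ = v * q)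
    (htX : ∀ v ∈ X, t * v * t⁻¹ ∈ X) (hc : ∀ v ∈ X, (r * t * r⁻¹ * t⁻¹) * v = v * (r * t * r⁻¹ * t⁻¹)) :
    r * q = q * r := by
  have h1 : r * (t * w * t⁻¹) * r⁻¹ = t * (r * w * r⁻¹) * t⁻¹ := by
    have h2 := hc _ (htX _ (hrX w hw))
    calc r * (t * w * t⁻¹) * r⁻¹ =
        (r * t * r⁻¹ * t⁻¹) * (t * (r * w * r⁻¹) * t⁻¹) * (r * t * r⁻¹ * t⁻¹)⁻¹ := by group
      _ = t * (r * w * r⁻¹) * t⁻¹ * (r * t * r⁻¹ * t⁻¹) * (r * t * r⁻¹ * t⁻¹)⁻¹ := by rw [h2]
      _ = _ := by group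
  rw [htw] at h1
  have h3 : r * (w * q) * r⁻¹ = (r * w * r⁻¹) * (r * q * r⁻¹) := by group
  rw [h3] at h1
  rcases ht _ (hrX w hw) with h4 | h4
  · rw [h4] at h1
    have h5 : r * q * r⁻¹ = 1 := mul_eq_left.1 h1
    exact absurd (conj_eq_one_iff.1 h5) hq
  · rw [h4] at h1
    have h5 := mul_left_cancel h1
    rwa [mul_inv_eq_iff_eq_mul] at h5

/-- `V ⊓ DD M = 1` -/
theorem eq_one_of_DD (h : Sit S P V M) {v : G} (hv : v ∈ V) (hd : v ∈ DD M) : v = 1 := by
  classical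
  have h1 : ∀ p q : Pt k m, p.1 = q.1 → E M v p = E M v q := by
    intro p q hpq
    obtain ⟨g, hg, hgp⟩ := exists_swapP h hpq
    have hfst : ∀ r, (pp M g r).1 = r.1 := by
      intro r
      rw [hgp]
      rcases eq_or_ne r p with rfl | hr
      · rw [Equiv.swap_apply_left, hpq]
      · rcases eq_or_ne r q with rfl | hr'
        · rw [Equiv.swap_apply_right, hpq]
        · rw [Equiv.swap_apply_of_ne_of_ne hr hr']
    have h2 := (h.comm_iff hg hv).1 ((mem_DD.1 hd).2 g hg hfst) q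
    rw [hgp, Equiv.swap_apply_right] at h2
    exact h2
  refine Half.SymA.inj M hv (one_mem V) fun p => ?_
  rw [Half.SymA.E_one, h1 p (p.1, 0) rfl]
  exact Half.SymA.even0 M h.hm1 hv (i := p.1) (c := E M v (p.1, 0)) fun x _ => h1 _ _ rfl

/-- the action of an element inducing a transposition -/
theorem swap_act (h : Sit S P V M) {g : G} (hg : g ∈ P) {a b : Pt k m} (hab : a.1 = b.1) (hne : a ≠ b)
    (hgp : pp M g = Equiv.swap a b) {v : G} (hv : v ∈ V) :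
    g * v * g⁻¹ = v ∨ g * v * g⁻¹ = v * pr M a b := by
  classical
  by_cases hE : E M v a = E M v b
  · left
    rw [mul_inv_eq_iff_eq_mul]
    refine (h.comm_iff hg hv).2 fun r => ?_
    rw [hgp]
    rcases eq_or_ne r a with rfl | hr
    · rw [Equiv.swap_apply_left, hE]
    · rcases eq_or_ne r b with rfl | hr'
      · rw [Equiv.swap_apply_right, hE]
      · rw [Equiv.swap_apply_of_ne_of_ne hr hr']
  · right
    refine Half.SymA.inj M (h.amb.conj_mem hg hv) (mul_mem hv (pr_mem M _ _)) fun r => ?_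
    rw [E_conj' hg hv, Half.SymA.E_mul M hv (pr_mem M _ _), E_pr M hab, hgp, Equiv.swap_inv]
    have key : ∀ x y : ZMod 2, x ≠ y → y = x + 1 := by decide
    by_cases e1 : r = a
    · rw [e1, Equiv.swap_apply_left, if_pos rfl, if_neg hne, add_zero]
      exact key _ _ hE
    by_cases e2 : r = b
    · rw [e2, Equiv.swap_apply_right, if_pos rfl, if_neg hne.symm, zero_add]
      exact key _ _ (Ne.symm hE)
    · rw [Equiv.swap_apply_of_ne_of_ne e1 e2, if_neg e1, if_neg e2, add_zero, add_zero]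

/-- a 2-group normalised by `S` -/
theorem le_S_of [Finite G] {X : Subgroup G} (hX : IsPGroup 2 X) (hn : (S : Subgroup G) ≤ normalizer (X : Set G)) :
    X ≤ (S : Subgroup G) := by
  have : Fact (Nat.Prime 2) := ⟨Nat.prime_two⟩
  have h1 : IsPGroup 2 ((S : Subgroup G) ⊔ X : Subgroup G) := S.isPGroup'.to_sup_of_normal_right' hX hn
  have h2 := S.is_maximal' h1 le_sup_left
  rw [← h2]
  exact le_sup_right

section sgd

variable [Finite G] (h : Sit S P V M) (zv : zc (o2 P) ≤ V ⊔ DD M) {i : Fin k} {d : G} (hd : d ∈ DD M)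

/-- `O ⊓ C_G(σ_i)`, `O = O₂(C_G(σ_i d))` -/
noncomputable def O0 (h : Sit S P V M) (i : Fin k) (d : G) : Subgroup G :=
  o2 (centralizer ({(sg h i).val * d} : Set G)) ⊓ centralizer ({(sg h i).val} : Set G)

theorem mem_O0 {x : G} : x ∈ O0 h i d ↔ x ∈ o2 (centralizer ({(sg h i).val * d} : Set G)) ∧
    x * (sg h i).val = (sg h i).val * x := by
  unfold O0
  rw [mem_inf, mem_centralizer_singleton_iff]

include hd

theorem hn' : ∀ g ∈ P, (∀ p, (pp M g p).1 = p.1) → g * (sg h i).val = (sg h i).val * g →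
    g ∈ normalizer (o2 (centralizer ({(sg h i).val * d} : Set G)) : Set G) := fun _ hg hg1 hg2 =>
  le_normalizer_o2 _ (mem_K h hd hg hg1 hg2)

/-- the elements of `P` inside the summands which commute with `σ_i` normalise `O` -/
theorem conj_O {g x : G} (hg : g ∈ P) (hg1 : ∀ p, (pp M g p).1 = p.1) (hgσ : g * (sg h i).val = (sg h i).val * g)
    (hx : x ∈ o2 (centralizer ({(sg h i).val * d} : Set G))) :
    g * x * g⁻¹ ∈ o2 (centralizer ({(sg h i).val * d} : Set G)) :=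
  (mem_normalizer_iff.1 (hn' h hd g hg hg1 hgσ) x).1 hx

theorem conj_O0 {g x : G} (hg : g ∈ P) (hg1 : ∀ p, (pp M g p).1 = p.1) (hgσ : g * (sg h i).val = (sg h i).val * g)
    (hx : x ∈ O0 h i d) : g * x * g⁻¹ ∈ O0 h i d := by
  have h1 := (mem_O0 h).1 hx
  refine (mem_O0 h).2 ⟨conj_O h hd hg hg1 hgσ h1.1, ?_⟩
  have e : g⁻¹ * (sg h i).val = (sg h i).val * g⁻¹ := by
    rw [inv_mul_eq_iff_eq_mul, ← mul_assoc, hgσ, mul_inv_cancel_right]
  calc g * x * g⁻¹ * (sg h i).val = g * x * (g⁻¹ * (sg h i).val) := by group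
    _ = g * (x * (sg h i).val) * g⁻¹ := by rw [e]; group
    _ = g * (sg h i).val * x * g⁻¹ := by rw [h1.2]; group
    _ = (sg h i).val * (g * x * g⁻¹) := by rw [hgσ]; group

include zv

/-- **`O ⊓ C_G(σ_i) ≤ S0 h`** -/
theorem O0_le : O0 h i d ≤ S0 h := by
  refine lemR_b h zv i ((o2_isPGroup _).to_le inf_le_left) (mem_norm_of fun s hs x hx =>
    conj_O0 h hd (h.SP (S0_le h hs)) (S0_fst h hs) (S0_comm h hs i) hx) (fun y hy hy0 p hp => ?_)
    fun y hy => ((mem_O0 h).1 hy).2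
  exact act_out h (E_sg h i) (o2_isPGroup _) (sg_mem h i) (hn' h hd) ((mem_O0 h).1 hy).1 hy0 hp

/-- `O ⊓ S0 = O ⊓ C_G(σ_i)` -/
theorem O0_iff {x : G} : x ∈ O0 h i d ↔ x ∈ o2 (centralizer ({(sg h i).val * d} : Set G)) ∧ x ∈ S0 h :=
  ⟨fun hx => ⟨((mem_O0 h).1 hx).1, O0_le h zv hd hx⟩, fun hx => (mem_O0 h).2 ⟨hx.1, S0_comm h hx.2 i⟩⟩

/-- trivial outside of the summand `i` -/
theorem O0_out {x : G} (hx : x ∈ O0 h i d) {p : Pt k m} (hp : p.1 ≠ i) : pp M x p = p :=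
  act_out h (E_sg h i) (o2_isPGroup _) (sg_mem h i) (hn' h hd) ((mem_O0 h).1 hx).1 (O0_le h zv hd hx) hp

/-- an element of `O` normalising `S0` normalises `O ⊓ C_G(σ_i)` -/
theorem conj_w {w x : G} (hw : w ∈ o2 (centralizer ({(sg h i).val * d} : Set G)))
    (hwN : w ∈ normalizer (S0 h : Set G)) (hx : x ∈ O0 h i d) : w * x * w⁻¹ ∈ O0 h i d := by
  have h1 := (O0_iff h zv hd).1 hx
  exact (O0_iff h zv hd).2 ⟨mul_mem (mul_mem hw h1.1) (inv_mem hw), (mem_normalizer_iff.1 hwN x).1 h1.2⟩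

/-- `[w, S0] ≤ O ⊓ C_G(σ_i)` -/
theorem comm_w {w s : G} (hw : w ∈ o2 (centralizer ({(sg h i).val * d} : Set G)))
    (hwN : w ∈ normalizer (S0 h : Set G)) (hs : s ∈ S0 h) : w * s * w⁻¹ * s⁻¹ ∈ O0 h i d := by
  refine (O0_iff h zv hd).2 ⟨?_, mul_mem ((mem_normalizer_iff.1 hwN s).1 hs) (inv_mem hs)⟩
  have h1 := conj_O h hd (h.SP (S0_le h hs)) (S0_fst h hs) (S0_comm h hs i) (inv_mem hw)
  have e : w * s * w⁻¹ * s⁻¹ = w * (s * w⁻¹ * s⁻¹) := by group
  rw [e]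
  exact mul_mem hw h1

omit zv hd in
/-- the elements of `Ω₁Z(O₂(P))` which commute with `O ⊓ C_G(σ_i)` -/
def Vm (h : Sit S P V M) (i : Fin k) (d : G) : Set G := {z | z ∈ zc (o2 P) ∧ ∀ x ∈ O0 h i d, x * z = z * x}

/-- `V⁻` is normalised by `O ⊓ N(S0)` -/
theorem conj_Vm {w z : G} (hw : w ∈ o2 (centralizer ({(sg h i).val * d} : Set G)))
    (hwN : w ∈ normalizer (S0 h : Set G)) (hz : z ∈ Vm h i d) : w * z * w⁻¹ ∈ Vm h i d := by
  obtain ⟨hz1, hz2⟩ := hz
  have hwi := inv_mem hw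
  have hwNi := inv_mem hwN
  have key : ∀ x, w⁻¹ * x * w⁻¹⁻¹ * z = z * (w⁻¹ * x * w⁻¹⁻¹) → x * (w * z * w⁻¹) = w * z * w⁻¹ * x := by
    intro x h1
    rw [inv_inv] at h1
    calc x * (w * z * w⁻¹) = w * (w⁻¹ * x * w * z) * w⁻¹ := by group
      _ = w * (z * (w⁻¹ * x * w)) * w⁻¹ := by rw [h1]
      _ = w * z * w⁻¹ * x := by group
  have h1 : ∀ x ∈ o2 P, x * (w * z * w⁻¹) = w * z * w⁻¹ * x := by
    intro x hx
    refine key x ?_
    have h2 := hz2 _ (comm_w h zv hd hwi hwNi (Q_le_S0 h hx))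
    have h3 := (mem_zc.1 hz1).2.1 x hx
    calc w⁻¹ * x * w⁻¹⁻¹ * z = w⁻¹ * x * w⁻¹⁻¹ * x⁻¹ * (x * z) := by group
      _ = w⁻¹ * x * w⁻¹⁻¹ * x⁻¹ * z * x := by rw [h3]; group
      _ = z * (w⁻¹ * x * w⁻¹⁻¹ * x⁻¹) * x := by rw [h2]
      _ = z * (w⁻¹ * x * w⁻¹⁻¹) := by group
  refine ⟨mem_zc.2 ⟨h.cQ (mem_centralizer_iff.2 h1), h1, ?_⟩, fun x hx => key x (hz2 _ (conj_w h zv hd hwi hwNi hx))⟩
  have h2 := (mem_zc.1 hz1).2.2
  rw [pow_two] at h2 ⊢
  calc w * z * w⁻¹ * (w * z * w⁻¹) = w * (z * z) * w⁻¹ := by group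
    _ = 1 := by rw [h2]; group

/-- `V⁻` is normalised by the elements of `P` inside the summands which commute with `σ_i` -/
theorem conj_Vm' {g z : G} (hg : g ∈ P) (hg1 : ∀ p, (pp M g p).1 = p.1)
    (hgσ : g * (sg h i).val = (sg h i).val * g) (hz : z ∈ Vm h i d) : g * z * g⁻¹ ∈ Vm h i d := by
  obtain ⟨hz1, hz2⟩ := hz
  have hPN : P ≤ normalizer (zc (o2 P) : Set G) :=
    (le_normalizer_o2 P).trans (MinSimple.VModule.normalizer_le_normalizer_zc _)
  refine ⟨(mem_normalizer_iff.1 (hPN hg) z).1 hz1, fun x hx => ?_⟩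
  have hgi1 : ∀ p, (pp M g⁻¹ p).1 = p.1 := by
    intro p
    rw [h.inv hg]
    have h1 := hg1 ((pp M g)⁻¹ p)
    rw [show pp M g ((pp M g)⁻¹ p) = p from (pp M g).apply_symm_apply p] at h1
    exact h1.symm
  have hgiσ : g⁻¹ * (sg h i).val = (sg h i).val * g⁻¹ := by
    rw [inv_mul_eq_iff_eq_mul, ← mul_assoc, hgσ, mul_inv_cancel_right]
  have h1 := hz2 _ (conj_O0 h hd (inv_mem hg) hgi1 hgiσ hx)
  rw [inv_inv] at h1
  calc x * (g * z * g⁻¹) = g * (g⁻¹ * x * g * z) * g⁻¹ := by group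
    _ = g * (z * (g⁻¹ * x * g)) * g⁻¹ := by rw [h1]
    _ = g * z * g⁻¹ * x := by group

/-- the elements of `V` trivial on the summand `i` are in `V⁻` -/
theorem mem_Vm_out {v : G} (hv : v ∈ V) (hv0 : ∀ p : Pt k m, p.1 = i → E M v p = 0) : v ∈ Vm h i d := by
  refine ⟨h.VZ hv, fun x hx => ?_⟩
  have hx0 := O0_le h zv hd hx
  refine (h.comm_iff (h.SP (S0_le h hx0)) hv).2 fun p => ?_
  by_cases hp : p.1 = i
  · rw [hv0 p hp, hv0 _ ((S0_fst h hx0 p).trans hp)]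
  · rw [O0_out h zv hd hx hp]

/-- **`w` centralises the duads outside of the summand `i`** -/
theorem fixj {w : G} (hw : w ∈ o2 (centralizer ({(sg h i).val * d} : Set G)))
    (hwN : w ∈ normalizer (S0 h : Set G)) (hδ : w⁻¹ * (sg h i).val * w ∈ DD M) {a b : Pt k m} (hab : a.1 = b.1)
    (hai : a.1 ≠ i) : w * pr M a b = pr M a b * w := by
  classical
  by_cases hne : a = b
  · rw [← hne]
    have h1 : pr M a a = 1 := by
      refine Half.SymA.inj M (pr_mem M _ _) (one_mem V) fun p => ?_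
      rw [E_pr M (show a.1 = a.1 from rfl), Half.SymA.E_one]
      exact CharTwo.add_self_eq_zero _
    rw [h1, mul_one, one_mul]
  obtain ⟨u, hu, hup⟩ := exists_swapP h hab
  have hfst : ∀ r, (pp M u r).1 = r.1 := by
    intro r
    rw [hup]
    rcases eq_or_ne r a with rfl | hr
    · rw [Equiv.swap_apply_left, hab]
    · rcases eq_or_ne r b with rfl | hr'
      · rw [Equiv.swap_apply_right, hab]
      · rw [Equiv.swap_apply_of_ne_of_ne hr hr']
  have huσ : u * (sg h i).val = (sg h i).val * u := by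
    refine (h.comm_iff hu (sg_mem h i)).2 fun r => ?_
    rw [hup]
    rcases eq_or_ne r a with rfl | hr
    · rw [Equiv.swap_apply_left]
      exact (E_eq' h (E_sg h i) hab hai).symm
    · rcases eq_or_ne r b with rfl | hr'
      · rw [Equiv.swap_apply_right]
        exact E_eq' h (E_sg h i) hab hai
      · rw [Equiv.swap_apply_of_ne_of_ne hr hr']
  have hq : pr M a b ≠ 1 := fun e => by
    have h1 := E_pr_left M hab hne
    rw [e, Half.SymA.E_one] at h1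
    exact zero_ne_one h1
  -- the third letter
  obtain ⟨c, hc1, hc2⟩ := Half.SymA.exists_third h.hm1 a.2 b.2
  have hac : a.1 = ((a.1, c) : Pt k m).1 := rfl
  have hac' : a ≠ (a.1, c) := fun e => hc1 (congrArg Prod.snd e).symm
  have hbc' : b ≠ (a.1, c) := fun e => hc2 (congrArg Prod.snd e).symm
  have hX : pr M a (a.1, c) ∈ Vm h i d := by
    refine mem_Vm_out h zv hd (pr_mem M _ _) fun p hp => ?_
    refine E_pr_of_ne M hac (fun e => hai ?_) fun e => hai ?_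
    · rw [← hp, e]
    · rw [← hp, e]
  have htw : u * pr M a (a.1, c) * u⁻¹ = pr M a (a.1, c) * pr M a b := by
    rw [h.conj_pr hu hac, hup, Equiv.swap_apply_left, Equiv.swap_apply_of_ne_of_ne (Ne.symm hac') (Ne.symm hbc')]
    rw [← pr_mul M (show b.1 = a.1 from hab.symm) hac, h.Vcomm (pr_mem M b a) (pr_mem M _ _), pr_comm M hab.symm]
  have hcm : w * u * w⁻¹ * u⁻¹ ∈ O0 h i d := by
    refine (mem_O0 h).2 ⟨?_, ?_⟩
    · have h1 := conj_O h hd hu hfst huσ (inv_mem hw)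
      have e : w * u * w⁻¹ * u⁻¹ = w * (u * w⁻¹ * u⁻¹) := by group
      rw [e]
      exact mul_mem hw h1
    · have h1 := (mem_DD.1 hδ).2 u hu hfst
      have h2 : u⁻¹ * (sg h i).val = (sg h i).val * u⁻¹ := by
        rw [inv_mul_eq_iff_eq_mul, ← mul_assoc, huσ, mul_inv_cancel_right]
      calc w * u * w⁻¹ * u⁻¹ * (sg h i).val = w * u * w⁻¹ * (u⁻¹ * (sg h i).val) := by group
        _ = w * (u * (w⁻¹ * (sg h i).val * w)) * w⁻¹ * u⁻¹ := by rw [h2]; group
        _ = w * (w⁻¹ * (sg h i).val * w * u) * w⁻¹ * u⁻¹ := by rw [h1]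
        _ = (sg h i).val * (w * u * w⁻¹ * u⁻¹) := by group
  refine fix_center (X := Vm h i d) hq hX htw (fun v hv => conj_Vm h zv hd hw hwN hv) (fun z hz => ?_)
    (fun z hz => conj_Vm' h zv hd hu hfst huσ hz) fun z hz => hz.2 _ hcm
  obtain ⟨v, hv, c, hc, rfl⟩ := zz_dec' h (zv hz.1)
  have h1 := (mem_DD.1 hc).2 u hu hfst
  have h2 : u * (v * c) * u⁻¹ = u * v * u⁻¹ * c := by
    calc u * (v * c) * u⁻¹ = u * v * (c * u⁻¹) := by group
      _ = u * v * (u⁻¹ * (u * c) * u⁻¹) := by group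
      _ = u * v * (u⁻¹ * (c * u) * u⁻¹) := by rw [h1]
      _ = _ := by group
  have h3 : pr M a b * c = c * pr M a b := ZN.zc_comm (mem_DD.1 hc).1 (zc_le _ (h.VZ (pr_mem M a b)))
  rcases swap_act h hu hab hne hup hv with e | e
  · left; rw [h2, e]
  · right; rw [h2, e, mul_assoc, h3, ← mul_assoc]

/-- **The end.** -/
theorem end_false (hSd : ∀ s ∈ (S : Subgroup G), (pp M s (i, 0)).1 = i → s * d = d * s)
    (hSig : ∀ g : G, (∀ a b : Pt k m, a.1 = i → b.1 = i → g * pr M a b = pr M a b * g) →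
      g * ((sg h i).val * d) = (sg h i).val * d * g)
    {w : G} (hw : w ∈ o2 (centralizer ({(sg h i).val * d} : Set G)))
    (hwN : w ∈ normalizer (S0 h : Set G)) (hδ : w⁻¹ * (sg h i).val * w ∈ DD M) : False := by
  set y := (sg h i).val * d with hy
  have hwy : w * y = y * w := mem_centralizer_singleton_iff.1 (o2_le _ hw)
  -- `w` centralises the conjugates of `y`
  have key : ∀ s ∈ (S : Subgroup G), w * (s * y * s⁻¹) = s * y * s⁻¹ * w := by
    intro s hs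
    by_cases hsi : (pp M s (i, 0)).1 = i
    · have h1 : s * (sg h i).val = (sg h i).val * s := by
        refine (h.comm_iff (h.SP hs) (sg_mem h i)).2 fun p => ?_
        have h2 : (pp M s p).1 = i ↔ p.1 = i := by
          have h3 := pp_fst_iff h.amb h.hm1 (M := M) (h.SP hs) (p := p) (q := (i, 0))
          rwa [hsi] at h3
        rw [E_sg, E_sg]
        simp only [h2, h.snd hs]
      have h2 : s * y = y * s := by
        rw [hy, ← mul_assoc, h1, mul_assoc, hSd s hs hsi, mul_assoc]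
      rw [h2, mul_inv_cancel_right, hwy]
    · have h1 : s⁻¹ * w * s * y = y * (s⁻¹ * w * s) := by
        refine hSig _ fun a b ha hb => ?_
        have h2 := h.conj_pr (h.SP hs) (ha.trans hb.symm)
        have h3 : (pp M s a).1 = (pp M s b).1 := h.fst (h.SP hs) (ha.trans hb.symm)
        have h4 : (pp M s a).1 ≠ i := by
          rw [show (pp M s a).1 = (pp M s (i, 0)).1 from h.fst (h.SP hs) ha]
          exact hsi
        have h5 := fixj h zv hd hw hwN hδ h3 h4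
        rw [← h2] at h5
        calc s⁻¹ * w * s * pr M a b = s⁻¹ * (w * (s * pr M a b * s⁻¹)) * s := by group
          _ = s⁻¹ * (s * pr M a b * s⁻¹ * w) * s := by rw [h5]
          _ = pr M a b * (s⁻¹ * w * s) := by group
      calc w * (s * y * s⁻¹) = s * (s⁻¹ * w * s * y) * s⁻¹ := by group
        _ = s * (y * (s⁻¹ * w * s)) * s⁻¹ := by rw [h1]
        _ = s * y * s⁻¹ * w := by group
  set C : Subgroup G := centralizer {x | ∃ s ∈ (S : Subgroup G), x = s * y * s⁻¹} with hC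
  have hCK : C ≤ centralizer ({y} : Set G) := by
    intro g hg
    rw [mem_centralizer_singleton_iff]
    exact (mem_centralizer_iff.1 hg y ⟨1, one_mem _, by group⟩).symm
  have hwC : w ∈ C := by
    rw [hC, mem_centralizer_iff]
    rintro _ ⟨s, hs, rfl⟩
    exact (key s hs).symm
  have hN : o2 (centralizer ({y} : Set G)) ⊓ C ≤ o2 C := by
    refine le_o2 inf_le_right ((o2_isPGroup _).to_le inf_le_left) (mem_norm_of fun g hg x hx => ⟨?_, ?_⟩)
    · exact (mem_normalizer_iff.1 (le_normalizer_o2 _ (hCK hg)) x).1 hx.1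
    · exact C.mul_mem (C.mul_mem hg hx.2) (C.inv_mem hg)
  have hSC : (S : Subgroup G) ≤ normalizer (C : Set G) := mem_norm_of fun s hs g hg => by
    rw [hC, mem_centralizer_iff]
    rintro _ ⟨t, ht, rfl⟩
    have h1 := mem_centralizer_iff.1 hg (s⁻¹ * t * y * (s⁻¹ * t)⁻¹) ⟨s⁻¹ * t, mul_mem (inv_mem hs) ht, rfl⟩
    calc t * y * t⁻¹ * (s * g * s⁻¹) = s * (s⁻¹ * t * y * (s⁻¹ * t)⁻¹ * g) * s⁻¹ := by group
      _ = s * (g * (s⁻¹ * t * y * (s⁻¹ * t)⁻¹)) * s⁻¹ := by rw [h1]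
      _ = s * g * s⁻¹ * (t * y * t⁻¹) := by group
  have hSo : (S : Subgroup G) ≤ normalizer (o2 C : Set G) := by
    refine mem_norm_of fun g hg x hx => ?_
    have h3 : (o2 C).map (MulAut.conj g).toMonoidHom ≤ o2 C := by
      refine le_o2 ?_ ((o2_isPGroup C).map _) ?_
      · rintro _ ⟨c, hc, rfl⟩
        exact (mem_normalizer_iff.1 (hSC hg) c).1 (o2_le C hc)
      · refine mem_norm_of fun c hc x hx => ?_
        obtain ⟨b, hb, rfl⟩ := hx
        have h4 : g⁻¹ * c * g ∈ C := by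
          have := (mem_normalizer_iff.1 (hSC (inv_mem hg)) c).1 hc
          rwa [inv_inv] at this
        refine ⟨(g⁻¹ * c * g) * b * (g⁻¹ * c * g)⁻¹,
          (mem_normalizer_iff.1 (le_normalizer_o2 _ h4) b).1 hb, ?_⟩
        change g * ((g⁻¹ * c * g) * b * (g⁻¹ * c * g)⁻¹) * g⁻¹ = c * (g * b * g⁻¹) * c⁻¹
        group
    exact h3 ⟨x, hx, rfl⟩
  have hwS : w ∈ (S : Subgroup G) := le_S_of (o2_isPGroup C) hSo (hN ⟨hw, hwC⟩)
  have h1 : w⁻¹ * (sg h i).val * w ∈ V := by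
    have := h.amb.conj_mem (inv_mem (h.SP hwS)) (sg_mem h i)
    rwa [inv_inv] at this
  have h2 := eq_one_of_DD h h1 hδ
  have h3 : (sg h i).val = 1 := by
    have e : (sg h i).val = w * (w⁻¹ * (sg h i).val * w) * w⁻¹ := by group
    rw [e, h2]; group
  obtain ⟨c, hc, -⟩ := Half.SymA.exists_third h.hm1 (0 : Fin (2 ^ m + 1)) 0
  have h4 := E_sg h i (i, c)
  rw [h3, Half.SymA.E_one, if_pos rfl, if_neg hc] at h4
  exact zero_ne_one h4

end sgd

end Cfsg.Agent.Omega.IId.SymWrD.Ht.RE
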