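import Cfsg.Agent.Omega.IId.SymWrD.Ht.AlphaA2
import Cfsg.Agent.Omega.IId.SymWrD.Ht.AlphaTwoB
import Cfsg.Agent.Omega.IId.SymWrD.Ht.End
import Cfsg.Agent.Omega.IId.SwB.ESig

/-!
# II.d, `SwCv`, T-T: `YV` at `c = z* d` (bb OMEGA #22373, #22419)

Over `Ht.Fr S P V D M`, `Ω₁Z(O₂(P)) ≤ V ⊔ DD M`, `2 ≤ k` or `3 ≤ m`; `d ∈ DD M` commuting with `T = C_S(n)`.

* `Fr.sig_one` : `Sig c` for the elements centralising the line;
* `Fr.esig_all` : **`⟨V ^ C_G(σ d)⟩` is abelian** if `Sig (z* d)`;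
* `Fr.yv_sig` : `YV` at `z* d`;
* `Fr.hz` : the hypothesis `hz` of `EndCore.main` over every `R₀ ≥ T`.
-/

set_option autoImplicit false
set_option linter.unusedSectionVars false

namespace Cfsg.Agent.Omega.IId.SymWrD.Ht

open Subgroup Cfsg Cfsg.Agent.Omega.MinPar Cfsg.Agent.Omega.FFThm
open Cfsg.Agent.ZN (o2 zc)
open Cfsg.Agent.Omega.Half.SymA (Pt E Mv pm)
open Cfsg.Agent.Omega.HT.LineOf (Ln ln pts dd)
open Cfsg.Agent.Omega.BTwo (BT XX WW QQ O2)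
open Cfsg.Agent.Omega.HTwo.Hat (ZQ)
open Cfsg.Agent.MinSimple.VModule (le_normalizer_o2 o2_isPGroup o2_le mem_zc zc_le)

universe u

variable {G : Type u} [Group G] [Finite G] {k m : ℕ}

namespace Fr

variable {S : Sylow 2 G} {P V D : Subgroup G} {M : SymK (S : Subgroup G) P V ⊥ k m} (h : Fr S P V D M)
  {μ ν : Equiv.Perm (Pt k m)} (F : Fours M μ ν) {x : Pt k m} (hx : x.2 ≠ 0)
include h F hx

/-- `Sig c` for the elements centralising the line -/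
theorem sig_one {c : G}
    (hs : HT.Sig (ln (h.line3 (h.tri F hx))) (pts (pr M x (μ x)) (pr M x (x.1, 0))) 0 c) {g : G}
    (hg1 : g * pr M x (μ x) = pr M x (μ x) * g) (hg2 : g * pr M x (x.1, 0) = pr M x (x.1, 0) * g) :
    c⁻¹ * (g * c * g⁻¹) = 1 ∨ c⁻¹ * (g * c * g⁻¹) = pr M x (μ x) := by
  have t := h.tri F hx
  have hgd : ∀ i : Fin 3, g * dd (pr M x (μ x)) (pr M x (x.1, 0)) i = dd (pr M x (μ x)) (pr M x (x.1, 0)) i * g := by
    intro i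
    fin_cases i
    · exact hg1
    · exact hg2
    · show g * (pr M x (μ x) * pr M x (x.1, 0)) = pr M x (μ x) * pr M x (x.1, 0) * g
      rw [← mul_assoc, hg1, mul_assoc, hg2, mul_assoc]
  have hgN : g ∈ normalizer (pts (pr M x (μ x)) (pr M x (x.1, 0)) 0 : Set G) := by
    rw [(h.line3 t).normalizer_pts 0]
    exact mem_centralizer_singleton_iff.2 hg1
  have hv0 : pr M x (x.1, 0) ∉ pts (pr M x (μ x)) (pr M x (x.1, 0)) 0 := by
    rw [(h.line3 t).mem_pts]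
    rintro (e | e)
    · exact h.pr_ne t.pr t.n2 e
    · have e1 : pr M x (x.1, 0) = pr M x (μ x) := e
      exact (h.line3 t).ne e1.symm
  have h1 := hs g hgN (fun v hv => by
    rcases (h.line3 t).mem_ln.1 hv with rfl | ⟨i, rfl⟩
    · rw [mul_one, mul_inv_cancel]; exact one_mem _
    · rw [hgd i, mul_inv_cancel_right]
      exact mem_sup_left hv) _ ((h.line3 t).dd_mem 1) hv0
  have e : (pr M x (x.1, 0) * c)⁻¹ * g * (pr M x (x.1, 0) * c) * g⁻¹ = c⁻¹ * (g * c * g⁻¹) := by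
    calc (pr M x (x.1, 0) * c)⁻¹ * g * (pr M x (x.1, 0) * c) * g⁻¹ =
        c⁻¹ * ((pr M x (x.1, 0))⁻¹ * (g * pr M x (x.1, 0)) * c * g⁻¹) := by group
      _ = c⁻¹ * (g * c * g⁻¹) := by rw [hg2]; group
  have h2 : c⁻¹ * (g * c * g⁻¹) ∈ pts (pr M x (μ x)) (pr M x (x.1, 0)) 0 := by
    rw [← e]; exact h1
  exact (h.line3 t).mem_pts.1 h2

variable (zv : zc (o2 P) ≤ V ⊔ DD M) (hkm : 2 ≤ k ∨ 3 ≤ m)
include zv hkm

/-- **`⟨V ^ C_G(σ d)⟩` is abelian**, `Sig (z* d)` -/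
theorem esig_all {d : G} (hd : d ∈ DD M) (hdT : ∀ s ∈ tn S M μ x, s * d = d * s)
    (hs : HT.Sig (ln (h.line3 (h.tri F hx))) (pts (pr M x (μ x)) (pr M x (x.1, 0))) 0
      ((sg h.toSit x.1).val * pr M x (μ x) * d)) {g : G}
    (hg : g * ((sg h.toSit x.1).val * d) = (sg h.toSit x.1).val * d * g) {v w : G} (hv : v ∈ V) (hw : w ∈ V) :
    v * (g * w * g⁻¹) = g * w * g⁻¹ * v := by
  have hne : (sg h.toSit x.1).val * d ≠ 1 := by
    intro e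
    have h1 : (sg h.toSit x.1).val = d⁻¹ := mul_eq_one_iff_eq_inv.1 e
    have h2 := h.eq_one_of_DD (sg_mem h.toSit x.1) (by rw [h1]; exact inv_mem hd)
    have h3 := E_sg h.toSit x.1 x
    rw [h2, Half.SymA.E_one, if_pos rfl, if_neg hx] at h3
    exact zero_ne_one h3
  by_cases hm3 : 3 ≤ m
  · exact RD.esigD h.toSit h.char2 zv hm3 x.1 hd hne hg (h.VZ hv) (h.VZ hw)
  have hm2 : m = 2 := by have := h.hm; omega
  by_cases hD : ∃ e ∈ DD M, e ≠ 1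
  · obtain ⟨e, he, he1⟩ := hD
    refine RB.esigD_two h.toSit h.char2 zv x.1 hd hne ?_ he he1 hg hv hw
    exact AlphaA.o2_le_S0 (SD.of_fr h) zv F hm2 hx hd (fun s hs' hsn => hdT s ⟨hs', mem_centralizer_singleton_iff.2 hsn⟩)
      fun g hg1 hg2 => h.sig_one F hx hs hg1 hg2
  · push Not at hD
    have hd1 := hD d hd
    rw [hd1, mul_one] at hg
    refine SwB.esig h.toSit h.char2 (zv.trans (sup_le le_rfl fun e he => ?_)) hkm x.1
      (mem_centralizer_singleton_iff.2 hg) hv hw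
    rw [hD e he]
    exact one_mem _

/-- **`YV` at `z* d`** -/
theorem yv_sig {d : G} (hd : d ∈ DD M) (hdT : ∀ s ∈ tn S M μ x, s * d = d * s)
    (hs : HT.Sig (ln (h.line3 (h.tri F hx))) (pts (pr M x (μ x)) (pr M x (x.1, 0))) 0
      ((sg h.toSit x.1).val * pr M x (μ x) * d)) :
    HT.Main.YV (ln (h.line3 (h.tri F hx))) (pr M x (μ x)) ((sg h.toSit x.1).val * pr M x (μ x) * d) :=
  h.yv_of F hx hd fun _ hg _ hv => h.esig_all F hx zv hkm hd hdT hs hg hv (pr_mem M _ _)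

/-- **the hypothesis `hz` of `EndCore.main` over `R₀ ≥ T`** -/
theorem hz {R₀ : Subgroup G} (hR : tn S M μ x ≤ R₀)
    (b : HT.HTT R₀ (R₀ ⊔ h.X3 (h.tri F hx)) (ln (h.line3 (h.tri F hx))) (pts (pr M x (μ x)) (pr M x (x.1, 0))) 0)
    (hLE : ∀ i, HTwo.ThmA.LE (ln (h.line3 (h.tri F hx))) (pts (pr M x (μ x)) (pr M x (x.1, 0))) i)
    (h1 : HT.OtCore.OtD R₀ (ln (h.line3 (h.tri F hx))) (XX (ln (h.line3 (h.tri F hx)))
      (pts (pr M x (μ x)) (pr M x (x.1, 0)))) (pr M x (μ x))) :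
    ∀ c ∈ zc R₀ ⊓ centralizer ((R₀ ⊔ h.X3 (h.tri F hx) : Subgroup G) : Set G),
      HT.Sig (ln (h.line3 (h.tri F hx))) (pts (pr M x (μ x)) (pr M x (x.1, 0))) 0 c →
      ∃ z ∈ zc R₀ ⊓ centralizer ((R₀ ⊔ h.X3 (h.tri F hx) : Subgroup G) : Set G), z ≠ 1 ∧ (c = 1 ∨ c = z) ∧
        ¬ HOneTwo.UM (ln (h.line3 (h.tri F hx)))
          (HTwo.AlphaP.MP (ln (h.line3 (h.tri F hx))) (pts (pr M x (μ x)) (pr M x (x.1, 0))) 0 z) ≤
            QQ (pts (pr M x (μ x)) (pr M x (x.1, 0)) 0) := by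
  intro c hc hs
  have hr : ∀ y, y ∈ pts (pr M x (μ x)) (pr M x (x.1, 0)) 0 ↔ y = 1 ∨ y = pr M x (μ x) := fun _ =>
    (h.line3 (h.tri F hx)).mem_pts
  obtain ⟨d, hd, hdT, e⟩ := h.sig_eq F hx zv (h.Z0_le F hx hR hc) hs
  have hc1 : c ≠ 1 := by rw [e]; exact h.zst_ne' F hx hd
  refine ⟨c, hc, hc1, Or.inr rfl, ?_⟩
  refine HT.AlphaY.not_alpha b hr hLE hc hc1
    (HT.Main.gsys_of_core b hr hc hc1 (HT.EndCore.core b hr h1 hc)) ?_
  subst e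
  exact h.yv_sig F hx zv hkm hd hdT hs

end Fr

end Cfsg.Agent.Omega.IId.SymWrD.Ht
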