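import Cfsg.Agent.Omega.HT.OtCore
import Cfsg.Agent.Omega.Half.Basic
import Cfsg.Agent.Omega.HOne.Main
import Cfsg.Agent.ZN.ChoiceBase

/-!
# A mutual pair over a small `T̂` (helper155, on helper916's #22794)

`HatExit.exists_pair` : `OtD T L X r` (`L` a four-group, `T ≤ C(r)` a 2-subgroup of odd index), every involution
commuting with `T` lies in `T`, `Ω₁Z(T) = ⟨r⟩ Z₀`, `|Z₀| ≤ 2`, `L ≤ O₂(C(r))` does not commute with a conjugate
`L^t`, `t ∈ C(r)`, `|Ω₁Z(S)| ≥ 4`: then `T` is a Sylow 2-subgroup of `G`, a minimal parabolic `R ≤ ⟨T, X⟩` over `T`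
moving `r` has `V_R = L × Z₀`, and `(R, R^t)` is a mutual pair with `|V_R| = 2 |Ω₁Z(T)|`,
`C_{V_R}(O²(R)) ≥ Z₀ ≠ 1`.
-/

set_option autoImplicit false
set_option linter.unusedSectionVars false

namespace Cfsg.Agent.Omega.IId.SymWrD.Ht

open Subgroup Pointwise Cfsg Cfsg.Agent.Omega.MinPar
open Cfsg.Agent.ZN.ChoiceBase (cj mem_cj)
open Cfsg.Agent.ZN (o2 zc zl)
open Cfsg.Agent.Omega.HT.OtCore (OtD)
open Cfsg.Agent.Omega.HOne.Main (NonFree)
open Cfsg.Agent.Omega.FrameFF (cv)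
open Cfsg.Agent.MinSimple.VModule (le_normalizer_o2 o2_isPGroup o2_le mem_zc zc_le zl_le zc_le_zl le_normalizer_zl
  oddGen_le normalizer_le_normalizer_zc)
open scoped commutatorElement

universe u

namespace HatExit

variable {G : Type u} [Group G] [Finite G] {T L X : Subgroup G} {r : G}

/-- the elements of `L` outside `{1, r}` -/
theorem conj_cases (h : OtD T L X r) {s v : G} (hs : s ∈ T) (hv : v ∈ L) : s * v * s⁻¹ = v ∨ s * v * s⁻¹ = v * r := by
  by_cases h1 : v = 1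
  · left; rw [h1]; group
  by_cases h2 : v = r
  · left; rw [h2, h.T_r s hs]; group
  rcases h.V_four v hv h1 h2 _ (h.cj_mem hs hv) with e | e | e | e
  · exact absurd (conj_eq_one_iff.1 e) h1
  · exfalso
    apply h2
    calc v = s⁻¹ * (s * v * s⁻¹) * s := by group
      _ = s⁻¹ * (r * s) := by rw [e, mul_assoc]
      _ = s⁻¹ * (s * r) := by rw [h.T_r s hs]
      _ = r := by group
  · exact Or.inl e
  · exact Or.inr e

theorem r_mem_zc (h : OtD T L X r) : r ∈ zc T :=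
  mem_zc.2 ⟨h.V_T h.r_mem, fun s hs => h.T_r s hs, by rw [pow_two]; exact h.V_sq r h.r_mem⟩

theorem mem_L_zc (h : OtD T L X r) {v : G} (hv : v ∈ L) (hz : v ∈ zc T) : v = 1 ∨ v = r := by
  by_contra hcon
  push Not at hcon
  obtain ⟨a, ha, b, hb, hab, -⟩ := h.zt
  have hb1 : b ≠ 1 := by
    rintro rfl
    apply h.r_ne
    simpa using hab.symm
  have hz1 := (mem_zc.1 hz).2.1 a ha
  have hba : ∀ {c : G}, a * c = c * a → a * c * a⁻¹ = c := fun e => by rw [e]; group
  rcases h.V_four v hv hcon.1 hcon.2 b hb with e | e | e | e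
  · exact hb1 e
  · rw [e, hba (h.T_r a ha)] at hab
    exact h.r_ne (mul_eq_left.1 hab.symm)
  · rw [e, hba hz1] at hab
    exact h.r_ne (mul_eq_left.1 hab.symm)
  · have e1 : a * (v * r) = v * r * a := by
      rw [← mul_assoc, hz1, mul_assoc, h.T_r a ha, mul_assoc]
    rw [e, hba e1] at hab
    exact h.r_ne (mul_eq_left.1 hab.symm)

/-- `Ω₁Z(T) = ⟨r⟩ Z₀` -/
theorem zc_cases (h : OtD T L X r) (dec : ∀ z ∈ zc T, ∃ v ∈ L, ∃ c ∈ zc T ⊓ centralizer (X : Set G), z = v * c)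
    {z : G} (hz : z ∈ zc T) : ∃ c ∈ zc T ⊓ centralizer (X : Set G), z = c ∨ z = r * c := by
  obtain ⟨v, hv, c, hc, rfl⟩ := dec z hz
  refine ⟨c, hc, ?_⟩
  have h1 : v ∈ zc T := by
    have h2 := mul_mem hz (inv_mem hc.1)
    rwa [mul_inv_cancel_right] at h2
  rcases mem_L_zc h hv h1 with rfl | rfl
  · left; rw [one_mul]
  · exact Or.inr rfl

/-- **the mutual pair** -/
theorem exists_pair {S : Sylow 2 G} (hG : IsCharacteristicTwoType G) (h : OtD T L X r)
    (mem : ∀ z : G, z * z = 1 → (∀ t ∈ T, t * z = z * t) → z ∈ T)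
    (dec : ∀ z ∈ zc T, ∃ v ∈ L, ∃ c ∈ zc T ⊓ centralizer (X : Set G), z = v * c)
    (two : ∀ x ∈ zc T ⊓ centralizer (X : Set G), ∀ y ∈ zc T ⊓ centralizer (X : Set G), x ≠ 1 → y ≠ 1 → x = y)
    (h4 : 4 ≤ Nat.card (zc (S : Subgroup G))) (hLQ : L ≤ o2 (centralizer ({r} : Set G)))
    (par : ∃ t ∈ centralizer ({r} : Set G), ∃ v ∈ L, ∃ w ∈ L, v * (t * w * t⁻¹) ≠ t * w * t⁻¹ * v) :
    ∃ (T' : Sylow 2 G) (R : Subgroup G) (t : G), (T' : Subgroup G) = T ∧ NonFree (T' : Subgroup G) R R t ∧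
      Nat.card (zl (T' : Subgroup G) R) = 2 * Nat.card (zc (T' : Subgroup G)) := by
  classical
  have hrr := h.V_sq r h.r_mem
  -- a Sylow 2-subgroup
  obtain ⟨T', hTT'⟩ := h.T_p.exists_le_sylow
  have hzz : zc (T' : Subgroup G) ≤ zc T := by
    intro z hz
    have h1 := mem_zc.1 hz
    have h2 : ∀ t ∈ T, t * z = z * t := fun t ht => h1.2.1 t (hTT' ht)
    exact mem_zc.2 ⟨mem z (by rw [← pow_two]; exact h1.2.2) h2, h2, h1.2.2⟩
  have hc' : Nat.card (zc (T' : Subgroup G)) = Nat.card (zc (S : Subgroup G)) := by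
    refine Half.card_zc_of_card_eq S T'.isPGroup' ?_
    rw [S.card_eq_multiplicity, T'.card_eq_multiplicity]
  -- `Z₀ ≠ 1`
  have hZ0 : ∃ z₀ ∈ zc T ⊓ centralizer (X : Set G), z₀ ≠ 1 := by
    by_contra hcon
    push Not at hcon
    have h1 : zc T ≤ zpowers r := by
      intro z hz
      obtain ⟨c, hc, e⟩ := zc_cases h dec hz
      rw [hcon c hc, mul_one] at e
      rcases e with rfl | rfl
      · exact one_mem _
      · exact mem_zpowers _
    have h2 : Nat.card (zc (T' : Subgroup G)) ≤ Nat.card (zpowers r) :=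
      Nat.card_le_card_of_injective (Subgroup.inclusion (hzz.trans h1)) (Subgroup.inclusion_injective _)
    rw [Nat.card_zpowers] at h2
    have h3 : orderOf r ≤ 2 := orderOf_le_of_pow_eq_one (by norm_num) (by rw [pow_two]; exact hrr)
    omega
  obtain ⟨z₀, hz₀, hz₀1⟩ := hZ0
  have hz₀T := (mem_zc.1 hz₀.1)
  -- `|Ω₁Z(T)| ≤ 4`
  have h4' : Nat.card (zc T) ≤ 4 := by
    have key : ∀ z : zc T, ∃ p : Fin 2 × Fin 2, (z : G) = r ^ (p.1 : ℕ) * z₀ ^ (p.2 : ℕ) := by
      rintro ⟨z, hz⟩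
      obtain ⟨c, hc, e⟩ := zc_cases h dec hz
      by_cases hc1 : c = 1
      · rcases e with e | e
        · exact ⟨(0, 0), by simp [e, hc1]⟩
        · exact ⟨(1, 0), by simp [e, hc1]⟩
      · have hcz := two c hc z₀ hz₀ hc1 hz₀1
        rcases e with e | e
        · exact ⟨(0, 1), by simp [e, hcz]⟩
        · exact ⟨(1, 1), by simp [e, hcz]⟩
    choose f hf using key
    have hinj : Function.Injective f := fun a b hab => Subtype.ext (by rw [hf a, hf b, hab])
    have := Nat.card_le_card_of_injective f hinj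
    simpa using this
  have hze : zc (T' : Subgroup G) = zc T := Subgroup.eq_of_le_of_card_ge hzz (by omega)
  have hr' : r ∈ zc (T' : Subgroup G) := by rw [hze]; exact r_mem_zc h
  have hT'r : (T' : Subgroup G) ≤ centralizer ({r} : Set G) := fun t ht =>
    mem_centralizer_singleton_iff.2 ((mem_zc.1 hr').2.1 t ht)
  -- `T' = T`
  have hTe : T = (T' : Subgroup G) := by
    refine le_antisymm hTT' ?_
    have h1 : T.relIndex (T' : Subgroup G) ∣ T.relIndex (centralizer ({r} : Set G)) :=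
      Dvd.intro _ (Subgroup.relIndex_mul_relIndex _ _ _ hTT' hT'r)
    have h2 : T.relIndex (T' : Subgroup G) ∣ Nat.card (T' : Subgroup G) := Subgroup.relIndex_dvd_card _ _
    rw [T'.card_eq_multiplicity] at h2
    obtain ⟨a, -, ha⟩ := (Nat.dvd_prime_pow Nat.prime_two).1 h2
    have h3 : a = 0 := by
      by_contra ha0
      exact h.odd ((dvd_pow_self 2 ha0).trans (ha ▸ h1))
    rw [h3, pow_zero] at ha
    exact Subgroup.relIndex_eq_one.1 ha
  subst hTe
  -- `M = ⟨T, X⟩`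
  have hMn : (T' : Subgroup G) ⊔ X ≤ normalizer (L : Set G) := sup_le h.T_V h.X_V
  have hMc : ∀ c ∈ zc (T' : Subgroup G) ⊓ centralizer (X : Set G), ∀ y ∈ (T' : Subgroup G) ⊔ X, y * c = c * y := by
    intro c hc y hy
    have h1 : (T' : Subgroup G) ⊔ X ≤ centralizer ({c} : Set G) := by
      refine sup_le (fun t ht => ?_) fun x hx => ?_
      · exact mem_centralizer_singleton_iff.2 ((mem_zc.1 hc.1).2.1 t ht)
      · exact mem_centralizer_singleton_iff.2 (mem_centralizer_iff.1 hc.2 x hx)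
    exact mem_centralizer_singleton_iff.1 (h1 hy)
  have hL2 : IsPGroup 2 L := h.T_p.to_le h.V_T
  have hL1 : L ≠ ⊥ := by
    rintro rfl
    exact h.r_ne (mem_bot.1 h.r_mem)
  have hM : IsLoc (T' : Subgroup G) ((T' : Subgroup G) ⊔ X) := isLoc_of_le_normalizer T' le_sup_left hL2 hL1 hMn
  have hnot : ¬ (T' : Subgroup G) ⊔ X ≤ normalizer (zc (T' : Subgroup G) : Set G) := by
    intro hle
    obtain ⟨a, ha, b, hb, hab, -⟩ := h.zt
    have hb1 : b ≠ 1 := by
      rintro rfl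
      apply h.r_ne
      simpa using hab.symm
    have hbr : b ≠ r := by
      rintro rfl
      have e1 : a * b * a⁻¹ = b := by rw [h.T_r a ha]; group
      rw [e1] at hab
      exact h.r_ne (mul_eq_left.1 hab.symm)
    obtain ⟨x, hx, e⟩ := h.trans b hb hb1
    have h1 : x * r * x⁻¹ ∈ zc (T' : Subgroup G) :=
      (mem_normalizer_iff.1 (hle (mem_sup_right hx)) r).1 hr'
    rw [e] at h1
    rcases mem_L_zc h hb h1 with e | e
    · exact hb1 e
    · exact hbr e
  obtain ⟨R, hR, hRM, hRn⟩ := hM.exists_not_le T' (M := normalizer (zc (T' : Subgroup G) : Set G))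
    (inf_le_right.trans (normalizer_le_normalizer_zc _)) hnot
  have hRS : IsParS (T' : Subgroup G) R := ⟨hR, hRn⟩
  -- `V_R ≤ L Z₀`
  obtain ⟨Z, hZ⟩ : ∃ Z : Subgroup G, Z = zl (T' : Subgroup G) R := ⟨_, rfl⟩
  have hzcZ : zc (T' : Subgroup G) ≤ Z := by rw [hZ]; exact zc_le_zl _ _
  have hZE : Z ≤ L ⊔ (zc (T' : Subgroup G) ⊓ centralizer (X : Set G)) := by
    rw [hZ]
    refine zl_le (fun z hz => ?_) fun y hy => ?_
    · obtain ⟨v, hv, c, hc, rfl⟩ := dec z hz
      exact mul_mem (mem_sup_left hv) (mem_sup_right hc)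
    · have h1 : y ∈ normalizer (L : Set G) := hMn (hRM hy)
      have h2 : y ∈ normalizer ((zc (T' : Subgroup G) ⊓ centralizer (X : Set G) : Subgroup G) : Set G) := by
        refine centralizer_le_normalizer _ (mem_centralizer_iff.2 fun c hc => ?_)
        exact (hMc c hc y (hRM hy)).symm
      rw [mem_normalizer_iff_map_conj_eq] at h1 h2 ⊢
      rw [Subgroup.map_sup, h1, h2]
  have hZdec : ∀ z ∈ Z, ∃ v ∈ L, ∃ c ∈ zc (T' : Subgroup G) ⊓ centralizer (X : Set G), z = v * c := by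
    intro z hz
    have h1 := hZE hz
    have h3 : (zc (T' : Subgroup G) ⊓ centralizer (X : Set G) : Subgroup G) ≤ normalizer (L : Set G) := fun c hc =>
      h.T_V (zc_le _ hc.1)
    rw [← SetLike.mem_coe, coe_mul_of_right_le_normalizer_left _ _ h3] at h1
    obtain ⟨v, hv, c, hc, e⟩ := h1
    exact ⟨v, hv, c, hc, e.symm⟩
  -- `L ≤ V_R`
  obtain ⟨y, hy, hyr⟩ : ∃ y ∈ R, y * r * y⁻¹ ∉ zc (T' : Subgroup G) := by
    by_contra hcon
    push Not at hcon
    apply hRn
    have key : ∀ y ∈ R, ∀ z ∈ zc (T' : Subgroup G), y * z * y⁻¹ ∈ zc (T' : Subgroup G) := by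
      intro y hy z hz
      obtain ⟨c, hc, e⟩ := zc_cases h dec hz
      have h1 : y * c * y⁻¹ = c := by rw [hMc c hc y (hRM hy)]; group
      rcases e with e | e
      · rw [e, h1]; exact hc.1
      · have h2 : y * z * y⁻¹ = y * r * y⁻¹ * (y * c * y⁻¹) := by rw [e]; group
        rw [h2, h1]
        exact mul_mem (hcon y hy) hc.1
    intro y hy
    rw [mem_normalizer_iff]
    intro z
    refine ⟨key y hy z, fun hz => ?_⟩
    have h1 := key y⁻¹ (inv_mem hy) _ hz
    have h2 : y⁻¹ * (y * z * y⁻¹) * y⁻¹⁻¹ = z := by group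
    rwa [h2] at h1
  obtain ⟨b, hb⟩ : ∃ b, b = y * r * y⁻¹ := ⟨_, rfl⟩
  have hbL : b ∈ L := by
    rw [hb]
    exact (mem_normalizer_iff.1 (hMn (hRM hy)) r).1 h.r_mem
  have hbZ : b ∈ Z := by
    rw [hb, hZ]
    exact (mem_normalizer_iff.1 (le_normalizer_zl _ _ hy) r).1 (zc_le_zl _ _ hr')
  have hbz : b ∉ zc (T' : Subgroup G) := by rw [hb]; exact hyr
  have hb1 : b ≠ 1 := fun e => hbz (by rw [e]; exact one_mem _)
  have hbr : b ≠ r := fun e => hbz (by rw [e]; exact hr')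
  have hLZ : L ≤ Z := by
    intro v hv
    rcases h.V_four b hbL hb1 hbr v hv with e | e | e | e
    · rw [e]; exact one_mem _
    · rw [e]; exact hzcZ hr'
    · rw [e]; exact hbZ
    · rw [e]; exact mul_mem hbZ (hzcZ hr')
  -- `|V_R| = 2 |Ω₁Z(T)|`
  have hbb := h.V_sq b hbL
  have hidx : (zc (T' : Subgroup G)).relIndex Z = 2 := by
    rw [Subgroup.relIndex, index_eq_two_iff]
    refine ⟨⟨b, hbZ⟩, fun ⟨z, hz⟩ => ?_⟩
    rw [mem_subgroupOf, mem_subgroupOf]
    change Xor (z * b ∈ zc (T' : Subgroup G)) (z ∈ zc (T' : Subgroup G))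
    obtain ⟨v, hv, c, hc, rfl⟩ := hZdec z hz
    have hcb : c * b = b * c := ((mem_zc.1 hc.1).2.1 b (h.V_T hbL)).symm
    have e1 : v * c * b = v * b * c := by rw [mul_assoc, hcb, mul_assoc]
    have k1 : ∀ {w : G}, w * c ∈ zc (T' : Subgroup G) ↔ w ∈ zc (T' : Subgroup G) := fun {w} =>
      ⟨fun h1 => by
        have h2 := mul_mem h1 (inv_mem hc.1)
        rwa [mul_inv_cancel_right] at h2, fun h1 => mul_mem h1 hc.1⟩
    rw [e1, k1, k1]
    rcases h.V_four b hbL hb1 hbr v hv with e | e | e | e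
    · rw [e, one_mul]
      exact Or.inr ⟨one_mem _, hbz⟩
    · rw [e]
      refine Or.inr ⟨hr', fun h1 => hbz ?_⟩
      have h2 := mul_mem hr' h1
      rwa [← mul_assoc, hrr, one_mul] at h2
    · rw [e, hbb]
      exact Or.inl ⟨one_mem _, hbz⟩
    · have h5 : r * b = b * r := ((mem_zc.1 hr').2.1 b (h.V_T hbL)).symm
      have e2 : b * r * b = r := by rw [mul_assoc, h5, ← mul_assoc, hbb, one_mul]
      rw [e, e2]
      refine Or.inl ⟨hr', fun h1 => hbz ?_⟩
      have h2 := mul_mem h1 hr'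
      rwa [mul_assoc, hrr, mul_one] at h2
  have hcard : Nat.card Z = 2 * Nat.card (zc (T' : Subgroup G)) := by
    have h1 := Subgroup.card_mul_index ((zc (T' : Subgroup G)).subgroupOf Z)
    rw [← Subgroup.relIndex, hidx, Nat.card_congr (subgroupOfEquivOfLe hzcZ).toEquiv] at h1
    rw [← h1, mul_comm]
  -- `C_{V_R}(O²(R)) ≠ 1`
  have hcv : cv (T' : Subgroup G) R ≠ ⊥ := by
    intro h0
    apply hz₀1
    rw [← mem_bot, ← h0]
    refine mem_inf.2 ⟨zc_le_zl _ _ hz₀.1, mem_centralizer_iff.2 fun x hx => ?_⟩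
    exact hMc z₀ hz₀ x (hRM (oddGen_le _ hx))
  -- the mutual pair
  obtain ⟨t, ht, v₀, hv₀, w₀, hw₀, hne⟩ := par
  obtain ⟨Q, hQ⟩ : ∃ Q : Subgroup G, Q = o2 (centralizer ({r} : Set G)) := ⟨_, rfl⟩
  have hlocr : IsLoc (T' : Subgroup G) (centralizer ({r} : Set G)) :=
    isLoc_centralizer T' (by rw [pow_two]; exact hrr) h.r_ne hT'r
  have hQT : Q ≤ (T' : Subgroup G) := by rw [hQ]; exact hlocr.o2_le T'
  rw [← hQ] at hLQ
  have hQt : ∀ {s x : G}, s ∈ centralizer ({r} : Set G) → x ∈ Q → s * x * s⁻¹ ∈ Q := by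
    intro s x hs hx
    rw [hQ] at hx ⊢
    exact (mem_normalizer_iff.1 (le_normalizer_o2 _ hs) x).1 hx
  have hcQ : ∀ c ∈ zc (T' : Subgroup G), c ∈ Q := by
    intro c hc
    rw [hQ]
    refine hlocr.char2 T' hG (mem_inf.2 ⟨?_, mem_centralizer_iff.2 fun q hq => ?_⟩)
    · exact mem_centralizer_singleton_iff.2 ((mem_zc.1 hr').2.1 c (zc_le _ hc)).symm.symm
    · exact (mem_zc.1 hc).2.1 q (hQT (by rw [hQ]; exact hq))
  have hti : t⁻¹ ∈ centralizer ({r} : Set G) := inv_mem ht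
  have hrt : t * r * t⁻¹ = r := by rw [mem_centralizer_singleton_iff.1 ht]; group
  -- `Z₀` and its conjugate
  have hcc : ∀ c ∈ zc (T' : Subgroup G), ∀ q ∈ Q, q * c = c * q := fun c hc q hq => (mem_zc.1 hc).2.1 q (hQT hq)
  have hcc' : ∀ c ∈ zc (T' : Subgroup G), ∀ q ∈ Q, q * (t * c * t⁻¹) = t * c * t⁻¹ * q := by
    intro c hc q hq
    have h1 := hQt hti hq
    rw [inv_inv] at h1
    have h2 := hcc c hc _ h1
    calc q * (t * c * t⁻¹) = t * (t⁻¹ * q * t * c) * t⁻¹ := by group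
      _ = t * (c * (t⁻¹ * q * t)) * t⁻¹ := by rw [h2]
      _ = t * c * t⁻¹ * q := by group
  -- the commutator
  have hcomm : ∀ a ∈ Z, ∀ b ∈ Z, t * b * t⁻¹ * a * (t * b * t⁻¹)⁻¹ = a ∨
      t * b * t⁻¹ * a * (t * b * t⁻¹)⁻¹ = a * r := by
    intro a ha b hb
    obtain ⟨v, hv, c, hc, rfl⟩ := hZdec a ha
    obtain ⟨w, hw, d, hd, rfl⟩ := hZdec b hb
    have hs : t * w * t⁻¹ ∈ Q := hQt ht (hLQ hw)
    have e1 : t * (w * d) * t⁻¹ = t * w * t⁻¹ * (t * d * t⁻¹) := by group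
    have e2 : (t * d * t⁻¹) * (v * c) * (t * d * t⁻¹)⁻¹ = v * c := by
      rw [← hcc' d hd.1 _ (mul_mem (hLQ hv) (hcQ c hc.1))]; group
    have e3 : t * (w * d) * t⁻¹ * (v * c) * (t * (w * d) * t⁻¹)⁻¹ =
        t * w * t⁻¹ * (v * c) * (t * w * t⁻¹)⁻¹ := by
      rw [e1]
      calc t * w * t⁻¹ * (t * d * t⁻¹) * (v * c) * (t * w * t⁻¹ * (t * d * t⁻¹))⁻¹ =
          t * w * t⁻¹ * ((t * d * t⁻¹) * (v * c) * (t * d * t⁻¹)⁻¹) * (t * w * t⁻¹)⁻¹ := by group
        _ = _ := by rw [e2]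
    have e4 : t * w * t⁻¹ * (v * c) * (t * w * t⁻¹)⁻¹ = (t * w * t⁻¹ * v * (t * w * t⁻¹)⁻¹) * c := by
      have h1 := hcc c hc.1 _ hs
      calc t * w * t⁻¹ * (v * c) * (t * w * t⁻¹)⁻¹ = t * w * t⁻¹ * v * (c * (t * w * t⁻¹)⁻¹) := by group
        _ = t * w * t⁻¹ * v * ((t * w * t⁻¹)⁻¹ * (t * w * t⁻¹ * c) * (t * w * t⁻¹)⁻¹) := by group
        _ = t * w * t⁻¹ * v * ((t * w * t⁻¹)⁻¹ * (c * (t * w * t⁻¹)) * (t * w * t⁻¹)⁻¹) := by rw [h1]
        _ = _ := by group
    rw [e3, e4]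
    have hrc : c * r = r * c := ((mem_zc.1 hr').2.1 c (zc_le _ hc.1))
    rcases conj_cases h (hQT hs) hv with e | e
    · left; rw [e]
    · right; rw [e, mul_assoc, mul_assoc, hrc]
  have hrZ : r ∈ Z := hzcZ hr'
  have hcj : ∀ {x : G}, x ∈ cj t Z ↔ t⁻¹ * x * t ∈ Z := fun {x} => mem_cj
  have htZ : ∀ b ∈ Z, t * b * t⁻¹ ∈ cj t Z := fun b hb => by
    rw [hcj]
    have : t⁻¹ * (t * b * t⁻¹) * t = b := by group
    rwa [this]
  have hri : r⁻¹ = r := inv_eq_of_mul_eq_one_left hrr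
  have hm : Mutual (T' : Subgroup G) R R t := by
    refine ⟨hRS, hRS, ?_, ?_, ?_⟩
    · change zl (T' : Subgroup G) R ≤ normalizer ((cj t (zl (T' : Subgroup G) R) : Subgroup G) : Set G)
      rw [← hZ]
      have key : ∀ a ∈ Z, ∀ x ∈ cj t Z, a * x * a⁻¹ ∈ cj t Z := by
        intro a ha x hx
        have hx' := hcj.1 hx
        have ex : t * (t⁻¹ * x * t) * t⁻¹ = x := by group
        have h1 := hcomm a ha _ hx'
        rw [ex] at h1
        rcases h1 with e | e
        · have e1 : a * x * a⁻¹ = x := by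
            have e2 : x * a = a * x := by
              calc x * a = x * a * x⁻¹ * x := by group
                _ = a * x := by rw [e]
            rw [← e2]; group
          rw [e1]; exact hx
        · have e1 : a * x * a⁻¹ = a * r * a⁻¹ * x := by
            have e2 : x * a = a * r * x := by
              calc x * a = x * a * x⁻¹ * x := by group
                _ = a * r * x := by rw [e]
            have e3 : a * r = r * a := ((mem_zc.1 hr').2.1 a (by
              obtain ⟨v, hv, c, hc, rfl⟩ := hZdec a ha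
              exact mul_mem (h.V_T hv) (zc_le _ hc.1)))
            have e4 : a * r * a⁻¹ = r := by rw [e3]; group
            rw [e4]
            have e5 : x * a = r * (a * x) := by rw [e2, e3, mul_assoc]
            calc a * x * a⁻¹ = r * r * (a * x) * a⁻¹ := by rw [hrr, one_mul]
              _ = r * (r * (a * x)) * a⁻¹ := by group
              _ = r * (x * a) * a⁻¹ := by rw [e5]
              _ = r * x := by group
          rw [e1]
          refine mul_mem ?_ hx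
          have e3 : a * r = r * a := ((mem_zc.1 hr').2.1 a (by
              obtain ⟨v, hv, c, hc, rfl⟩ := hZdec a ha
              exact mul_mem (h.V_T hv) (zc_le _ hc.1)))
          have e4 : a * r * a⁻¹ = r := by rw [e3]; group
          rw [e4, ← hrt]
          exact htZ r hrZ
      intro a ha
      rw [mem_normalizer_iff]
      intro x
      refine ⟨key a ha x, fun hx => ?_⟩
      have h1 := key a⁻¹ (inv_mem ha) _ hx
      have h2 : a⁻¹ * (a * x * a⁻¹) * a⁻¹⁻¹ = x := by group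
      rwa [h2] at h1
    · change cj t (zl (T' : Subgroup G) R) ≤ _
      rw [← hZ]
      have key : ∀ x ∈ cj t Z, ∀ a ∈ Z, x * a * x⁻¹ ∈ Z := by
        intro x hx a ha
        have hx' := hcj.1 hx
        have ex : t * (t⁻¹ * x * t) * t⁻¹ = x := by group
        have h1 := hcomm a ha _ hx'
        rw [ex] at h1
        rcases h1 with e | e
        · rw [e]; exact ha
        · rw [e]; exact mul_mem ha hrZ
      intro x hx
      rw [mem_normalizer_iff]
      intro a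
      refine ⟨key x hx a, fun ha => ?_⟩
      have h1 := key x⁻¹ (inv_mem hx) _ ha
      have h2 : x⁻¹ * (x * a * x⁻¹) * x⁻¹⁻¹ = a := by group
      rwa [h2] at h1
    · intro h0
      rw [commutator_eq_bot_iff_le_centralizer] at h0
      have h1 : v₀ ∈ zl (T' : Subgroup G) R := by rw [← hZ]; exact hLZ hv₀
      have h2 : t * w₀ * t⁻¹ ∈ cj t (zl (T' : Subgroup G) R) := by rw [← hZ]; exact htZ _ (hLZ hw₀)
      exact hne (mem_centralizer_iff.1 (h0 h1) _ h2).symm
  have c1 : Nat.card (zl (T' : Subgroup G) R) = 2 * Nat.card (zc (T' : Subgroup G)) := by rw [← hZ]; exact hcard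
  exact ⟨T', R, t, rfl, ⟨hm, hcv, hcv⟩, c1⟩

end HatExit
end Cfsg.Agent.Omega.IId.SymWrD.Ht
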