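import Cfsg.Agent.Omega.IId.SymWrD.Ht.HatJ
import Cfsg.Agent.Omega.IId.SymWrD.Ht.HatPair
import Cfsg.Agent.Omega.IId.M4.HypCj
import Cfsg.Agent.Omega.F4Leaf.NoWrFree

/-!
# II.d, `SwBig` and `SwCv`, T-T over `T̂`: the exit `|Z₀(T̂)| ≤ 2` (helper155, on helper916's #22794)

* `HatExit.known` : the position of `HatExit.exists_pair` (file `HatPair`) gives a known group, by `PosExit`;

* `Fr.hat_exit` : the same over `Fr`, for `T̂ ≥ T = C_S(n)`, `|Z₀(T̂)| ≤ 2`, `|Ω₁Z(S)| ≥ 4`.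
-/

set_option autoImplicit false
set_option linter.unusedSectionVars false

namespace Cfsg.Agent.Omega.IId.SymWrD.Ht

open Subgroup Pointwise Cfsg Cfsg.Agent.Omega.MinPar Cfsg.Agent.Omega.FFThm Cfsg.Agent.Omega.Frame
open Cfsg.Agent.ZN (o2 zc zl)
open Cfsg.Agent.Omega.FrameFF (cv)
open Cfsg.Agent.Omega.FrameLE (AllIn)
open Cfsg.Agent.Omega.Half (Amb amb_of_loc)
open Cfsg.Agent.Omega.Half.SymA (Pt E Mv pm)
open Cfsg.Agent.Omega.HT.LineOf (Ln ln pts dd)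
open Cfsg.Agent.Omega.HT.OtCore (OtD)
open Cfsg.Agent.Omega.BTwo (BT XX WW QQ O2)
open Cfsg.Agent.Omega.F4Leaf.Cen.Main (PosExit)
open Cfsg.Agent.MinSimple.VModule (le_normalizer_o2 o2_isPGroup o2_le mem_zc zc_le zl_le zc_le_zl le_normalizer_zl
  oddGen_le normalizer_le_normalizer_zc)
open scoped commutatorElement

universe u

namespace HatExit

variable {G : Type u} [Group G] [Finite G] {T L X : Subgroup G} {r : G}

/-- **the exit** -/
theorem known {K : Cls.{u}} (hX : PosExit.{u}) {S : Sylow 2 G} (hH : Hyp K S) (h : OtD T L X r)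
    (mem : ∀ z : G, z * z = 1 → (∀ t ∈ T, t * z = z * t) → z ∈ T)
    (dec : ∀ z ∈ zc T, ∃ v ∈ L, ∃ c ∈ zc T ⊓ centralizer (X : Set G), z = v * c)
    (two : ∀ x ∈ zc T ⊓ centralizer (X : Set G), ∀ y ∈ zc T ⊓ centralizer (X : Set G), x ≠ 1 → y ≠ 1 → x = y)
    (h4 : 4 ≤ Nat.card (zc (S : Subgroup G))) (hLQ : L ≤ o2 (centralizer ({r} : Set G)))
    (par : ∃ t ∈ centralizer ({r} : Set G), ∃ v ∈ L, ∃ w ∈ L, v * (t * w * t⁻¹) ≠ t * w * t⁻¹ * v) :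
    IsKnownSimple' G := by
  obtain ⟨T', R, t, -, hm, c⟩ := exists_pair hH.ctx.char2 h mem dec two h4 hLQ par
  have hH' := hH.conj T'
  obtain ⟨P, V, ι, R', o, r, z, hp⟩ := F4Leaf.NoWrFree.exists_pos hH'.ctx T' hH'.typed hm c c
  exact hX G hH'.ctx T' hH'.full hH'.allIn P V ι R' o r z hp

end HatExit

namespace Fr

variable {G : Type u} [Group G] [Finite G] {k m : ℕ} {S : Sylow 2 G} {P V D : Subgroup G}
  {M : SymK (S : Subgroup G) P V ⊥ k m}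

/-- **The exit over `T̂`**: `|Z₀(T̂)| ≤ 2`, `|Ω₁Z(S)| ≥ 4`. -/
theorem hat_exit {K : Cls.{u}} (hX : PosExit.{u}) (hH : Hyp K S) (h : Fr S P V D M) {μ ν : Equiv.Perm (Pt k m)}
    (F : Fours M μ ν) {x : Pt k m} (hx : x.2 ≠ 0) (zv : zc (o2 P) ≤ V ⊔ DD M)
    (h4 : 4 ≤ Nat.card (zc (S : Subgroup G))) {T : Subgroup G} (hTT : tn S M μ x ≤ T) (hTp : IsPGroup 2 T)
    (hTN : T ≤ normalizer (ln (h.line3 (h.tri F hx)) : Set G)) (hTa : T ≤ centralizer ({pr M x (μ x)} : Set G))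
    (syl : ¬ 2 ∣ T.relIndex (centralizer ({pr M x (μ x)} : Set G)))
    (two : ∀ y ∈ zc T ⊓ centralizer ((T ⊔ h.X3 (h.tri F hx) : Subgroup G) : Set G),
      ∀ z ∈ zc T ⊓ centralizer ((T ⊔ h.X3 (h.tri F hx) : Subgroup G) : Set G), y ≠ 1 → z ≠ 1 → y = z) :
    IsKnownSimple' G := by
  have t := h.tri F hx
  have hX' : ∀ y ∈ zc T ⊓ centralizer (h.X3 (h.tri F hx) : Set G),
      y ∈ zc T ⊓ centralizer ((T ⊔ h.X3 (h.tri F hx) : Subgroup G) : Set G) := by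
    intro y hy
    refine mem_inf.2 ⟨hy.1, ?_⟩
    have h1 : T ⊔ h.X3 (h.tri F hx) ≤ centralizer ({y} : Set G) := by
      refine sup_le (fun s hs => ?_) fun s hs => ?_
      · exact mem_centralizer_singleton_iff.2 ((mem_zc.1 hy.1).2.1 s hs)
      · exact mem_centralizer_singleton_iff.2 (mem_centralizer_iff.1 hy.2 s hs)
    exact mem_centralizer_iff.2 fun s hs => mem_centralizer_singleton_iff.1 (h1 hs)
  have hzT : ∀ z ∈ zc T, ∀ y ∈ zc T, z * y = y * z := fun z hz y hy => (mem_zc.1 hy).2.1 z (zc_le _ hz)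
  refine HatExit.known hX hH (h.otD F hx hTT zv hTp hTN hTa syl) ?_ ?_ ?_ h4 ?_ ?_
  · intro z hzz hz
    have h2 : z ∈ zc (o2 P) := h.mem_zc_of F hx hzz fun y hy => hz y (hTT (h.Q_le_tn F hx hy))
    exact hTT (h.Q_le_tn F hx (zc_le _ h2))
  · intro z hz
    obtain ⟨v, hv, c, hcX, hcT, e⟩ := h.hdecT F hx hTT zv hTa hz
    have hvT : v ∈ T := hTT (h.V_le_tn F hx (h.ln_le t hv))
    have hv2 : v * v = 1 := h.Vsq (h.ln_le t hv)
    have hz1 := mem_zc.1 hz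
    have hc : c = v * z := by rw [e, ← mul_assoc, hv2, one_mul]
    have hcT' : c ∈ T := by rw [hc]; exact mul_mem hvT hz1.1
    refine ⟨v, hv, c, mem_inf.2 ⟨mem_zc.2 ⟨hcT', hcT, ?_⟩, mem_centralizer_iff.2 hcX⟩, e⟩
    have h1 := hz1.2.1 v hvT
    calc c ^ 2 = v * z * (v * z) := by rw [hc, pow_two]
      _ = z * v * (v * z) := by rw [h1]
      _ = z * (v * v) * z := by group
      _ = 1 := by rw [hv2, mul_one, ← pow_two]; exact hz1.2.2
  · exact fun y hy z hz => two y (hX' y hy) z (hX' z hz)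
  · exact (h.ln_le t).trans (h.V_le t.pq t.n1)
  · obtain ⟨s, hs, h1⟩ := h.exists_h t.pq t.n1
    have hE : E M (pr M x (x.1, 0)) x ≠ E M (pr M x (x.1, 0)) (μ x) := by
      rw [E_pr_left M t.pr t.n2, E_pr_of_ne M t.pr t.n1.symm t.n3]
      exact one_ne_zero
    have hv := pr_mem M x (x.1, 0)
    obtain ⟨⟨h2, h3⟩, -⟩ := h1 _ hv hE
    refine ⟨s, hs, _, (h.line3 t).dd_mem 1, _, (h.line3 t).dd_mem 1, fun hcon => ?_⟩
    have hcon' : pr M x (x.1, 0) * (s * pr M x (x.1, 0) * s⁻¹) = s * pr M x (x.1, 0) * s⁻¹ * pr M x (x.1, 0) := hcon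
    have hg : s * pr M x (x.1, 0) * s⁻¹ ∈ P := h.Qle t.pq t.n1 (h.KK_le t.pq t.n1 h2)
    have h5 := h.conj_swap hg t.pq h3 hv hE
    rw [← hcon', mul_inv_cancel_right] at h5
    exact h.pr_ne t.pq t.n1 (mul_eq_left.1 h5.symm)

end Fr

end Cfsg.Agent.Omega.IId.SymWrD.Ht
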