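import Cfsg.Agent.Omega.IId.SymWrD.Ht.LemJ

/-!
# II.d, `SwBig` and `SwCv`, T-T, `D` arbitrary: the sibling `34` of the duad `12`

Copy of `SymWr/Ht/Odd.lean` (helper916).

* `mem_tn_iff` : `T = C_S(12)` is the stabiliser of `{1, 2}` in `S`; `tn_nu` : `C_S(12) = C_S(34)`;
* `Fr.mem_Z0'` : `v d ∈ Z₀` for `v ∈ V`, `d ∈ DD M` commuting with `T`, `v` zero on the line; `Fr.sib_mem` : `34 ∈ Z₀`;
  `Fr.odd_MZ` : `T` has odd index in `⟨C(Ω₁Z(T)), X⟩`.
-/

set_option autoImplicit false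
set_option linter.unusedSectionVars false

namespace Cfsg.Agent.Omega.IId.SymWrD.Ht

open Subgroup Cfsg Cfsg.Agent.Omega.MinPar Cfsg.Agent.Omega.FFThm
open Cfsg.Agent.ZN (o2 zc)
open Cfsg.Agent.Omega.Half (Amb amb_of_loc)
open Cfsg.Agent.Omega.Half.SymA (Pt E Mv pm)
open Cfsg.Agent.Omega.HT.LineOf (Ln ln pts dd)
open Cfsg.Agent.Omega.BTwo (BT XX WW QQ O2)
open Cfsg.Agent.MinSimple.VModule (le_normalizer_o2 o2_isPGroup o2_le mem_zc zc_le)

universe u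

variable {G : Type u} [Group G] [Finite G] {k m : ℕ}

namespace Fr

variable {S : Sylow 2 G} {P V D : Subgroup G} {M : SymK (S : Subgroup G) P V ⊥ k m} (h : Fr S P V D M)
  {μ ν : Equiv.Perm (Pt k m)} (F : Fours M μ ν) {x : Pt k m} (hx : x.2 ≠ 0)
include h F hx

theorem mem_tn_iff {s : G} : s ∈ tn S M μ x ↔ s ∈ (S : Subgroup G) ∧ (pp M s x = x ∨ pp M s x = μ x) := by
  constructor
  · intro hs
    refine ⟨hs.1, ?_⟩
    rcases h.tn_pp F hx hs with e | e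
    · exact Or.inl e.1
    · exact Or.inr e.1
  · rintro ⟨hs, e⟩
    refine mem_inf.2 ⟨hs, mem_centralizer_singleton_iff.2 (h.comm_pr (h.SP hs) (F.mfst x).symm ?_)⟩
    have h1 := F.meqv s hs x
    rcases e with e | e
    · left
      rw [e] at h1
      exact ⟨e, h1⟩
    · right
      rw [e, F.msq] at h1
      exact ⟨e, h1⟩

theorem nu_ne : (ν x).2 ≠ 0 := fun e => hx (F.nnz.1 e)

/-- `C_S(12) = C_S(34)` -/
theorem tn_nu : tn S M μ (ν x) = tn S M μ x := by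
  have hn := h.nu_ne F hx
  have key : ∀ {y : Pt k m}, y.2 ≠ 0 → ∀ s ∈ (S : Subgroup G), (pp M s y = y ∨ pp M s y = μ y) →
      (pp M s (ν y) = ν y ∨ pp M s (ν y) = μ (ν y)) := by
    intro y hy s hs e
    rcases F.neqv s hs y with e1 | e1 <;> rcases e with e | e <;> rw [e] at e1
    · exact Or.inl e1
    · exact Or.inr (e1.trans (F.comm y).symm)
    · exact Or.inr e1
    · left
      rw [e1, ← F.comm, F.msq]
  ext s
  rw [h.mem_tn_iff F hx, h.mem_tn_iff F hn]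
  constructor
  · rintro ⟨hs, e⟩
    refine ⟨hs, ?_⟩
    have h1 := key hn s hs e
    rwa [F.nsq] at h1
  · rintro ⟨hs, e⟩
    exact ⟨hs, key hx s hs e⟩

/-- the elements of `V` which vanish on the line and commute with `T` lie in `Z₀` -/
theorem mem_Z0 {c : G} (hc : c ∈ V) (hT : ∀ s ∈ tn S M μ x, s * c = c * s) (h1 : E M c x = 0)
    (h2 : E M c (μ x) = 0) (h3 : E M c (x.1, 0) = 0) :
    c ∈ zc (tn S M μ x) ⊓ centralizer ((tn S M μ x ⊔ h.X3 (h.tri F hx) : Subgroup G) : Set G) := by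
  refine mem_inf.2 ⟨mem_zc.2 ⟨h.V_le_tn F hx hc, hT, by rw [pow_two]; exact h.Vsq hc⟩, ?_⟩
  have hle : tn S M μ x ⊔ h.X3 (h.tri F hx) ≤ centralizer ({c} : Set G) := by
    refine sup_le (fun s hs => mem_centralizer_singleton_iff.2 (hT s hs)) fun y hy =>
      mem_centralizer_singleton_iff.2 (h.X_comm (h.tri F hx) hc (by rw [h1, h2]) (by rw [h1, h3]) hy)
  exact mem_centralizer_iff.2 fun y hy => mem_centralizer_singleton_iff.1 (hle hy)

/-- the elements `v d`, `v ∈ V` zero on the line, `d ∈ DD M`, commuting with `T`, lie in `Z₀` -/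
theorem mem_Z0' {c d : G} (hc : c ∈ V) (hd : d ∈ DD M) (hT : ∀ s ∈ tn S M μ x, s * c = c * s)
    (hTd : ∀ s ∈ tn S M μ x, s * d = d * s) (h1 : E M c x = 0) (h2 : E M c (μ x) = 0) (h3 : E M c (x.1, 0) = 0) :
    c * d ∈ zc (tn S M μ x) ⊓ centralizer ((tn S M μ x ⊔ h.X3 (h.tri F hx) : Subgroup G) : Set G) := by
  refine mul_mem (h.mem_Z0 F hx hc hT h1 h2 h3) (mem_inf.2 ⟨mem_zc.2 ⟨?_, hTd, ?_⟩, ?_⟩)
  · exact h.Q_le_tn F hx (zc_le _ (mem_DD.1 hd).1)
  · rw [pow_two]; exact Sit.zz_sq (mem_DD.1 hd).1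
  · have hle : tn S M μ x ⊔ h.X3 (h.tri F hx) ≤ centralizer ({d} : Set G) :=
      sup_le (fun s hs => mem_centralizer_singleton_iff.2 (hTd s hs)) fun y hy =>
        mem_centralizer_singleton_iff.2 (h.X_DD (h.tri F hx) hd hy)
    exact mem_centralizer_iff.2 fun y hy => mem_centralizer_singleton_iff.1 (hle hy)

/-- `34 ∈ Z₀` -/
theorem sib_mem : pr M (ν x) (μ (ν x)) ∈ zc (tn S M μ x) ⊓
    centralizer ((tn S M μ x ⊔ h.X3 (h.tri F hx) : Subgroup G) : Set G) := by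
  have hn := h.nu_ne F hx
  have e1 : (ν x).1 = (μ (ν x)).1 := (F.mfst _).symm
  refine h.mem_Z0 F hx (pr_mem M _ _) (fun s hs => ?_) ?_ ?_ ?_
  · rw [← h.tn_nu F hx] at hs
    exact mem_centralizer_singleton_iff.1 hs.2
  · refine E_pr_of_ne M e1 (fun e => F.nne x hx e.symm) (fun e => F.nmu x hx ?_)
    have := congrArg μ e
    rw [F.msq] at this
    exact this.symm
  · refine E_pr_of_ne M e1 (fun e => F.nmu x hx e.symm) (fun e => F.nne x hx (μ.injective e).symm)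
  · refine E_pr_of_ne M e1 (fun e => hn ?_) (fun e => hn ?_)
    · rw [← e]
    · rw [← F.mnz, ← e]

theorem sib_ne : pr M (ν x) (μ (ν x)) ≠ 1 :=
  h.pr_ne (F.mfst _).symm (F.mne _ (h.nu_ne F hx)).symm

variable (zv : zc (o2 P) ≤ V ⊔ DD M)
  (syl : ∀ {y : Pt k m}, y.2 ≠ 0 → ¬ 2 ∣ (tn S M μ y).relIndex (centralizer ({pr M y (μ y)} : Set G)))
include zv syl

/-- `T` has odd index in `⟨C(Ω₁Z(T)), X⟩` -/
theorem odd_MZ : ¬ 2 ∣ (tn S M μ x).relIndex
    (HT.JunAB.MZ (tn S M μ x) (ln (h.line3 (h.tri F hx))) (pts (pr M x (μ x)) (pr M x (x.1, 0)))) := by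
  have hn := h.nu_ne F hx
  have b := h.htt F hx zv (syl hx)
  have h1 := HT.JunAB.MZ_le b (h.sib_mem F hx)
  have h2 : tn S M μ x ≤
      HT.JunAB.MZ (tn S M μ x) (ln (h.line3 (h.tri F hx))) (pts (pr M x (μ x)) (pr M x (x.1, 0))) := by
    refine le_trans (fun t ht => ?_) le_sup_left
    exact mem_centralizer_iff.2 fun y hy => ((mem_zc.1 hy).2.1 t ht).symm
  intro hd
  apply syl hn
  rw [h.tn_nu F hx, ← relIndex_mul_relIndex _ _ _ h2 h1]
  exact hd.mul_right _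

end Fr

end Cfsg.Agent.Omega.IId.SymWrD.Ht
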