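import Cfsg.Agent.Omega.IId.SymWr.Ht.LE
import Cfsg.Agent.Omega.IId.SymWrD.Ht.Odd
import Cfsg.Agent.Omega.HT.LemEA
import Cfsg.Agent.Omega.HT.Dt
import Cfsg.Agent.Omega.IId.ExcFree

/-!
# II.d, `SwBig` and `SwCv`, `T`-`T`, `D` arbitrary: LEMMA E over `T = C_S(n)` (bb OMEGA #19821, (LE))

`V` = the sum of `k` even-subset modules of degree `2 ^ m + 1`, `r = pr M a b` a duad, `N = C_G(r)`.
If `Λ ≤ R 0 × C_G(X)` is normalised by `N`, then `Λ ≤ R 0`.

Otherwise `Λ R 0` contains an involution `f = v d`, `v ∈ V`, `d ∈ DD M`, centralised by `X` and `T`.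
* `v ≠ 1` : `v` is not constant on `Δ = Ω_1 - {a, b}` or on another block `Δ`, so `Λ R 0` contains all duads
  inside `Δ`.  Three of them with product `1`: one of the three has its conjugate by the partner `h ∈ N` in
  `C_G(X)` (`kill`).
* `v = 1` : the conjugates of `r` under `C_G(f)` and under `C_G(r f)` commute (LEMMA J for `f` and for
  `pr M (ν x) (μ (ν x)) f`); `bip`.
-/

set_option autoImplicit false
set_option linter.unusedSectionVars false

namespace Cfsg.Agent.Omega.IId.SymWrD.Ht.LE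

open Subgroup Pointwise Cfsg Cfsg.Agent.Omega.MinPar Cfsg.Agent.Omega.FFThm
open Cfsg.Agent.ZN (o2 zc)
open Cfsg.Agent.Omega.Half.SymA (Pt E)
open Cfsg.Agent.Omega.BTwo Cfsg.Agent.Omega.HTwo Cfsg.Agent.Omega.HTwo.Par
open Cfsg.Agent.Omega.HT.LemEA (GoodA)
open Cfsg.Agent.Omega.HT.LineOf (Ln ln pts dd)
open Cfsg.Agent.Omega.IId.SymWr.Ht.LE (exists_sep exists_third)
open Cfsg.Agent.MinSimple.VModule (le_normalizer_o2 o2_isPGroup o2_le mem_zc zc_le)

universe u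

variable {G : Type u} [Group G] {P V : Subgroup G} {k m : ℕ}

/-! ### The orbit argument -/

/-- `e`, `r e` good, `e ∈ Ξ`, `Ξ` normalised by `N(R i)` and `Ξ ≤ R i × C_X`: contradiction -/
theorem bip [Finite G] {ι : Type*} {L : Subgroup G} {R : ι → Subgroup G} (b : BT L R) {i : ι} {r : G}
    (hr : ∀ x ∈ R i, x = 1 ∨ x = r)
    (hKr : ∀ g ∈ normalizer (R i : Set G), g * r = r * g) {T : Subgroup G} (hTV : T ≤ normalizer (L : Set G))
    (hodd : ¬ 2 ∣ T.relIndex (normalizer (R i : Set G)))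
    (hnc : ∃ k ∈ normalizer (R i : Set G), ∃ v ∈ L, ∃ w ∈ cj k L, v * w ≠ w * v) {Ξ : Subgroup G}
    (hKΞ : normalizer (R i : Set G) ≤ normalizer (Ξ : Set G)) (hΞ : ∀ l ∈ Ξ, ∃ a ∈ R i, a * l ∈ CenX L R)
    {e : G} (he : e ∈ Ξ) (g1 : GoodA r e) (g2 : GoodA r (r * e)) : False := by
  obtain ⟨k0, hk0, v0, hv0, w0, hw0, hne⟩ := hnc
  have hEk : ∀ k ∈ normalizer (R i : Set G), ∀ f ∈ Ξ, f ∈ centralizer (cj k (XX L R) : Set G) ∨
      r * f ∈ centralizer (cj k (XX L R) : Set G) := by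
    intro k hk f hf
    have h1 : k⁻¹ * f * k ∈ Ξ := conj_inv_mem_of_normalizer (hKΞ hk) hf
    obtain ⟨a, ha, h2⟩ := hΞ _ h1
    rw [centralizer_cj, mem_cj, mem_cj]
    rcases hr a ha with rfl | rfl
    · rw [one_mul] at h2
      exact Or.inl h2
    · right
      have h3 : k⁻¹ * (a * f) * k = a * (k⁻¹ * f * k) := by
        have h4 : k⁻¹ * a = a * k⁻¹ := by
          rw [inv_mul_eq_iff_eq_mul, ← mul_assoc, hKr k hk, mul_inv_cancel_right]
        calc k⁻¹ * (a * f) * k = (k⁻¹ * a) * f * k := by group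
          _ = _ := by rw [h4]; group
      rw [h3]; exact h2
  refine hne (HT.LemE.commute_of_bipartite hTV hodd
    (fun L' => ∀ k ∈ normalizer (R i : Set G), cj k L = L' → e ∈ centralizer (cj k (XX L R) : Set G)) ?_ ?_
    k0 hk0 v0 hv0 w0 hw0)
  · intro k hk l hl h1 h2 a ha c hc'
    exact HT.LemEA.comm_cj b hr g1 (hKr k hk) (hKr l hl) (h1 k hk rfl) (h2 l hl rfl) ha hc'
  · have key : ∀ k ∈ normalizer (R i : Set G),
        ¬ (∀ k' ∈ normalizer (R i : Set G), cj k' L = cj k L → e ∈ centralizer (cj k' (XX L R) : Set G)) →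
        ∃ k' ∈ normalizer (R i : Set G), cj k' L = cj k L ∧ r * e ∈ centralizer (cj k' (XX L R) : Set G) := by
      intro k hk h
      push Not at h
      obtain ⟨k', hk', e1, hne⟩ := h
      exact ⟨k', hk', e1, (hEk k' hk' e he).resolve_left hne⟩
    intro k hk l hl h1 h2 a ha c hc'
    obtain ⟨k', hk', e1, h3⟩ := key k hk h1
    obtain ⟨l', hl', e2, h4⟩ := key l hl h2
    rw [← e1] at ha
    rw [← e2] at hc'
    exact HT.LemEA.comm_cj b hr g2 (hKr k' hk') (hKr l' hl') h3 h4 ha hc'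

/-- `r ∈ Z(O₂(C(e)))` : the conjugates of `r` under `C(e)` commute -/
theorem goodA_of [Finite G] (hG : IsCharacteristicTwoType G) {r e : G} (hee : e * e = 1) (he1 : e ≠ 1)
    (hre : r * e = e * r) (hc : ∀ g ∈ o2 (centralizer ({e} : Set G)), g * r = r * g) : GoodA r e := by
  intro g hg
  have hr : r ∈ o2 (centralizer ({e} : Set G)) := by
    refine MinSimple.Geo.inf_centralizer_o2_le hG (MinSimple.Geo.isTwoLocal_centralizer hee he1)
      (mem_inf.2 ⟨mem_centralizer_singleton_iff.2 hre, ?_⟩)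
    rw [mem_centralizer_iff]
    exact hc
  have h1 : g * r * g⁻¹ ∈ o2 (centralizer ({e} : Set G)) :=
    (mem_normalizer_iff.1 (le_normalizer_o2 _ (mem_centralizer_singleton_iff.2 hg)) r).1 hr
  exact (hc _ h1).symm

/-! ### The frame -/

section main

variable {S : Sylow 2 G} {M : SymK (S : Subgroup G) P V ⊥ k m} {D : Subgroup G} (h : Fr S P V D M)

include h

/-- `f = v d`, `v ∈ V` separates `p`, `q`: a subgroup normalised by `N` containing `f` contains the duad -/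
theorem pr_mem_of {a b p q : Pt k m} (hab : a.1 = b.1) (hpq : p.1 = q.1) (hpa : p ≠ a) (hpb : p ≠ b) (hqa : q ≠ a)
    (hqb : q ≠ b) {Λ : Subgroup G} (hN : centralizer ({pr M a b} : Set G) ≤ normalizer (Λ : Set G)) {v d : G}
    (hv : v ∈ V) (hd : d ∈ DD M) (hfΛ : v * d ∈ Λ) (hne : E M v p ≠ E M v q) : pr M p q ∈ Λ := by
  classical
  have key : ∀ r : Pt k m, (Equiv.swap p q r).1 = r.1 := by
    intro r
    rcases eq_or_ne r p with rfl | hx
    · rw [Equiv.swap_apply_left, hpq]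
    · rcases eq_or_ne r q with rfl | hy
      · rw [Equiv.swap_apply_right, hpq]
      · rw [Equiv.swap_apply_of_ne_of_ne hx hy]
  obtain ⟨g, hg, h4⟩ := h.exists_pp (π := Equiv.swap p q) key
  have hgr : g * pr M a b = pr M a b * g := by
    refine h.comm_pr hg hab (Or.inl ⟨?_, ?_⟩)
    · rw [h4, Equiv.swap_apply_of_ne_of_ne hpa.symm hqa.symm]
    · rw [h4, Equiv.swap_apply_of_ne_of_ne hpb.symm hqb.symm]
  have hgN : g ∈ centralizer ({pr M a b} : Set G) := mem_centralizer_singleton_iff.2 hgr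
  have h5 : g * (v * d) * g⁻¹ ∈ Λ := (mem_normalizer_iff.1 (hN hgN) _).1 hfΛ
  have hgd : g * d = d * g := (mem_DD.1 hd).2 g hg fun r => by rw [h4]; exact key r
  have hdd : d * d = 1 := Sit.zz_sq (mem_DD.1 hd).1
  have h6 : pr M p q = v * (g * v * g⁻¹) := by
    rw [h.conj_swap hg hpq h4 hv hne, ← mul_assoc, h.Vsq hv, one_mul]
  have h7 : v * (g * v * g⁻¹) = (v * d) * (g * (v * d) * g⁻¹) := by
    have h8 : d * (g * v * g⁻¹) = g * v * g⁻¹ * d :=
      Sit.zz_comm (mem_DD.1 hd).1 (h.VZ (h.amb.conj_mem hg hv))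
    calc v * (g * v * g⁻¹) = v * (g * v * g⁻¹) * (d * d) := by rw [hdd, mul_one]
      _ = v * (g * v * g⁻¹ * d) * d := by group
      _ = v * d * (g * v * g⁻¹) * d := by rw [← h8]; group
      _ = v * d * (g * v * (g⁻¹ * d)) := by group
      _ = v * d * (g * v * (d * g⁻¹)) := by
          rw [show g⁻¹ * d = d * g⁻¹ by
            rw [inv_mul_eq_iff_eq_mul, ← mul_assoc, hgd, mul_inv_cancel_right]]
      _ = (v * d) * (g * (v * d) * g⁻¹) := by group
  rw [h6, h7]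
  exact mul_mem hfΛ h5

/-- an element of `X` inducing a transposition -/
theorem exists_sw [Finite G] {p q w : Pt k m} (hpq : p.1 = q.1) (hpw : p.1 = w.1) (npq : p ≠ q)
    (npw : p ≠ w) {ι : Type*} {L : Subgroup G} {R : ι → Subgroup G} (B : BT L R)
    {i j l : ι} (h0 : R i = zpowers (pr M p q)) (h1 : R j = zpowers (pr M p w)) (h2 : R l = zpowers (pr M q w))
    {g v : G} (hg : g ∈ normalizer (R i : Set G)) (hv : v ∈ L)
    (hgv : cj (g * v * g⁻¹) (R j) = R l) : g * v * g⁻¹ ∈ XX L R ∧ g * v * g⁻¹ ∈ P ∧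
      pp M (g * v * g⁻¹) = Equiv.swap p q := by
  have hx : g * v * g⁻¹ ∈ WW L (R i) := cj_le_WW hg (conj_mem_cj hv)
  have hx1 : g * v * g⁻¹ ∈ o2 (centralizer ({pr M p q} : Set G)) := by
    have h3 : g * v * g⁻¹ ∈ o2 (normalizer (R i : Set G)) := B.W_le_Q i hx
    rwa [h0, MinSimple.Basic.normalizer_zpowers_eq (by rw [pow_two]; exact h.Vsq (pr_mem M p q))] at h3
  have hP := h.Qle hpq npq hx1
  refine ⟨W_le_X L R i hx, hP, (h.Qpp hpq npq hx1).resolve_left fun h5 => ?_⟩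
  have h6 := mem_centralizer_iff.1 ((h.eq_one_iff hP).1 h5) (pr M p w) (pr_mem M p w)
  have h7 : g * v * g⁻¹ * pr M p w * (g * v * g⁻¹)⁻¹ = pr M p w := by
    rw [← h6, mul_inv_cancel_right]
  have h8 : pr M p w ∈ R l := by
    rw [← hgv, ← h7]
    exact conj_mem_cj (by rw [h1]; exact mem_zpowers _)
  have h9 : pr M p w ∈ zpowers (pr M q w) := by rw [← h2]; exact h8
  have h10 := E_pr_left M hpw npw
  rcases (HT.LineOf.mem_zp h.pr_sq).1 h9 with e | e
  · rw [e, Half.SymA.E_one M] at h10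
    exact zero_ne_one h10
  · rw [e, E_pr_of_ne M (hpq.symm.trans hpw) npq npw] at h10
    exact zero_ne_one h10

/-- if the conjugate of a duad outside `{a, b}` under the partner is centralised by `X`: contradiction -/
theorem kill [Finite G] {a b p q : Pt k m} (hab : a.1 = b.1) (hpq : p.1 = q.1) (npq : p ≠ q) (hpa : p ≠ a)
    (hpb : p ≠ b) (hqa : q ≠ a) (hqb : q ≠ b) {ι : Type*} {L : Subgroup G} {R : ι → Subgroup G} (B : BT L R)
    (hLV : L ≤ V) {i0 i1 i2 : ι} (hi : i1 ≠ i2) (hr1 : pr M a b ≠ 1) {g v : G}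
    (hgr : g * pr M a b * g⁻¹ = pr M a b) (hrR : pr M a b ∈ R i0) (hv : v ∈ L)
    (hgv : cj (g * v * g⁻¹) (R i1) = R i2) (hX : g * pr M p q * g⁻¹ ∈ CenX L R) : False := by
  set r := pr M a b with hrdef
  set y := pr M p q with hy
  obtain ⟨x, hx, hxR⟩ := B.trans_X_one i0 i1
  set u := g⁻¹ * x * g with hu
  have huy : u * y = y * u := by
    have h1 := mem_centralizer_iff.1 hX x hx
    calc u * y = g⁻¹ * (x * (g * y * g⁻¹)) * g := by rw [hu]; group
      _ = g⁻¹ * ((g * y * g⁻¹) * x) * g := by rw [h1]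
      _ = y * u := by rw [hu]; group
  have huC : u ∈ centralizer ({y} : Set G) := mem_centralizer_singleton_iff.2 huy
  have hEr : E M r p = E M r q := by
    rw [hrdef, E_pr_of_ne M hab hpa hpb, E_pr_of_ne M hab hqa hqb]
  have hrc : ∀ g ∈ o2 (centralizer ({y} : Set G)), g * r = r * g := fun g hg =>
    h.perp_comm hpq npq hg (pr_mem M a b) hEr
  have hvV : v ∈ V := hLV hv
  have hvQ : v ∈ o2 (centralizer ({y} : Set G)) := h.V_le hpq npq hvV
  -- `u r u⁻¹` commutes with `v`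
  have h1 : v * (u * r * u⁻¹) = u * r * u⁻¹ * v := by
    have h2 : u⁻¹ * v * u ∈ o2 (centralizer ({y} : Set G)) :=
      conj_inv_mem_of_normalizer (le_normalizer_o2 _ huC) hvQ
    have h3 := hrc _ h2
    calc v * (u * r * u⁻¹) = u * ((u⁻¹ * v * u) * r) * u⁻¹ := by group
      _ = u * (r * (u⁻¹ * v * u)) * u⁻¹ := by rw [h3]
      _ = u * r * u⁻¹ * v := by group
  have h4 : x * r * x⁻¹ ∈ R i1 := by rw [← hxR]; exact conj_mem_cj hrR
  have h5 : g * (u * r * u⁻¹) * g⁻¹ = x * r * x⁻¹ := by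
    calc g * (u * r * u⁻¹) * g⁻¹ = x * (g * r * g⁻¹) * x⁻¹ := by rw [hu]; group
      _ = x * r * x⁻¹ := by rw [hgr]
  have h6 : g * v * g⁻¹ * (x * r * x⁻¹) * (g * v * g⁻¹)⁻¹ = x * r * x⁻¹ := by
    calc g * v * g⁻¹ * (x * r * x⁻¹) * (g * v * g⁻¹)⁻¹
        = g * (v * (g⁻¹ * (x * r * x⁻¹) * g)) * v⁻¹ * g⁻¹ := by group
      _ = g * (v * (u * r * u⁻¹)) * v⁻¹ * g⁻¹ := by rw [← h5]; group
      _ = g * (u * r * u⁻¹ * v) * v⁻¹ * g⁻¹ := by rw [h1]
      _ = x * r * x⁻¹ := by rw [← h5]; group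
  have h7 : x * r * x⁻¹ ∈ R i2 := by
    rw [← hgv, ← h6]
    exact conj_mem_cj h4
  have h8 := B.eq_one hi h4 h7
  have h9 : r = 1 := by
    calc r = x⁻¹ * (x * r * x⁻¹) * x := by group
      _ = 1 := by rw [h8]; group
  exact hr1 h9

end main

/-! ### The theorem -/

section thm

variable [Finite G] {S : Sylow 2 G} {M : SymK (S : Subgroup G) P V ⊥ k m} {D : Subgroup G} (h : Fr S P V D M)
  {μ ν : Equiv.Perm (Pt k m)} (F : Fours M μ ν) {x : Pt k m} (hx : x.2 ≠ 0) (zv : zc (o2 P) ≤ V ⊔ DD M)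
  (syl : ¬ 2 ∣ (tn S M μ x).relIndex (centralizer ({pr M x (μ x)} : Set G)))

include h F hx zv syl

/-- `O₂(C(e)) ≤ T` for `1 ≠ e ∈ Z₀` -/
theorem o2_le_tn {e : G} (he : e ∈ zc (tn S M μ x) ⊓
    centralizer ((tn S M μ x ⊔ h.X3 (h.tri F hx) : Subgroup G) : Set G)) :
    o2 (centralizer ({e} : Set G)) ≤ tn S M μ x := by
  have hT : tn S M μ x ≤ centralizer ({e} : Set G) := fun s hs =>
    mem_centralizer_singleton_iff.2 ((mem_zc.1 he.1).2.1 s hs)
  have hX : h.X3 (h.tri F hx) ≤ centralizer ({e} : Set G) := fun y hy =>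
    mem_centralizer_singleton_iff.2 (mem_centralizer_iff.1 he.2 y (mem_sup_right hy))
  have h1 := h.lemJ' F hx zv syl (K := o2 (centralizer ({e} : Set G))) (hT.trans (le_normalizer_o2 _))
    (hX.trans (le_normalizer_o2 _)) (fun g hg => by
      obtain ⟨n, hn⟩ := o2_isPGroup (centralizer ({e} : Set G)) ⟨g, hg⟩
      refine ⟨n, ?_⟩
      have h2 : g ^ 2 ^ n = 1 := congrArg Subtype.val hn
      rw [h2]
      exact one_mem _)
  exact HT.LemE.le_of_odd (K := tn S M μ x ⊔ o2 (centralizer ({e} : Set G))) Fr.tn_p le_sup_left h1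
    (o2_isPGroup _) le_sup_right (hT.trans (le_normalizer_o2 _))

/-- `r` is good for `1 ≠ e ∈ Z₀` -/
theorem good {e : G} (he : e ∈ zc (tn S M μ x) ⊓
    centralizer ((tn S M μ x ⊔ h.X3 (h.tri F hx) : Subgroup G) : Set G)) (he1 : e ≠ 1) :
    GoodA (pr M x (μ x)) e := by
  have h1 := o2_le_tn h F hx zv syl he
  have hee : e * e = 1 := by rw [← pow_two]; exact (mem_zc.1 he.1).2.2
  have hre : pr M x (μ x) * e = e * pr M x (μ x) :=
    (mem_zc.1 he.1).2.1 _ (h.V_le_tn F hx (pr_mem M x (μ x)))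
  refine goodA_of h.char2 hee he1 hre fun g hg => ?_
  exact mem_centralizer_singleton_iff.1 (h1 hg).2

/-- `r` is good for `r d`, `1 ≠ d ∈ DD M` centralised by `T` -/
theorem good' {d : G} (hd : d ∈ DD M) (hTd : ∀ s ∈ tn S M μ x, s * d = d * s) (hd1 : d ≠ 1) :
    GoodA (pr M x (μ x)) (pr M x (μ x) * d) := by
  have hn := h.nu_ne F hx
  set n := pr M x (μ x) with hndef
  set n' := pr M (ν x) (μ (ν x)) with hn'
  have hnV : n ∈ V := pr_mem M _ _
  have hn'V : n' ∈ V := pr_mem M _ _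
  have hzz := (mem_DD.1 hd).1
  have hcomm : ∀ {v : G}, v ∈ V → v * d = d * v := fun hv => Sit.zz_comm (h.VZ hv) hzz
  have hdd : d * d = 1 := Sit.zz_sq hzz
  have hsq : ∀ {v : G}, v ∈ V → v * d * (v * d) = 1 := by
    intro v hv
    calc v * d * (v * d) = v * (d * v) * d := by group
      _ = (v * v) * (d * d) := by rw [← hcomm hv]; group
      _ = 1 := by rw [h.Vsq hv, hdd, one_mul]
  have hne : ∀ {v : G}, v ∈ V → v * d ≠ 1 := by
    intro v hv e
    have h1 : v = d⁻¹ := eq_inv_of_mul_eq_one_left e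
    have h2 := h.eq_one_of_DD hv (by rw [h1]; exact inv_mem hd)
    rw [h2, one_mul] at e
    exact hd1 e
  -- `n' d ∈ Z₀`
  have hZ : n' * d ∈ zc (tn S M μ x) ⊓
      centralizer ((tn S M μ x ⊔ h.X3 (h.tri F hx) : Subgroup G) : Set G) := by
    refine mul_mem (h.sib_mem F hx) ?_
    have h1 := h.mem_Z0' F hx (c := 1) (one_mem V) hd (fun s _ => by rw [mul_one, one_mul]) hTd
      (Half.SymA.E_one M _) (Half.SymA.E_one M _) (Half.SymA.E_one M _)
    rwa [one_mul] at h1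
  have h1 := o2_le_tn h F hx zv syl hZ
  -- `s ∈ S` inducing `ν`
  have hνD : ν ∈ F.FD := ⟨fun p => Or.inr (Or.inr (Or.inl rfl)), fun p => (F.comm p).symm⟩
  obtain ⟨s, hs, hsν⟩ := Fours.exists_D h.toSit F hνD
  have hsS : s ∈ (S : Subgroup G) := hs.1
  have hsP := h.SP hsS
  have hsn : s * n * s⁻¹ = n' := by
    rw [hndef, h.conj_pr hsP (F.mfst x).symm, hsν, hn', F.comm]
  have hsd : s * d = d * s := (mem_DD.1 hd).2 s hsP fun r => by rw [hsν]; exact F.nfst r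
  have hsnd : s * (n * d) * s⁻¹ = n' * d := by
    calc s * (n * d) * s⁻¹ = s * n * s⁻¹ * (s * d * s⁻¹) := by group
      _ = n' * d := by rw [hsn, mul_inv_eq_of_eq_mul hsd]
  refine goodA_of h.char2 (hsq hnV) (hne hnV) ?_ fun g hg => ?_
  · rw [← mul_assoc, mul_assoc n d n, ← hcomm hnV, ← mul_assoc]
  · have h2 : s * g * s⁻¹ ∈ o2 (centralizer ({n' * d} : Set G)) := ExcFree.o2_cj hsnd hg
    have h3 := h1 h2
    rw [← h.tn_nu F hx] at h3
    have h4 := mem_centralizer_singleton_iff.1 h3.2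
    change s * g * s⁻¹ * n' = n' * (s * g * s⁻¹) at h4
    rw [← hsn] at h4
    calc g * n = s⁻¹ * (s * g * s⁻¹ * (s * n * s⁻¹)) * s := by group
      _ = s⁻¹ * (s * n * s⁻¹ * (s * g * s⁻¹)) * s := by rw [h4]
      _ = n * g := by group

/-- **LEMMA E over `T = C_S(n)`, `D` arbitrary** -/
theorem le_tn (j : Fin 3) :
    ThmA.LE (ln (h.line3 (h.tri F hx))) (pts (pr M x (μ x)) (pr M x (x.1, 0))) j := by
  classical
  have t := h.tri F hx
  have b := h.htt F hx zv syl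
  have B := b.toBTS
  refine ThmA.le_all B.toBT (i := 0) (fun Λ hΛ hN => ?_) j
  by_contra hΛR
  set L := ln (h.line3 (h.tri F hx)) with hL
  set R := pts (pr M x (μ x)) (pr M x (x.1, 0)) with hR
  set r := pr M x (μ x) with hr
  set T := tn S M μ x with hT
  have hrV : r ∈ V := pr_mem M x (μ x)
  have hrr : r * r = 1 := h.Vsq hrV
  have h0 : R 0 = zpowers (pr M x (μ x)) := rfl
  have h1 : R 1 = zpowers (pr M x (x.1, 0)) := rfl
  have h2 : R 2 = zpowers (pr M (μ x) (x.1, 0)) := by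
    show zpowers (dd (pr M x (μ x)) (pr M x (x.1, 0)) 2) = _
    rw [show dd (pr M x (μ x)) (pr M x (x.1, 0)) 2 = pr M (μ x) (x.1, 0) from h.dd_two t]
  have hr1 : r ≠ 1 := h.pr_ne t.pq t.n1
  have hRK : ∀ y ∈ R 0, y = 1 ∨ y = r := fun y hy => (HT.LineOf.mem_zp h.pr_sq).1 hy
  have hrR : r ∈ R 0 := by rw [h0]; exact mem_zpowers r
  -- the normaliser of the point
  have hNr : normalizer (R 0 : Set G) = centralizer ({r} : Set G) := by
    rw [h0, MinSimple.Basic.normalizer_zpowers_eq (by rw [pow_two]; exact hrr)]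
  set K := centralizer ({r} : Set G) with hK
  have hKr : ∀ g ∈ K, g * r = r * g := fun g hg => mem_centralizer_singleton_iff.1 hg
  have hTK : T ≤ K := inf_le_right
  have hTL : T ≤ normalizer (L : Set G) := h.tn_norm F hx
  have hLV : L ≤ V := h.ln_le t
  -- `Ξ = R 0 Λ`
  set Ξ := R 0 ⊔ Λ with hΞ
  have hKΞ : K ≤ normalizer (Ξ : Set G) := by
    intro g hg
    have hgR : g ∈ normalizer (R 0 : Set G) := by rw [hNr]; exact hg
    rw [← cj_eq_self_iff, hΞ, cj_sup, cj_eq_self_iff.2 hgR, cj_eq_self_iff.2 (hN hgR)]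
  have hΞm : ∀ l ∈ Ξ, ∃ a' ∈ R 0, a' * l ∈ CenX L R := by
    intro l hl
    have h3 : Ξ ≤ RC B.toBT 0 := by
      refine sup_le (fun a' ha => ⟨a'⁻¹, inv_mem ha, ?_⟩) hΛ
      rw [inv_mul_cancel]
      exact one_mem _
    exact h3 hl
  have hE0 : Ξ ⊓ CenX L R ≠ ⊥ := by
    intro h'
    apply hΛR
    intro y hy
    obtain ⟨a', ha, hm⟩ := hΛ y hy
    have h3 : a' * y ∈ Ξ ⊓ CenX L R :=
      ⟨mul_mem ((le_sup_left : R 0 ≤ Ξ) ha) ((le_sup_right : Λ ≤ Ξ) hy), hm⟩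
    rw [h', mem_bot, mul_eq_one_iff_eq_inv] at h3
    have h4 : y = a'⁻¹ := by rw [h3, inv_inv]
    rw [h4]; exact inv_mem ha
  have hTΞ : T ≤ normalizer ((Ξ ⊓ CenX L R : Subgroup G) : Set G) := by
    intro s hs
    have h3 := B.toBT.NV_le_NCenX (hTL hs)
    rw [← cj_eq_self_iff, cj_inf, cj_eq_self_iff.2 (hKΞ (hTK hs)), cj_eq_self_iff.2 h3]
  have hQT : o2 K ≤ T := HT.LemE.le_of_odd (S.isPGroup'.to_le inf_le_left) inf_le_right syl
      (o2_isPGroup _) (o2_le _) (hTK.trans (le_normalizer_o2 _))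
  have hCT : Ξ ⊓ CenX L R ≤ T := by
    have h3 : CenX L R ≤ QQ (R 0) := (B.CenX_le_C).trans (iInf_le _ 0)
    have h4 : QQ (R 0) = o2 K := by
      change o2 (normalizer (R 0 : Set G)) = o2 K
      rw [hNr]
    rw [h4] at h3
    exact inf_le_right.trans (h3.trans hQT)
  have hTp : IsPGroup 2 T := S.isPGroup'.to_le inf_le_left
  obtain ⟨f, hf, hf1, hff, hfT⟩ := HT.LemE.exists_inv hTp hE0 hCT hTΞ
  have hfz : f ∈ zc T := mem_zc.2 ⟨hCT hf, fun g hg => (hfT g hg).symm, by rw [pow_two]; exact hff⟩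
  obtain ⟨v, hv, d, hd, hvT, hdT, e⟩ := h.zc_tn_dec F hx zv hfz
  have hfX : f ∈ CenX L R := hf.2
  -- `v = 1`
  by_cases hv1 : v = 1
  · rw [hv1, one_mul] at e
    subst e
    have hfZ : f ∈ zc T ⊓ centralizer ((T ⊔ h.X3 (h.tri F hx) : Subgroup G) : Set G) := by
      have h3 := h.mem_Z0' F hx (c := 1) (one_mem V) hd (fun s _ => by rw [mul_one, one_mul]) hdT
        (Half.SymA.E_one M _) (Half.SymA.E_one M _) (Half.SymA.E_one M _)
      rwa [one_mul] at h3
    have hi10 : (1 : Fin 3) ≠ 0 := by decide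
    have hi20 : (2 : Fin 3) ≠ 0 := by decide
    have hi12 : (1 : Fin 3) ≠ 2 := by decide
    refine bip B.toBT hRK (fun g hg => hKr g (by rwa [hNr] at hg)) hTL (by rw [hNr]; exact syl) ?_
      (by rw [hNr]; exact hKΞ) hΞm hf.1 (good h F hx zv syl hfZ hf1) (good' h F hx zv syl hd hdT hf1)
    obtain ⟨g, hgN, hgt⟩ := B.toBT.mt 0
    obtain ⟨⟨w, hwL, hw⟩, -⟩ := hgt 1 2 hi10 hi20
    by_contra hcon
    push Not at hcon
    have h3 : pr M x (x.1, 0) ∈ R 2 := by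
      have h4 : g * w * g⁻¹ * pr M x (x.1, 0) * (g * w * g⁻¹)⁻¹ = pr M x (x.1, 0) := by
        have h5 := hcon g hgN (pr M x (x.1, 0)) (B.toBT.R_le 1 (by rw [h1]; exact mem_zpowers _)) (g * w * g⁻¹)
          (conj_mem_cj hwL)
        rw [← h5, mul_inv_cancel_right]
      rw [← hw, ← h4]
      exact conj_mem_cj (by rw [h1]; exact mem_zpowers _)
    have h4 := B.toBT.eq_one hi12 (by rw [h1]; exact mem_zpowers _ : pr M x (x.1, 0) ∈ R 1) h3
    exact h.pr_ne t.pr t.n2 h4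
  -- `v ≠ 1`
  have hdX : ∀ y ∈ XX L R, y * d = d * y := fun y hy => h.X_DD t hd hy
  have hvX : ∀ y ∈ XX L R, y * v = v * y := by
    intro y hy
    have h3 := mem_centralizer_iff.1 hfX y hy
    rw [e] at h3
    have h4 : y * v * d = v * y * d := by
      calc y * v * d = y * (v * d) := by group
        _ = v * d * y := h3
        _ = v * (y * d) := by rw [hdX y hy]; group
        _ = v * y * d := by group
    exact mul_right_cancel h4
  obtain ⟨g, hgN, hgt⟩ := B.toBT.mt 0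
  obtain ⟨⟨w0, hw0L, hw0⟩, -⟩ := hgt 1 2 (by decide) (by decide)
  obtain ⟨hx1, hx1P, hx1s⟩ := exists_sw h t.pq t.pr t.n1 t.n2 B.toBT h0 h1 h2 hgN hw0L hw0
  obtain ⟨g', hgN', hgt'⟩ := B.toBT.mt 2
  obtain ⟨⟨w', hw'L, hw'⟩, -⟩ := hgt' 1 0 (by decide) (by decide)
  have h2' : R 2 = zpowers (pr M (x.1, 0) (μ x)) := by rw [h2, pr_comm M t.qr]
  have h1' : R 1 = zpowers (pr M (x.1, 0) x) := by rw [h1, pr_comm M t.pr]
  have h0' : R 0 = zpowers (pr M (μ x) x) := by rw [h0, pr_comm M t.pq]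
  obtain ⟨hx2, hx2P, hx2s⟩ := exists_sw h t.qr.symm t.pr.symm t.n3.symm t.n2.symm B.toBT h2' h1' h0' hgN' hw'L hw'
  have hEf : ∀ y ∈ XX L R, y ∈ P → ∀ p, E M v (pp M y p) = E M v p := fun y hy hyP =>
    (h.comm_iff hyP hv).1 (hvX y hy)
  have hE1 : E M v x = E M v (μ x) := by
    have := hEf _ hx1 hx1P (μ x)
    rwa [hx1s, Equiv.swap_apply_right] at this
  have hE2 : E M v (μ x) = E M v (x.1, 0) := by
    have := hEf _ hx2 hx2P (x.1, 0)
    rwa [hx2s, Equiv.swap_apply_left] at this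
  obtain ⟨p, q, hpq, hpa, hpb, hqa, hqb, hne⟩ := exists_sep (M := M) h.hm1 t.pq t.pr t.n2 t.n3 hv hv1 hE1
    (hE1.trans hE2)
  have npq : p ≠ q := fun e => hne (by rw [e])
  obtain ⟨w, hwp, hwa, hwb, hwp', hwq⟩ := exists_third h.hm (a := x) (b := μ x) (p := p) (q := q)
  -- three duads
  have m1 : pr M p q ∈ Ξ := by
    refine pr_mem_of h t.pq hpq hpa hpb hqa hqb hKΞ hv hd ?_ hne
    rw [← e]; exact hf.1
  have m2 : pr M q w ∈ Ξ := by
    refine pr_mem_of h t.pq (hpq.symm.trans hwp.symm) hqa hqb hwa hwb hKΞ (pr_mem M p q) (one_mem (DD M)) ?_ ?_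
    · rw [mul_one]; exact m1
    · rw [E_pr_right M hpq npq, E_pr_of_ne M hpq hwp' hwq]
      exact one_ne_zero
  have m3 : pr M p w ∈ Ξ := by
    rw [← pr_mul M hpq (hpq.symm.trans hwp.symm)]
    exact mul_mem m1 m2
  have hgK : g ∈ K := by rw [← hNr]; exact hgN
  have hgr : g * r * g⁻¹ = r := by rw [hKr g hgK, mul_inv_cancel_right]
  have hcase : ∀ y ∈ Ξ, g * y * g⁻¹ ∈ CenX L R ∨ r * (g * y * g⁻¹) ∈ CenX L R := by
    intro y hy
    obtain ⟨a', ha', hm'⟩ := hΞm _ (conj_mem_of_normalizer (hKΞ hgK) hy)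
    rcases hRK a' ha' with rfl | rfl
    · rw [one_mul] at hm'; exact Or.inl hm'
    · exact Or.inr hm'
  have hkill : ∀ p q : Pt k m, p.1 = q.1 → p ≠ q → p ≠ x → p ≠ μ x → q ≠ x → q ≠ μ x →
      g * pr M p q * g⁻¹ ∈ CenX L R → False := fun p q e1 e2 e3 e4 e5 e6 e7 =>
    kill h t.pq e1 e2 e3 e4 e5 e6 B.toBT hLV (by decide : (1 : Fin 3) ≠ 2) hr1 hgr hrR hw0L hw0 e7
  have hrc : ∀ y ∈ V, r * (g * y * g⁻¹) = g * y * g⁻¹ * r := by
    intro y hy
    calc r * (g * y * g⁻¹) = (g * r * g⁻¹) * (g * y * g⁻¹) := by rw [hgr]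
      _ = g * (r * y) * g⁻¹ := by group
      _ = g * (y * r) * g⁻¹ := by rw [h.Vcomm hrV hy]
      _ = g * y * g⁻¹ * (g * r * g⁻¹) := by group
      _ = g * y * g⁻¹ * r := by rw [hgr]
  rcases hcase _ m1 with c1 | c1
  · exact hkill p q hpq npq hpa hpb hqa hqb c1
  rcases hcase _ m2 with c2 | c2
  · exact hkill q w (hpq.symm.trans hwp.symm) hwq.symm hqa hqb hwa hwb c2
  rcases hcase _ m3 with c3 | c3
  · exact hkill p w hwp.symm hwp'.symm hpa hpb hwa hwb c3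
  -- `r ∈ C_X`
  have hrX : r ∈ CenX L R := by
    have h3 := mul_mem (mul_mem c1 c2) c3
    have h4 : r * (g * pr M p q * g⁻¹) * (r * (g * pr M q w * g⁻¹)) * (r * (g * pr M p w * g⁻¹)) = r := by
      have h5 : pr M p q * pr M q w * pr M p w = 1 := by
        rw [pr_mul M hpq (hpq.symm.trans hwp.symm)]
        exact h.Vsq (pr_mem M p w)
      calc r * (g * pr M p q * g⁻¹) * (r * (g * pr M q w * g⁻¹)) * (r * (g * pr M p w * g⁻¹))
          = r * ((g * pr M p q * g⁻¹) * r) * (g * pr M q w * g⁻¹) * (r * (g * pr M p w * g⁻¹)) := by group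
        _ = r * (r * (g * pr M p q * g⁻¹)) * (g * pr M q w * g⁻¹) * (r * (g * pr M p w * g⁻¹)) := by
            rw [hrc _ (pr_mem M p q)]
        _ = (r * r) * (g * (pr M p q * pr M q w) * g⁻¹) * (r * (g * pr M p w * g⁻¹)) := by group
        _ = (g * (pr M p q * pr M q w) * g⁻¹ * r) * (g * pr M p w * g⁻¹) := by rw [hrr]; group
        _ = r * (g * (pr M p q * pr M q w) * g⁻¹) * (g * pr M p w * g⁻¹) := by
            rw [hrc _ (mul_mem (pr_mem M p q) (pr_mem M q w))]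
        _ = r * (g * (pr M p q * pr M q w * pr M p w) * g⁻¹) := by group
        _ = r := by rw [h5]; group
    rwa [h4] at h3
  obtain ⟨y, hy, hyR⟩ := B.toBT.trans_X_one 0 1
  have h3 : y * r * y⁻¹ = r := by rw [mem_centralizer_iff.1 hrX y hy, mul_inv_cancel_right]
  have h4 : r ∈ R 1 := by
    rw [← hyR, ← h3]
    exact conj_mem_cj hrR
  exact hr1 (B.toBT.eq_one (by decide : (0 : Fin 3) ≠ 1) hrR h4)

end thm

end Cfsg.Agent.Omega.IId.SymWrD.Ht.LE
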