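import Cfsg.Agent.Omega.IId.SymWrD.Ht.Fr
import Cfsg.Agent.Omega.IId.SwB.LemR

/-!
# II.d, `SwCv`, T-T, `D` arbitrary: LEMMA R and (HF) with `D` (bb OMEGA #20414, #21846, #21945)

`SymWrD.Sit S P V M`, `Ω₁Z(O₂(P)) ≤ V ⊔ DD M`. Over the group `S0 h` of `SwB/LemR.lean` (helper770).

* `lemR` : **LEMMA R**: `Y` a 2-group normalised by `S0 h`, `Y ∩ S0 h` trivial on the summands outside `J`, `Y`
  centralises `σ_j`, `j ∈ J` ⟹ `Y ≤ S0 h`; `lemR_a` (`J = ∅`), `lemR_b` (`J = {i}`);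
* `HF` : a 2-subgroup `O` which is normalised by all elements of `P` inside the summands is contained in `O₂(P)`;
  `HF_o2`, `HF_nor`, `HF_cent`.
-/

set_option autoImplicit false

namespace Cfsg.Agent.Omega.IId.SymWrD.Ht.RD

open Cfsg.Agent.Omega.IId.SymWrD
open Cfsg.Agent.Omega.IId.SwB (S0 mem_S0 S0_le S0_fst S0_comm Q_le_S0 exists_in syl_S0 E_sum sg_eq_sum exists_ne_zero
  fix_block)
open Subgroup Pointwise Cfsg Cfsg.Agent.Omega.MinPar Cfsg.Agent.Omega.FFThm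
open Cfsg.Agent.ZN (o2 zc)
open Cfsg.Agent.Omega.Half.SymA (Pt E Mv pm Amb0)
open Cfsg.Agent.MinSimple.VModule (mem_zc zc_le zc_comm zc_sq zc_le_zl le_normalizer_o2 o2_isPGroup o2_le
  normalizer_le_normalizer_zc le_normalizer_zl mem_normalizer_of_map_le)

universe u

variable {G : Type u} [Group G] {P V : Subgroup G} {k m : ℕ} {S : Sylow 2 G} {M : SymK (S : Subgroup G) P V ⊥ k m}

/-- `ZZ = V DD` elementwise -/
theorem zz_dec' (h : Sit S P V M) {z : G} (hz : z ∈ V ⊔ DD M) : ∃ v ∈ V, ∃ c ∈ DD M, z = v * c := by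
  have hn : V ≤ normalizer (DD M : Set G) := by
    intro v hv
    rw [mem_normalizer_iff]
    intro c
    have hc : ∀ c ∈ DD M, v * c * v⁻¹ = c := fun c hc => by
      rw [zc_comm _ _ (h.VZ hv) _ (mem_DD.1 hc).1, mul_inv_cancel_right]
    have hc' : ∀ c ∈ DD M, v⁻¹ * c * v = c := fun c hc => by
      have := zc_comm _ _ (h.VZ hv) _ (mem_DD.1 hc).1
      rw [mul_assoc, ← this, inv_mul_cancel_left]
    refine ⟨fun h1 => by rwa [hc c h1], fun h1 => ?_⟩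
    have h2 := hc' _ h1
    have e : v⁻¹ * (v * c * v⁻¹) * v = c := by group
    rw [e] at h2
    rwa [h2]
  obtain ⟨v, hv, c, hc, e⟩ := mem_sup_norm hn hz
  exact ⟨v, hv, c, hc, e.symm⟩

theorem DD_sq {c : G} (hc : c ∈ DD M) : c * c = 1 := by
  rw [← pow_two]; exact (mem_zc.1 (mem_DD.1 hc).1).2.2

section core

variable [Finite G] (h : Sit S P V M) (zv : zc (o2 P) ≤ V ⊔ DD M) {J : Set (Fin k)} {w : G}
  (hw1 : ∀ s ∈ S0 h, w * s * w⁻¹ ∈ S0 h ∧ ∀ p : Pt k m, p.1 ∉ J → pp M (w * s * w⁻¹) p = pp M s p)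
  (hw2 : ∀ s ∈ S0 h, w⁻¹ * s * w ∈ S0 h ∧ ∀ p : Pt k m, p.1 ∉ J → pp M (w⁻¹ * s * w) p = pp M s p)

omit [Finite G] in
include hw2 in
theorem coreK {v : G} (hv : v ∈ V) (hvJ : ∀ p : Pt k m, p.1 ∈ J → E M v p = 0) {s : G} (hs : s ∈ S0 h)
    (hsJ : ∀ p : Pt k m, p.1 ∉ J → pp M s p = p) : s * (w * v * w⁻¹) = w * v * w⁻¹ * s := by
  obtain ⟨h1, h2⟩ := hw2 s hs
  have h3 : w⁻¹ * s * w * v = v * (w⁻¹ * s * w) := by
    rw [h.comm_iff (h.SP (S0_le h h1)) hv]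
    intro p
    by_cases hp : p.1 ∈ J
    · rw [hvJ p hp, hvJ _ (by rw [S0_fst h h1]; exact hp)]
    · rw [h2 p hp, hsJ p hp]
  calc s * (w * v * w⁻¹) = w * (w⁻¹ * s * w * v) * w⁻¹ := by group
    _ = w * (v * (w⁻¹ * s * w)) * w⁻¹ := by rw [h3]
    _ = w * v * w⁻¹ * s := by group

omit [Finite G] in
include zv hw2 in
theorem coreV {v : G} (hv : v ∈ V) (hvJ : ∀ p : Pt k m, p.1 ∈ J → E M v p = 0) :
    ∃ u ∈ V, ∃ c ∈ DD M, w * v * w⁻¹ = u * c := by
  have h1 : ∀ g ∈ o2 P, g * (w * v * w⁻¹) = w * v * w⁻¹ * g := fun g hg =>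
    coreK h hw2 hv hvJ (Q_le_S0 h hg) fun p _ => by rw [(h.mem_Q_iff (h.QS hg)).1 hg]; rfl
  refine zz_dec' h (zv (mem_zc.2 ⟨h.cQ (mem_centralizer_iff.2 h1), h1, ?_⟩))
  rw [pow_two]
  calc w * v * w⁻¹ * (w * v * w⁻¹) = w * (v * v) * w⁻¹ := by group
    _ = 1 := by rw [h.Vsq hv]; group

omit [Finite G] in
/-- `S0` centralises `DD` -/
theorem S0_DD {s c : G} (hs : s ∈ S0 h) (hc : c ∈ DD M) : s * c = c * s :=
  (mem_DD.1 hc).2 s (h.SP (S0_le h hs)) (S0_fst h hs)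

include hw2 in
theorem coreJ {v u c : G} (hv : v ∈ V) (hvJ : ∀ p : Pt k m, p.1 ∈ J → E M v p = 0) (hu : u ∈ V) (hc : c ∈ DD M)
    (e : w * v * w⁻¹ = u * c) {p q : Pt k m} (hp : p.1 ∈ J)
    (hpq : p.1 = q.1) (h0 : p.2 = 0 ↔ q.2 = 0) : E M u p = E M u q := by
  by_cases hp0 : p.2 = 0
  · rw [show p = q from Prod.ext hpq (hp0.trans (h0.1 hp0).symm)]
  · obtain ⟨s, hs, h1, h2⟩ := exists_in h hpq hp0 fun h3 => hp0 (h0.2 h3)
    have h3 := coreK h hw2 hv hvJ hs fun r hr => h2 r fun h4 => hr (h4 ▸ hp)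
    rw [e] at h3
    have h4 : s * u = u * s := by
      have h5 := S0_DD h hs hc
      have h6 : s * u * c = u * s * c := by
        rw [mul_assoc s u c, h3, mul_assoc u c s, ← h5, mul_assoc]
      exact mul_right_cancel h6
    rw [← h1]
    exact ((h.comm_iff (h.SP (S0_le h hs)) hu).1 h4 p).symm

include zv hw1 hw2 in
/-- the conjugate of a duad of the summand `l` is supported in the summand `l` -/
theorem coreD {l : Fin k} (hl : l ∉ J) {x y : Fin (2 ^ m + 1)} (hx : x ≠ 0) (hy : y ≠ 0) :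
    w * pr M (l, x) (l, y) * w⁻¹ ∈ V ∧ ∀ p : Pt k m, p.1 ≠ l → E M (w * pr M (l, x) (l, y) * w⁻¹) p = 0 := by
  have hsup : ∀ x y : Fin (2 ^ m + 1), ∀ p : Pt k m, p.1 ∈ J → E M (pr M (l, x) (l, y)) p = 0 := by
    intro x y p hp
    have h1 : p.1 ≠ l := fun h2 => hl (h2 ▸ hp)
    exact E_pr_of_ne M (show ((l, x) : Pt k m).1 = ((l, y) : Pt k m).1 from rfl) (fun h2 => h1 (congrArg Prod.fst h2))
      fun h2 => h1 (congrArg Prod.fst h2)
  obtain ⟨s, hs, h1, h2⟩ := exists_in h (p := (l, x)) (q := (l, y)) rfl hx hy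
  have h3 : pp M s (l, 0) = (l, 0) :=
    Prod.ext (S0_fst h hs (l, 0)) ((h.snd (S0_le h hs)).2 rfl)
  set v := pr M (l, x) (l, 0) with hv
  have h4 : s * v * s⁻¹ = pr M (l, 0) (l, y) := by
    rw [hv, h.conj_pr (h.SP (S0_le h hs)) (show ((l, x) : Pt k m).1 = ((l, 0) : Pt k m).1 from rfl), h1, h3,
      pr_comm M (show ((l, y) : Pt k m).1 = ((l, 0) : Pt k m).1 from rfl)]
  have h5 : pr M (l, x) (l, y) = v * (s * v * s⁻¹) := by
    rw [h4, hv, pr_mul M (show ((l, x) : Pt k m).1 = ((l, 0) : Pt k m).1 from rfl)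
      (show ((l, 0) : Pt k m).1 = ((l, y) : Pt k m).1 from rfl)]
  obtain ⟨h6, h7⟩ := hw1 s hs
  set t := w * s * w⁻¹ with ht
  obtain ⟨u, hu, c, hc, e⟩ := coreV h zv hw2 (v := v) (pr_mem M _ _) (hsup x 0)
  have htP := h.SP (S0_le h h6)
  have htu : t * u * t⁻¹ ∈ V := h.amb.conj_mem htP hu
  have h8 : w * pr M (l, x) (l, y) * w⁻¹ = u * (t * u * t⁻¹) := by
    have e1 : w * pr M (l, x) (l, y) * w⁻¹ = w * v * w⁻¹ * (t * (w * v * w⁻¹) * t⁻¹) := by
      rw [h5, ht]; group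
    have htc : t * c = c * t := S0_DD h h6 hc
    have huc : c * (t * u * t⁻¹) = t * u * t⁻¹ * c := zc_comm _ _ (mem_DD.1 hc).1 _ (h.VZ htu)
    rw [e1, e]
    calc u * c * (t * (u * c) * t⁻¹) = u * c * (t * u * (c * t⁻¹)) := by group
      _ = u * c * (t * u * (t⁻¹ * c)) := by
          rw [show c * t⁻¹ = t⁻¹ * c from by
            rw [eq_inv_mul_iff_mul_eq, ← mul_assoc, htc, mul_inv_cancel_right]]
      _ = u * (c * (t * u * t⁻¹)) * c := by group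
      _ = u * (t * u * t⁻¹) * (c * c) := by rw [huc]; group
      _ = u * (t * u * t⁻¹) := by rw [DD_sq hc, mul_one]
  rw [h8]
  refine ⟨mul_mem hu htu, fun p hp => ?_⟩
  rw [Half.SymA.E_mul M hu htu, E_conj' htP hu]
  set r := (pp M t)⁻¹ p with hr
  have h9 : pp M t r = p := (pp M t).apply_symm_apply p
  have h10 : r.1 = p.1 := by rw [← S0_fst h h6 r, h9]
  have h11 : E M u p = E M u r := by
    by_cases hpJ : p.1 ∈ J
    · refine coreJ h hw2 (pr_mem M _ _) (hsup x 0) hu hc e hpJ h10.symm ?_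
      rw [← h9, h.snd (S0_le h h6)]
    · have h12 : pp M t r = r := by
        rw [h7 r (by rw [h10]; exact hpJ), h2 r (by rw [h10]; exact hp)]
      rw [← h9, h12]
  rw [h11]
  exact CharTwo.add_self_eq_zero _

include zv hw1 hw2 in
/-- `w` centralises `σ_l`, `l ∉ J` -/
theorem core {l : Fin k} (hl : l ∉ J) : w * (sg h l).val = (sg h l).val * w := by
  let W : AddSubgroup (ZM P) :=
    { carrier := {v | v.val ∈ V ∧ w * v.val * w⁻¹ ∈ V ∧ ∀ p : Pt k m, p.1 ≠ l → E M (w * v.val * w⁻¹) p = 0}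
      zero_mem' := ⟨one_mem V, by
        rw [ZM.val_zero, mul_one, mul_inv_cancel]
        exact one_mem V, fun p _ => by
        rw [ZM.val_zero, mul_one, mul_inv_cancel]
        exact Half.SymA.E_one M p⟩
      add_mem' := by
        rintro a b ⟨ha, ha1, ha2⟩ ⟨hb, hb1, hb2⟩
        have e : w * (a + b).val * w⁻¹ = w * a.val * w⁻¹ * (w * b.val * w⁻¹) := by rw [ZM.val_add]; group
        refine ⟨mul_mem ha hb, ?_, fun p hp => ?_⟩
        · rw [e]; exact mul_mem ha1 hb1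
        · rw [e, Half.SymA.E_mul M ha1 hb1, ha2 p hp, hb2 p hp, add_zero]
      neg_mem' := by
        rintro a ⟨ha, ha1, ha2⟩
        have e : w * (-a).val * w⁻¹ = (w * a.val * w⁻¹)⁻¹ := by rw [ZM.val_neg]; group
        refine ⟨inv_mem ha, ?_, fun p hp => ?_⟩
        · rw [e]; exact inv_mem ha1
        · rw [e, Half.SymA.E_inv M ha1, ha2 p hp] }
  obtain ⟨x₀, hx₀⟩ := exists_ne_zero h.hm1
  have h1 : sg h l ∈ W := by
    rw [sg_eq_sum h l x₀]
    refine AddSubgroup.sum_mem _ fun x hx => ?_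
    obtain ⟨h2, h3⟩ := coreD h zv hw1 hw2 hl (Finset.mem_filter.1 hx).2 hx₀
    exact ⟨pr_mem M _ _, h2, h3⟩
  obtain ⟨-, h2, h3⟩ := h1
  set u := w * (sg h l).val * w⁻¹ with hu
  -- `u` is fixed by `S0`
  have h4 : ∀ s ∈ S0 h, s * u = u * s := by
    intro s hs
    have h5 := S0_comm h (hw2 s hs).1 l
    calc s * u = w * (w⁻¹ * s * w * (sg h l).val) * w⁻¹ := by rw [hu]; group
      _ = w * ((sg h l).val * (w⁻¹ * s * w)) * w⁻¹ := by rw [h5]
      _ = u * s := by rw [hu]; group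
  have h5 : ∀ x y : Fin (2 ^ m + 1), x ≠ 0 → y ≠ 0 → E M u (l, x) = E M u (l, y) := by
    intro x y hx hy
    obtain ⟨s, hs, h6, -⟩ := exists_in h (p := (l, x)) (q := (l, y)) rfl hx hy
    rw [← h6]
    exact ((h.comm_iff (h.SP (S0_le h hs)) h2).1 (h4 s hs) _).symm
  have h6 : E M u (l, 0) = 0 :=
    Half.SymA.even0 M h.hm1 h2 (i := l) (c := E M u (l, x₀)) fun x hx => h5 x x₀ hx hx₀
  have h7 : u = (sg h l).val := by
    refine Half.SymA.inj M h2 (sg_mem h l) fun p => ?_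
    rw [E_sg]
    by_cases hp : p.1 = l
    · rw [if_pos hp]
      by_cases hp0 : p.2 = 0
      · rw [if_pos hp0, show p = (l, 0) from Prod.ext hp hp0]; exact h6
      · rw [if_neg hp0]
        rcases Half.SymA.zmod2 (E M u (l, x₀)) with h8 | h8
        · exfalso
          have h9 : u = 1 := by
            refine Half.SymA.inj M h2 (one_mem V) fun q => ?_
            rw [Half.SymA.E_one]
            by_cases hq : q.1 = l
            · by_cases hq0 : q.2 = 0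
              · rw [show q = (l, 0) from Prod.ext hq hq0]; exact h6
              · rw [show q = (l, q.2) from Prod.ext hq rfl, h5 _ _ hq0 hx₀]; exact h8
            · exact h3 q hq
          have h10 : (sg h l).val = 1 := by
            rw [hu] at h9
            have h11 : (sg h l).val = w⁻¹ * (w * (sg h l).val * w⁻¹) * w := by group
            rw [h11, h9]; group
          have h11 := E_sg h l (l, x₀)
          rw [h10, Half.SymA.E_one, if_pos rfl, if_neg hx₀] at h11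
          exact zero_ne_one h11
        · rw [show p = (l, p.2) from Prod.ext hp rfl, h5 _ _ hp0 hx₀]; exact h8
    · rw [if_neg hp]; exact h3 p hp
  rw [hu] at h7
  rw [← mul_inv_eq_iff_eq_mul]
  exact h7

end core

/-- **LEMMA R** with `D`. -/
theorem lemR [Finite G] (h : Sit S P V M) (zv : zc (o2 P) ≤ V ⊔ DD M) (J : Set (Fin k)) {Y : Subgroup G}
    (hY : IsPGroup 2 Y) (hn : S0 h ≤ normalizer (Y : Set G))
    (h1 : ∀ y ∈ Y, y ∈ S0 h → ∀ p : Pt k m, p.1 ∉ J → pp M y p = p)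
    (h2 : ∀ j ∈ J, ∀ y ∈ Y, y * (sg h j).val = (sg h j).val * y) : Y ≤ S0 h := by
  have : Fact (Nat.Prime 2) := ⟨Nat.prime_two⟩
  have hS02 : IsPGroup 2 (S0 h) := S.isPGroup'.to_le (S0_le h)
  have hX : IsPGroup 2 (S0 h ⊔ Y : Subgroup G) := hS02.to_sup_of_normal_right' hY hn
  by_contra hcon
  have hlt : S0 h < S0 h ⊔ Y := by
    refine lt_of_le_of_ne le_sup_left fun h3 => hcon ?_
    rw [h3]
    exact le_sup_right
  obtain ⟨x, hx, hx1, hx2⟩ := Involutions.BaerSuzuki.exists_mem_normalizer_of_lt hX hlt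
  obtain ⟨s₀, hs₀, w, hw, rfl⟩ := mem_sup_norm hn hx
  have hwn : w ∈ normalizer (S0 h : Set G) := by
    have h3 : w = s₀⁻¹ * (s₀ * w) := by group
    rw [h3]
    exact mul_mem (inv_mem (le_normalizer hs₀)) hx2
  have hwS : w ∉ S0 h := fun h3 => hx1 (mul_mem hs₀ h3)
  have key : ∀ y ∈ Y, y ∈ normalizer (S0 h : Set G) → ∀ s ∈ S0 h,
      y * s * y⁻¹ ∈ S0 h ∧ ∀ p : Pt k m, p.1 ∉ J → pp M (y * s * y⁻¹) p = pp M s p := by
    intro y hy hyn s hs
    have h3 : y * s * y⁻¹ ∈ S0 h := (mem_normalizer_iff.1 hyn s).1 hs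
    refine ⟨h3, fun p hp => ?_⟩
    have h4 : y * s * y⁻¹ * s⁻¹ ∈ S0 h := mul_mem h3 (inv_mem hs)
    have h5 : y * s * y⁻¹ * s⁻¹ ∈ Y := by
      have h6 : s * y⁻¹ * s⁻¹ ∈ Y := (mem_normalizer_iff.1 (hn hs) _).1 (inv_mem hy)
      have h7 : y * s * y⁻¹ * s⁻¹ = y * (s * y⁻¹ * s⁻¹) := by group
      rw [h7]
      exact mul_mem hy h6
    have h6 : y * s * y⁻¹ = y * s * y⁻¹ * s⁻¹ * s := by group
    rw [h6, h.mul (h.SP (S0_le h h4)) (h.SP (S0_le h hs)), Equiv.Perm.mul_apply]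
    exact h1 _ h5 h4 _ (by rw [S0_fst h hs]; exact hp)
  have hwc : ∀ l, w * (sg h l).val = (sg h l).val * w := by
    intro l
    by_cases hl : l ∈ J
    · exact h2 l hl w hw
    · refine core h zv (key w hw hwn) (fun s hs => ?_) hl
      have h3 := key w⁻¹ (inv_mem hw) (inv_mem hwn) s hs
      rwa [inv_inv] at h3
  apply hwS
  have hX' : IsPGroup 2 (S0 h ⊔ zpowers w : Subgroup G) :=
    hX.to_le (sup_le_sup_left (zpowers_le.2 hw) _)
  refine syl_S0 h hX' ?_ le_sup_left (mem_sup_right (mem_zpowers w))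
  intro x hx l
  have h3 : S0 h ⊔ zpowers w ≤ centralizer ({(sg h l).val} : Set G) := by
    refine sup_le (fun s hs => ?_) (zpowers_le.2 ?_)
    · rw [mem_centralizer_singleton_iff]; exact S0_comm h hs l
    · rw [mem_centralizer_singleton_iff]; exact hwc l
  exact mem_centralizer_singleton_iff.1 (h3 hx)

/-- LEMMA R (a): `Y ∩ S⁰` trivial on `V`. -/
theorem lemR_a [Finite G] (h : Sit S P V M) (zv : zc (o2 P) ≤ V ⊔ DD M) {Y : Subgroup G} (hY : IsPGroup 2 Y)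
    (hn : S0 h ≤ normalizer (Y : Set G)) (h1 : ∀ y ∈ Y, y ∈ S0 h → y ∈ o2 P) : Y ≤ S0 h :=
  lemR h zv ∅ hY hn (fun y hy hy0 p _ => by
    rw [(h.mem_Q_iff (S0_le h hy0)).1 (h1 y hy hy0)]
    rfl) fun j hj => absurd hj (Set.notMem_empty j)

/-- LEMMA R (b): `Y ∩ S⁰` trivial on the summands `≠ i`, `Y` centralises `σ_i`. -/
theorem lemR_b [Finite G] (h : Sit S P V M) (zv : zc (o2 P) ≤ V ⊔ DD M) (i : Fin k) {Y : Subgroup G}
    (hY : IsPGroup 2 Y) (hn : S0 h ≤ normalizer (Y : Set G))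
    (h1 : ∀ y ∈ Y, y ∈ S0 h → ∀ p : Pt k m, p.1 ≠ i → pp M y p = p)
    (h2 : ∀ y ∈ Y, y * (sg h i).val = (sg h i).val * y) : Y ≤ S0 h :=
  lemR h zv {i} hY hn (fun y hy hy0 p hp => h1 y hy hy0 p hp) fun j hj y hy => by
    rw [Set.mem_singleton_iff.1 hj]
    exact h2 y hy

/-! ### (HF) -/

/-- **(HF)** with `D`: a 2-subgroup normalised by all elements of `P` inside the summands is in `O₂(P)`. -/
theorem HF [Finite G] (h : Sit S P V M) (zv : zc (o2 P) ≤ V ⊔ DD M) {O : Subgroup G} (hO : IsPGroup 2 O)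
    (hn : ∀ g ∈ P, (∀ p : Pt k m, (pp M g p).1 = p.1) → g ∈ normalizer (O : Set G)) : O ≤ o2 P := by
  have h1 : ∀ y ∈ O, y ∈ S0 h → y ∈ o2 P := by
    intro y hy hy0
    have hyP := h.SP (S0_le h hy0)
    rw [h.mem_Q_iff (S0_le h hy0)]
    ext1 p
    refine fix_block h hO p.1 (fun g hg hg1 => hn g hg fun r => ?_) hy hyP (S0_fst h hy0 _) rfl
    by_cases hr : r.1 = p.1
    · by_contra h2
      have h3 : (pp M g r).1 ≠ p.1 := by rw [← hr]; exact h2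
      have h4 := hg1 _ h3
      exact h2 (congrArg Prod.fst ((pp M g).injective h4))
    · rw [hg1 r hr]
  have h2 : O ≤ S0 h := lemR_a h zv hO (fun s hs => hn s (h.SP (S0_le h hs)) (S0_fst h hs)) h1
  exact fun y hy => h1 y hy (h2 hy)

/-- (HF) for `O₂(M₀)`. -/
theorem HF_o2 [Finite G] (h : Sit S P V M) (zv : zc (o2 P) ≤ V ⊔ DD M) {M₀ : Subgroup G}
    (hM : ∀ g ∈ P, (∀ p : Pt k m, (pp M g p).1 = p.1) → g ∈ M₀)
    (hc : M₀ ⊓ centralizer (o2 M₀ : Set G) ≤ o2 M₀) : o2 M₀ ≤ o2 P ∧ zc (o2 P) ≤ zc (o2 M₀) := by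
  have h1 : o2 M₀ ≤ o2 P := HF h zv (o2_isPGroup M₀) fun g hg hg1 => le_normalizer_o2 M₀ (hM g hg hg1)
  have h2 : ∀ v ∈ zc (o2 P), ∀ g ∈ o2 M₀, g * v = v * g := fun v hv g hg =>
    (mem_zc.1 hv).2.1 g (h1 hg)
  have hQ0 : ∀ v ∈ o2 P, v ∈ M₀ := fun v hv => hM v (o2_le P hv) fun p => by
    rw [(h.mem_Q_iff (h.QS hv)).1 hv]; rfl
  refine ⟨h1, fun v hv => mem_zc.2 ⟨hc ⟨hQ0 v (zc_le _ hv), mem_centralizer_iff.2 (h2 v hv)⟩, h2 v hv,
    (mem_zc.1 hv).2.2⟩⟩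

/-- (HF) for a 2-local subgroup. -/
theorem HF_nor [Finite G] (hG : IsCharacteristicTwoType G) (h : Sit S P V M) (zv : zc (o2 P) ≤ V ⊔ DD M)
    {B : Subgroup G} (hB : IsPGroup 2 B) (hB1 : B ≠ ⊥)
    (hM : ∀ g ∈ P, (∀ p : Pt k m, (pp M g p).1 = p.1) → g ∈ normalizer (B : Set G)) :
    o2 (normalizer (B : Set G)) ≤ o2 P ∧ zc (o2 P) ≤ zc (o2 (normalizer (B : Set G))) :=
  HF_o2 h zv hM (MinSimple.Basic.char2_normalizer hG hB hB1)

/-- the centraliser of an involution has characteristic 2 -/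
theorem char2_cent [Finite G] (hG : IsCharacteristicTwoType G) {e : G} (hee : e * e = 1) (he : e ≠ 1) :
    centralizer ({e} : Set G) ⊓ centralizer (o2 (centralizer ({e} : Set G)) : Set G) ≤
      o2 (centralizer ({e} : Set G)) := by
  have h2 : e ^ 2 = 1 := by rw [pow_two]; exact hee
  have h1 := MinSimple.Basic.char2_normalizer hG (U := zpowers e)
    (IsPGroup.iff_card.2 ⟨1, by
      rw [Nat.card_zpowers]; exact (orderOf_eq_prime h2 he).trans (pow_one 2).symm⟩)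
    (fun h0 => he (zpowers_eq_bot.1 h0))
  rwa [MinSimple.Basic.normalizer_zpowers_eq h2] at h1

/-- (HF) for `C_G(d)`, `d ∈ DD M`, `d ≠ 1`. -/
theorem HF_cent [Finite G] (hG : IsCharacteristicTwoType G) (h : Sit S P V M) (zv : zc (o2 P) ≤ V ⊔ DD M)
    {d : G} (hd : d ∈ DD M) (hd1 : d ≠ 1) :
    o2 (centralizer ({d} : Set G)) ≤ o2 P ∧ zc (o2 P) ≤ zc (o2 (centralizer ({d} : Set G))) :=
  HF_o2 h zv (fun g hg hg1 => mem_centralizer_singleton_iff.2 ((mem_DD.1 hd).2 g hg hg1))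
    (char2_cent hG (DD_sq hd) hd1)

end Cfsg.Agent.Omega.IId.SymWrD.Ht.RD
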